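import Groth.Agent.BiextTriv.ExtOne

/-!
A criterion for the vanishing of the first Ext sheaf: morphisms into the cokernel of an injective embedding lift locally.
-/

set_option autoImplicit false
set_option backward.isDefEq.respectTransparency false
set_option backward.isDefEq.respectTransparency.types false
set_option linter.style.haveILetI false

universe u

open CategoryTheory CategoryTheory.Limits Opposite

namespace Groth.Agent.GaExt

variable {C : Type (u + 1)} [Category.{u} C] (J : GrothendieckTopology C)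
  [HasSheafify J AddCommGrpCat.{u + 1}] [J.WEqualsLocallyBijective AddCommGrpCat.{u + 1}]
  [HasInjectiveResolutions (Sheaf J AddCommGrpCat.{u + 1})]

omit [J.WEqualsLocallyBijective AddCommGrpCat.{u + 1}] [HasInjectiveResolutions (Sheaf J AddCommGrpCat.{u + 1})] in
/-- A section of the internal Hom killed by `g` factors through the kernel of `g`. -/
theorem exists_kernel_factor {Q M N : Sheaf J AddCommGrpCat.{u + 1}} (g : M ⟶ N) (T : C)
    (y : (HomSh.homSh J Q M).obj.obj (op T)) (hy : ((HomSh.homShFunctor J Q).map g).hom.app (op T) y = 0) :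
    ∃ x : (HomSh.homSh J Q (kernel g)).obj.obj (op T),
      ((HomSh.homShFunctor J Q).map (kernel.ι g)).hom.app (op T) x = y := by
  have hy0 : ∀ (U : Over T) (q : Q.obj.obj (op U.left)), g.hom.app (op U.left) (y.hom.app (op U) q) = 0 :=
    fun U q => congrArg (fun χ : Q.over T ⟶ N.over T => χ.hom.app (op U) q) hy
  choose k hk using fun (U : Over T) (q : Q.obj.obj (op U.left)) =>
    BiextTriv.exists_of_fork J (kernel.ι g) g (kernel.condition g) (kernelIsKernel g) U.left
      (y.hom.app (op U) q) (hy0 U q)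
  refine ⟨⟨{
      app := fun U => AddCommGrpCat.ofHom (AddMonoidHom.mk' (fun q : Q.obj.obj (op U.unop.left) => k U.unop q)
        fun a b => BiextTriv.sect_injective J (kernel.ι g) _ ?_)
      naturality := fun U V t => AddCommGrpCat.ext fun q => BiextTriv.sect_injective J (kernel.ι g) _ ?_ }⟩, ?_⟩
  · exact (hk _ _).trans ((map_add (y.hom.app U).hom a b).trans
      ((congrArg₂ (· + ·) (hk _ a).symm (hk _ b).symm).trans (map_add ((kernel.ι g).hom.app (op U.unop.left)).hom _ _).symm))
  · refine (hk _ _).trans ((NatTrans.naturality_apply y.hom t q).trans ?_)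
    refine (congrArg (M.obj.map t.unop.left.op) (hk _ q).symm).trans ?_
    exact (NatTrans.naturality_apply (kernel.ι g).hom t.unop.left.op (k U.unop q)).symm
  · exact Sheaf.hom_ext (NatTrans.ext (funext fun U => AddCommGrpCat.ext fun q => hk U.unop q))

/-- If morphisms into the cokernel of every injective embedding of `G` lift locally, the first Ext sheaf vanishes. -/
theorem isZero_extSh_one (Q G : Sheaf J AddCommGrpCat.{u + 1})
    (h : ∀ (I K : Sheaf J AddCommGrpCat.{u + 1}) (ι : G ⟶ I) (π : I ⟶ K) (w : ι ≫ π = 0),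
      (ShortComplex.mk ι π w).ShortExact →
      ∀ (T : C) (x : (HomSh.homSh J Q K).obj.obj (op T)), ∃ R ∈ J T, ∀ ⦃T' : C⦄ (f : T' ⟶ T), R f →
        ∃ θ : (HomSh.homSh J Q I).obj.obj (op T'),
          ((HomSh.homShFunctor J Q).map π).hom.app (op T') θ = (HomSh.homSh J Q K).obj.map f.op x) :
    IsZero ((HomSh.extSh J Q 1).obj G) := by
  let P := injectiveResolution G
  let F := HomSh.homShFunctor J Q
  let X := P.cocomplex
  let j : kernel (X.d 1 2) ⟶ X.X 1 := kernel.ι _
  let π : X.X 0 ⟶ kernel (X.d 1 2) := kernel.lift _ (X.d 0 1) (X.d_comp_d 0 1 2)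
  let ι : G ⟶ X.X 0 := P.ι.f 0
  have hd : ι ≫ X.d 0 1 = 0 := P.ι_f_zero_comp_complex_d
  have hπ : π ≫ j = X.d 0 1 := kernel.lift_ι _ _ _
  have w : ι ≫ π = 0 := by rw [← cancel_mono j, Category.assoc, hπ, hd, zero_comp]
  have hK : IsLimit (KernelFork.ofι ι w) := KernelFork.IsLimit.ofι _ _
    (fun g hg => P.isLimitKernelFork.lift (KernelFork.ofι g (by
      change g ≫ X.d 0 1 = 0
      rw [← hπ, ← Category.assoc, hg, zero_comp])))
    (fun g hg => P.isLimitKernelFork.fac _ WalkingParallelPair.zero)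
    (fun g hg m hm => Fork.IsLimit.hom_ext P.isLimitKernelFork
      (hm.trans (P.isLimitKernelFork.fac (KernelFork.ofι g _) WalkingParallelPair.zero).symm))
  haveI : Epi π := (P.exact_succ 0).epi_kernelLift
  haveI : Mono ι := inferInstanceAs (Mono (P.ι.f 0))
  have hS : (ShortComplex.mk ι π w).ShortExact :=
    { exact := ShortComplex.exact_of_f_is_kernel _ hK }
  let Y := (F.mapHomologicalComplex _).obj X
  haveI : Sheaf.IsLocallySurjective (Y.toCycles 0 1) := by
    refine ⟨fun {T} c => ?_⟩
    obtain ⟨x, hx⟩ := exists_kernel_factor J (X.d 1 2) T ((Y.iCycles 1).hom.app (op T) c)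
      (congrArg (fun φ : Y.cycles 1 ⟶ Y.X 2 => φ.hom.app (op T) c) (Y.iCycles_d 1 2))
    obtain ⟨R, hR, hl⟩ := h _ _ ι π w hS T x
    refine J.superset_covering (fun T' f hf => ?_) hR
    obtain ⟨θ, hθ⟩ := hl f hf
    refine ⟨θ, BiextTriv.sect_injective J (Y.iCycles 1) T' ?_⟩
    refine Eq.trans ?_ (NatTrans.naturality_apply (Y.iCycles 1).hom f.op c).symm
    refine Eq.trans ?_ (congrArg ((Y.X 1).obj.map f.op) hx)
    refine Eq.trans ?_ (NatTrans.naturality_apply (F.map j).hom f.op x)
    refine Eq.trans ?_ (congrArg ((F.map j).hom.app (op T')) hθ)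
    have e : Y.toCycles 0 1 ≫ Y.iCycles 1 = F.map π ≫ F.map j := by
      rw [Y.toCycles_i, ← F.map_comp, hπ]
      rfl
    exact congrArg (fun φ : Y.X 0 ⟶ Y.X 1 => φ.hom.app (op T') θ) e
  haveI : Epi (Y.toCycles 0 1) := (Sheaf.isLocallySurjective_iff_epi' _ _).mp inferInstance
  have h0 : Y.homologyπ 1 = 0 := by
    rw [← cancel_epi (Y.toCycles 0 1), Y.toCycles_comp_homologyπ, comp_zero]
  let e : (HomSh.extSh J Q 1).obj G ≅ Y.homology 1 :=
    eqToIso (by rw [HomSh.extSh_def]) ≪≫ P.isoRightDerivedObj F 1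
  exact (IsZero.of_epi_eq_zero _ h0).of_iso e

end Groth.Agent.GaExt
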