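import Groth.Agent.GaExt.H1Ext
import Groth.Agent.GaExt.ExtShVanish

/-!
Exactness of internal Homs in the first variable.
-/

set_option autoImplicit false
set_option backward.isDefEq.respectTransparency false
set_option backward.isDefEq.respectTransparency.types false
set_option linter.style.haveILetI false

universe u

open CategoryTheory CategoryTheory.Limits AlgebraicGeometry Opposite

noncomputable section

namespace Groth.Agent.GaExt

variable {X : Scheme.{u}} {A B C G : BigSite.Ab Scheme.fppfPrecoverage X} {Y : Over X}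

theorem ov_comp (r : A.over Y ⟶ B.over Y) (s : B.over Y ⟶ C.over Y) {W : Over X} (a : W ⟶ Y)
    (e : BigSite.sect Scheme.fppfPrecoverage A W) : ov (r ≫ s) a e = ov s a (ov r a e) := rfl

theorem ov_map (f : A ⟶ B) {W : Over X} (a : W ⟶ Y) (e : BigSite.sect Scheme.fppfPrecoverage A W) :
    ov (((QuotSh.J Scheme.fppfPrecoverage X).overPullback AddCommGrpCat.{u + 1} Y).map f) a e = app f e := rfl

theorem ov_restrict {Z : Over X} (k : Z ⟶ Y) (r : A.over Y ⟶ B.over Y) {W : Over X} (a : W ⟶ Z)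
    (e : BigSite.sect Scheme.fppfPrecoverage A W) :
    ov ((HomSh.homSh (QuotSh.J Scheme.fppfPrecoverage X) A B).obj.map k.op r) a e = ov r (a ≫ k) e := rfl

/-- A morphism over `Y` killing the kernel factors through the quotient. -/
theorem exists_over_desc {f : A ⟶ B} {g : B ⟶ C} {w : f ≫ g = 0} (hS : (ShortComplex.mk f g w).ShortExact)
    (r : B.over Y ⟶ G.over Y)
    (hr : ∀ {W : Over X} (a : W ⟶ Y) (x : BigSite.sect Scheme.fppfPrecoverage A W), ov r a (app f x) = 0) :
    ∃ h : C.over Y ⟶ G.over Y, ∀ {W : Over X} (a : W ⟶ Y) (e : BigSite.sect Scheme.fppfPrecoverage B W),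
      ov h a (app g e) = ov r a e := by
  haveI : (P Y).IsLeftAdjoint := (BigSite.bigAdj Scheme.fppfPrecoverage Y.hom AddCommGrpCat.{u + 1}).isLeftAdjoint
  haveI : (P Y).IsRightAdjoint := (BigSite.shriekAbAdj Scheme.fppfPrecoverage Y.hom).isRightAdjoint
  haveI : PreservesFiniteLimits (P Y) := inferInstance
  haveI : PreservesFiniteColimits (P Y) := inferInstance
  have hT := hS.map_of_exact (P Y)
  haveI := hT.epi_g
  have h0 : (P Y).map f ≫ toP r = 0 := Sheaf.hom_ext (NatTrans.ext (funext fun W =>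
    AddCommGrpCat.ext fun x => hr (Over.homMk W.unop.hom rfl : (Over.map Y.hom).obj W.unop ⟶ Y) x))
  obtain ⟨μ, hμ⟩ : ∃ μ : (P Y).obj C ⟶ (P Y).obj G, (P Y).map g ≫ μ = toP r :=
    ⟨hT.exact.desc (toP r) h0, hT.exact.g_desc _ h0⟩
  refine ⟨ofP μ, fun {W} a e => ?_⟩
  rw [ofP_app, fam_map_comp g μ _ hμ, fam_toP]

/-- Restriction along an epimorphism is a monomorphism on internal Homs. -/
theorem mono_homShMap (g : B ⟶ C) [Epi g] :
    Mono (HomSh.homShMap (QuotSh.J Scheme.fppfPrecoverage X) g (𝟙 G)) := by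
  haveI : Sheaf.IsLocallySurjective g := (Sheaf.isLocallySurjective_iff_epi' _ g).2 inferInstance
  have h : ∀ Y, Function.Injective ((HomSh.homShMap (QuotSh.J Scheme.fppfPrecoverage X) g (𝟙 G)).hom.app Y) := by
    intro Y h h' e
    change C.over Y.unop ⟶ G.over Y.unop at h h'
    refine over_hom_ext fun {W} a c => sect_ext G _
      (Presheaf.imageSieve_mem (QuotSh.J Scheme.fppfPrecoverage X) g.hom (U := op W) c) _ _ fun {Z} k hk => ?_
    obtain ⟨b, hb⟩ := hk
    rw [← over_app_res, ← over_app_res, show res C k c = app g b from hb.symm]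
    exact congrArg (fun φ : B.over Y.unop ⟶ G.over Y.unop => ov φ (k ≫ a) b) e
  haveI : ∀ Y, Mono ((HomSh.homShMap (QuotSh.J Scheme.fppfPrecoverage X) g (𝟙 G)).hom.app Y) := fun Y =>
    (AddCommGrpCat.mono_iff_injective _).2 (h Y)
  haveI : Mono (HomSh.homShMap (QuotSh.J Scheme.fppfPrecoverage X) g (𝟙 G)).hom := NatTrans.mono_of_mono_app _
  haveI : Mono ((sheafToPresheaf _ _).map (HomSh.homShMap (QuotSh.J Scheme.fppfPrecoverage X) g (𝟙 G))) := ‹_›
  exact (sheafToPresheaf _ _).mono_of_mono_map ‹_›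

/-- The internal Hom is left exact in the first variable. -/
theorem exact_homShMap {f : A ⟶ B} {g : B ⟶ C} {w : f ≫ g = 0} (hS : (ShortComplex.mk f g w).ShortExact)
    (w' : HomSh.homShMap (QuotSh.J Scheme.fppfPrecoverage X) g (𝟙 G) ≫
      HomSh.homShMap (QuotSh.J Scheme.fppfPrecoverage X) f (𝟙 G) = 0) :
    (ShortComplex.mk _ _ w').Exact := by
  let J' := QuotSh.J Scheme.fppfPrecoverage X
  rw [ShortComplex.exact_iff_epi_kernel_lift]
  refine (Sheaf.isLocallySurjective_iff_epi' _ _).mp ⟨fun {Y} r' => ?_⟩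
  let S' := ShortComplex.mk _ _ w'
  let ν := kernel.lift S'.g S'.f S'.zero
  let r : B.over Y ⟶ G.over Y := (kernel.ι S'.g).hom.app (op Y) r'
  obtain ⟨h, hh⟩ := exists_over_desc hS r fun {W} a x =>
    congrArg (fun φ : A.over Y ⟶ G.over Y => ov φ a x)
      (congrArg (fun φ : kernel S'.g ⟶ HomSh.homSh J' A G => φ.hom.app (op Y) r') (kernel.condition S'.g))
  have h1 : ν.hom.app (op Y) h = r' := BiextTriv.sect_injective J' (kernel.ι S'.g) Y
    ((congrArg (fun φ : HomSh.homSh J' C G ⟶ HomSh.homSh J' B G => φ.hom.app (op Y) h)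
      (kernel.lift_ι S'.g S'.f S'.zero)).trans (over_hom_ext fun {W} a e => hh a e))
  refine GrothendieckTopology.superset_covering _ (fun Z k _ => ⟨(HomSh.homSh J' C G).obj.map k.op h, ?_⟩)
    (GrothendieckTopology.top_mem _ Y)
  exact (NatTrans.naturality_apply ν.hom k.op h).trans (congrArg _ h1)

/-- Restriction along a monomorphism is an epimorphism on internal Homs when the first Ext sheaf of the quotient
vanishes. -/
theorem epi_homShMap {f : A ⟶ B} {g : B ⟶ C} {w : f ≫ g = 0} (hS : (ShortComplex.mk f g w).ShortExact)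
    (hExt : IsZero ((HomSh.extSh (QuotSh.J Scheme.fppfPrecoverage X) C 1).obj G)) :
    Epi (HomSh.homShMap (QuotSh.J Scheme.fppfPrecoverage X) f (𝟙 G)) := by
  let J' := QuotSh.J Scheme.fppfPrecoverage X
  haveI : Mono f := hS.mono_f
  obtain ⟨I, K, ι, π, w', δ, hI, hι, ⟨hK⟩, -, hl⟩ := BiextTriv.exists_delta J' C G
  refine (Sheaf.isLocallySurjective_iff_epi' _ _).mp ⟨fun {Y} d => ?_⟩
  change A.over Y ⟶ G.over Y at d
  let pY := J'.overPullback AddCommGrpCat.{u + 1} Y
  haveI : Mono (pY.map f) := ⟨fun {Z} u v h => Sheaf.hom_ext (NatTrans.ext (funext fun U => AddCommGrpCat.ext fun e =>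
    BiextTriv.sect_injective J' f U.unop.left
      (congrArg (fun φ : Z ⟶ pY.obj B => φ.hom.app U e) h)))⟩
  obtain ⟨r, hr⟩ : ∃ r : B.over Y ⟶ I.over Y, pY.map f ≫ r = d ≫ pY.map ι :=
    ⟨Injective.factorThru (d ≫ pY.map ι) (pY.map f), Injective.comp_factorThru _ _⟩
  have hιπ : ∀ {W : Over X} (e : BigSite.sect Scheme.fppfPrecoverage G W), app π (app ι e) = 0 := fun {W} e =>
    ConcreteCategory.congr_hom (congrArg (fun q => q.hom.app (op W)) w') e
  obtain ⟨x, hx⟩ := exists_over_desc hS (r ≫ pY.map π) fun {W} a e => by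
    show app π (ov r a (app f e)) = 0
    rw [show ov r a (app f e) = app ι (ov d a e) from congrArg (fun φ : A.over Y ⟶ I.over Y => ov φ a e) hr]
    exact hιπ _
  obtain ⟨R, hR, hlift⟩ := hl Y x (congrArg (fun φ => φ.hom.app (op Y) x) (hExt.eq_zero_of_tgt δ))
  refine GrothendieckTopology.superset_covering _ (fun Z k hk => ?_) hR
  obtain ⟨θ, hθ⟩ := hlift k hk
  change C.over Z ⟶ I.over Z at θ
  let rk : B.over Z ⟶ I.over Z := (HomSh.homSh J' B I).obj.map k.op r
  let y : B.over Z ⟶ I.over Z := rk - (J'.overPullback AddCommGrpCat.{u + 1} Z).map g ≫ θ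
  have hy : ∀ {W : Over X} (a : W ⟶ Z) (e : BigSite.sect Scheme.fppfPrecoverage B W),
      ov y a e = ov r (a ≫ k) e - ov θ a (app g e) := fun a e => rfl
  have hy0 : ∀ {W : Over X} (a : W ⟶ Z) (e : BigSite.sect Scheme.fppfPrecoverage B W),
      app π (ov y a e) = 0 := fun {W} a e => by
    rw [hy, app, map_sub, sub_eq_zero]
    show app π (ov r (a ≫ k) e) = app π (ov θ a (app g e))
    have e1 : app π (ov θ a (app g e)) = ov x (a ≫ k) (app g e) :=
      congrArg (fun φ : C.over Z ⟶ K.over Z => ov φ a (app g e)) hθ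
    rw [e1, hx]
    rfl
  choose q hq using fun (U : Over Z) (e : BigSite.sect Scheme.fppfPrecoverage B U.left) =>
    BiextTriv.exists_of_fork J' ι π w' hK U.left (ov y U.hom e) (hy0 U.hom e)
  have hinj : ∀ (W : Over X) (u v : BigSite.sect Scheme.fppfPrecoverage G W), app ι u = app ι v → u = v :=
    fun W u v h => BiextTriv.sect_injective J' ι W h
  refine ⟨⟨{
      app := fun U => AddCommGrpCat.ofHom (X := BigSite.sect Scheme.fppfPrecoverage B U.unop.left)
        (Y := BigSite.sect Scheme.fppfPrecoverage G U.unop.left) (AddMonoidHom.mk'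
          (fun e => q U.unop e) (fun e e' => hinj _ _ _ (by
            refine (hq _ _).trans ?_
            rw [map_add]
            refine Eq.trans ?_ (map_add (ι.hom.app (op U.unop.left)).hom _ _).symm
            exact (congrArg₂ (· + ·) (hq _ e) (hq _ e')).symm)))
      naturality := fun U V j => AddCommGrpCat.ext fun e => hinj _ _ _ (by
        refine (hq _ _).trans ?_
        refine Eq.trans ?_ (app_res ι j.unop.left (q U.unop e)).symm
        refine Eq.trans ?_ (congrArg (res I j.unop.left) (hq _ e)).symm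
        rw [← over_app_res, Over.w j.unop]
        rfl) }⟩, over_hom_ext fun {W} a e => hinj _ _ _ ?_⟩
  refine (hq (Over.mk a) (app f e)).trans ?_
  show ov r (a ≫ k) (app f e) - ov θ a (app g (app f e)) = app ι (ov d (a ≫ k) e)
  rw [show app g (app f e) = 0 from ConcreteCategory.congr_hom (congrArg (fun q => q.hom.app (op W)) w) e, map_zero,
    sub_zero]
  exact congrArg (fun φ : A.over Y ⟶ I.over Y => ov φ (a ≫ k) e) hr

/-- The dual of a short exact sequence is short exact when the first Ext sheaf of the quotient vanishes. -/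
theorem shortExact_homShMap {f : A ⟶ B} {g : B ⟶ C} {w : f ≫ g = 0} (hS : (ShortComplex.mk f g w).ShortExact)
    (hExt : IsZero ((HomSh.extSh (QuotSh.J Scheme.fppfPrecoverage X) C 1).obj G))
    (w' : HomSh.homShMap (QuotSh.J Scheme.fppfPrecoverage X) g (𝟙 G) ≫
      HomSh.homShMap (QuotSh.J Scheme.fppfPrecoverage X) f (𝟙 G) = 0) :
    (ShortComplex.mk _ _ w').ShortExact :=
  haveI := hS.epi_g
  { exact := exact_homShMap hS w'
    mono_f := mono_homShMap g
    epi_g := epi_homShMap hS hExt }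

end Groth.Agent.GaExt

namespace Groth.Agent.GaExt

variable {X : Scheme.{u}} {A B C G : BigSite.Ab Scheme.fppfPrecoverage X}

theorem homShMap_comp_zero {f : A ⟶ B} {g : B ⟶ C} (w : f ≫ g = 0) :
    HomSh.homShMap (QuotSh.J Scheme.fppfPrecoverage X) g (𝟙 G) ≫
      HomSh.homShMap (QuotSh.J Scheme.fppfPrecoverage X) f (𝟙 G) = 0 := by
  rw [← HomSh.homShMap_comp, w, Category.id_comp]
  refine Sheaf.hom_ext (NatTrans.ext (funext fun Y => AddCommGrpCat.ext fun h => over_hom_ext fun {W} a x => ?_))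
  change C.over Y.unop ⟶ G.over Y.unop at h
  show ov h a 0 = 0
  exact map_zero _

theorem bidualMap_naturality (f : A ⟶ B) :
    f ≫ HomSh.bidualMap (QuotSh.J Scheme.fppfPrecoverage X) B G =
      HomSh.bidualMap (QuotSh.J Scheme.fppfPrecoverage X) A G ≫
        HomSh.homShMap (QuotSh.J Scheme.fppfPrecoverage X)
          (HomSh.homShMap (QuotSh.J Scheme.fppfPrecoverage X) f (𝟙 G)) (𝟙 G) := by
  refine Sheaf.hom_ext (NatTrans.ext (funext fun Y => AddCommGrpCat.ext fun s => over_hom_ext fun {W} a φ => ?_))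
  change B.over W ⟶ G.over W at φ
  exact congrArg (ov φ (𝟙 W)) (app_res f a s).symm

theorem isIso_middle {D : Type*} [Category D] [Abelian D] {S₁ S₂ : ShortComplex D} (φ : S₁ ⟶ S₂)
    (h : S₁.ShortExact) (h' : S₂.Exact) [Mono S₂.f] [IsIso φ.τ₁] [IsIso φ.τ₃] : IsIso φ.τ₂ := by
  haveI := h.mono_f
  haveI := h.epi_g
  haveI : Epi S₂.g := by
    haveI : Epi (φ.τ₂ ≫ S₂.g) := by rw [φ.comm₂₃]; infer_instance
    exact epi_of_epi φ.τ₂ S₂.g
  haveI : Mono φ.τ₂ := ShortComplex.mono_τ₂_of_exact_of_mono φ h.exact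
  haveI : Epi φ.τ₂ := ShortComplex.epi_τ₂_of_exact_of_epi φ h'
  exact isIso_of_mono_of_epi φ.τ₂

theorem isIso_middle' {D : Type*} [Category D] [Abelian D] {A B C A' B' C' : D} {f : A ⟶ B} {g : B ⟶ C}
    {w : f ≫ g = 0} {f' : A' ⟶ B'} {g' : B' ⟶ C'} {w' : f' ≫ g' = 0} {a : A ⟶ A'} {b : B ⟶ B'} {c : C ⟶ C'}
    (h : (ShortComplex.mk f g w).ShortExact) (h' : (ShortComplex.mk f' g' w').Exact) (hf : Mono f')
    (h₁ : IsIso a) (h₃ : IsIso c) (e₁ : f ≫ b = a ≫ f') (e₂ : g ≫ c = b ≫ g') : IsIso b :=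
  @isIso_middle _ _ _ (ShortComplex.mk f g w) (ShortComplex.mk f' g' w')
    { τ₁ := a, τ₂ := b, τ₃ := c, comm₁₂ := e₁.symm, comm₂₃ := e₂.symm } h h' hf h₁ h₃

/-- Biduality passes to extensions when the first Ext sheaf of the quotient vanishes. -/
theorem isIso_bidualMap_middle {f : A ⟶ B} {g : B ⟶ C} {w : f ≫ g = 0} (hS : (ShortComplex.mk f g w).ShortExact)
    (hExt : IsZero ((HomSh.extSh (QuotSh.J Scheme.fppfPrecoverage X) C 1).obj G))
    (h₁ : IsIso (HomSh.bidualMap (QuotSh.J Scheme.fppfPrecoverage X) A G))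
    (h₃ : IsIso (HomSh.bidualMap (QuotSh.J Scheme.fppfPrecoverage X) C G)) :
    IsIso (HomSh.bidualMap (QuotSh.J Scheme.fppfPrecoverage X) B G) :=
  isIso_middle' hS
    (exact_homShMap (shortExact_homShMap (G := G) hS hExt (homShMap_comp_zero w))
      (homShMap_comp_zero (homShMap_comp_zero w)))
    (@mono_homShMap _ _ _ _ _ (shortExact_homShMap (G := G) hS hExt (homShMap_comp_zero w)).epi_g)
    h₁ h₃ (bidualMap_naturality f) (bidualMap_naturality g)

end Groth.Agent.GaExt
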