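import Groth.Agent.GaExt.H1Dual
import Groth.Agent.BiextTriv.Inj

/-!
`H¹` of an internal Hom vanishes when the first `Ext` group vanishes.
-/

set_option autoImplicit false
set_option backward.isDefEq.respectTransparency false
set_option backward.isDefEq.respectTransparency.types false
set_option linter.style.haveILetI false

universe u

open CategoryTheory CategoryTheory.Limits CategoryTheory.Abelian AlgebraicGeometry Opposite

noncomputable section

namespace Groth.Agent.GaExt

variable {X : Scheme.{u}} {E F G : BigSite.Ab Scheme.fppfPrecoverage X} {Y : Over X}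

/-- The value of a morphism over `Y` at an object over `Y`. -/
def ov (d : E.over Y ⟶ F.over Y) {W : Over X} (a : W ⟶ Y) :
    BigSite.sect Scheme.fppfPrecoverage E W →+ BigSite.sect Scheme.fppfPrecoverage F W :=
  (d.hom.app (op (Over.mk a))).hom

/-- Morphisms over `Y` are determined by their values on all objects over `Y`. -/
theorem over_hom_ext {d d' : E.over Y ⟶ F.over Y}
    (h : ∀ {W : Over X} (a : W ⟶ Y) (e : BigSite.sect Scheme.fppfPrecoverage E W), ov d a e = ov d' a e) : d = d' :=
  Sheaf.hom_ext (NatTrans.ext (funext fun U => AddCommGrpCat.ext fun e => h U.unop.hom e))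

theorem over_app_res (d : E.over Y ⟶ F.over Y) {W Z : Over X} (k : Z ⟶ W) (a : W ⟶ Y)
    (e : BigSite.sect Scheme.fppfPrecoverage E W) :
    ov d (k ≫ a) (res E k e) = res F k (ov d a e) :=
  NatTrans.naturality_apply d.hom (Over.homMk k : Over.mk (k ≫ a) ⟶ Over.mk a).op e

/-- A morphism over `Y` as a morphism of restricted sheaves. -/
def toP (d : E.over Y ⟶ F.over Y) : (P Y).obj E ⟶ (P Y).obj F :=
  ofFam (fun {W} a => ov d a) (fun k a e => over_app_res d k a e)

theorem fam_toP (d : E.over Y ⟶ F.over Y) {W : Over X} (a : W ⟶ Y)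
    (e : BigSite.sect Scheme.fppfPrecoverage E W) : fam (toP d) a e = ov d a e := by
  rw [toP, fam_ofFam]

/-- A morphism of restricted sheaves as a morphism over `Y`. -/
def ofP (r : (P Y).obj E ⟶ (P Y).obj F) : E.over Y ⟶ F.over Y :=
  ⟨{ app := fun U => AddCommGrpCat.ofHom (X := BigSite.sect Scheme.fppfPrecoverage E U.unop.left)
      (Y := BigSite.sect Scheme.fppfPrecoverage F U.unop.left) (fam r U.unop.hom)
     naturality := fun U V k => AddCommGrpCat.ext fun e => by
      have h := fam_res r k.unop.left U.unop.hom e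
      rw [Over.w k.unop] at h
      exact h }⟩

theorem ofP_app (r : (P Y).obj E ⟶ (P Y).obj F) {W : Over X} (a : W ⟶ Y)
    (e : BigSite.sect Scheme.fppfPrecoverage E W) : ov (ofP r) a e = fam r a e := rfl

/-- The comparison of constant sheaves carries one to one. -/
theorem pullConst_one (W : Over Y.left) :
    ((HRes.pullConst Scheme.fppfPrecoverage Y.hom (AddCommGrpCat.of (ULift.{u + 1} ℤ))).hom.hom.app (op W)).hom
      (one ((Over.map Y.hom).obj W)) = one W := by
  let q := HRes.pullConst Scheme.fppfPrecoverage Y.hom (AddCommGrpCat.of (ULift.{u + 1} ℤ))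
  have h : (q.inv.hom.app (op W)).hom (one W) = one ((Over.map Y.hom).obj W) :=
    ConcreteCategory.congr_hom (NatTrans.congr_app ((Over.map Y.hom).toSheafify_pullbackSheafificationCompatibility
      AddCommGrpCat.{u + 1} (QuotSh.J Scheme.fppfPrecoverage Y.left) (QuotSh.J Scheme.fppfPrecoverage X) (cP X))
      (op W)) ⟨1⟩
  rw [← h]
  exact ConcreteCategory.congr_hom (congrArg (fun φ => φ.hom.app (op W)) q.inv_hom_id) (one W)

/-- A section gives a morphism from the constant sheaf over its object. -/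
theorem exists_homZ (g : BigSite.sect Scheme.fppfPrecoverage F Y) :
    ∃ h : (cZ X).over Y ⟶ F.over Y, ov h (𝟙 Y) (one Y) = g := by
  obtain ⟨φ, hφ⟩ := exists_hom_one (X := Y.left) ((P Y).obj F) (res F (κ' (𝟙 Y)) g)
  let q := HRes.pullConst Scheme.fppfPrecoverage Y.hom (AddCommGrpCat.of (ULift.{u + 1} ℤ))
  refine ⟨ofP (q.hom ≫ φ), ?_⟩
  rw [ofP_app, fam_apply, res_one]
  have e : ((q.hom ≫ φ).hom.app (op (Over.mk (𝟙 Y.left)))).hom (one (toW (𝟙 Y))) = res F (κ' (𝟙 Y)) g := by
    refine Eq.trans ?_ hφ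
    exact congrArg (φ.hom.app (op (Over.mk (𝟙 Y.left)))).hom (pullConst_one (Over.mk (𝟙 Y.left)))
  refine (congrArg (res F (κ (𝟙 Y))) e).trans ?_
  rw [res_res, κ_κ', res_id]

/-- Morphisms from the constant sheaf are determined by their value at one. -/
theorem homZ_ext {h h' : (cZ X).over Y ⟶ F.over Y}
    (e : ov h (𝟙 Y) (one Y) = ov h' (𝟙 Y) (one Y)) : h = h' := by
  have key : ∀ (d : (cZ X).over Y ⟶ F.over Y) {W : Over X} (a : W ⟶ Y),
      ov d a (one W) = res F a (ov d (𝟙 Y) (one Y)) := fun d W a => by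
    rw [← res_one a, ← over_app_res, Category.comp_id]
  refine over_hom_ext fun {W} a s => ?_
  obtain ⟨R, hR, hl⟩ := exists_local_int s
  refine sect_ext F R hR _ _ fun {Z} k hk => ?_
  obtain ⟨n, hn⟩ := hl k hk
  rw [← over_app_res, ← over_app_res, hn]
  refine (map_zsmul (ov h _) n (one Z)).trans (Eq.trans ?_ (map_zsmul (ov h' _) n (one Z)).symm)
  exact congrArg (fun x => n • x) ((key h _).trans ((congrArg (res F _) e).trans (key h' _).symm))

/-- Evaluation commutes with restriction. -/
theorem ev_res {W Z : Over X} (k : Z ⟶ W) (d : E.over W ⟶ F.over W) (e : BigSite.sect Scheme.fppfPrecoverage E W) :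
    HomSh.ev _ ((HomSh.homSh (QuotSh.J Scheme.fppfPrecoverage X) E F).obj.map k.op d) (res E k e) =
      res F k (HomSh.ev _ d e) := by
  show ov d (𝟙 Z ≫ k) (res E k e) = res F k (ov d (𝟙 W) e)
  rw [← over_app_res, Category.id_comp, Category.comp_id]

/-- Evaluation at one. -/
def evOne (G : BigSite.Ab Scheme.fppfPrecoverage X) :
    HomSh.homSh (QuotSh.J Scheme.fppfPrecoverage X) (cZ X) G ⟶ G :=
  ⟨{ app := fun Y => AddCommGrpCat.ofHom (X := (cZ X).over Y.unop ⟶ G.over Y.unop)
      (Y := BigSite.sect Scheme.fppfPrecoverage G Y.unop)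
      (AddMonoidHom.mk' (fun h => HomSh.ev _ h (one Y.unop)) (fun _ _ => rfl))
     naturality := fun Y Z k => AddCommGrpCat.ext fun h => by
      show HomSh.ev _ _ (one Z.unop) = res G k.unop (HomSh.ev _ h (one Y.unop))
      rw [← ev_res, res_one]
      rfl }⟩

theorem isIso_evOne : IsIso (evOne G) := by
  haveI : ∀ Y, IsIso ((evOne G).hom.app Y) := fun Y =>
    (ConcreteCategory.isIso_iff_bijective _).2 ⟨fun h h' e => homZ_ext e, fun g => by
      obtain ⟨h, hh⟩ := exists_homZ (Y := Y.unop) g
      exact ⟨h, hh⟩⟩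
  haveI : IsIso (evOne G).hom := NatIso.isIso_of_isIso_app _
  haveI : IsIso ((sheafToPresheaf _ _).map (evOne G)) := ‹_›
  exact isIso_of_fully_faithful (sheafToPresheaf _ _) _

variable {D : BigSite.Ab Scheme.fppfPrecoverage X} {fE : D ⟶ E} {π : E ⟶ cZ X} {z : fE ≫ π = 0}

/-- Restriction of morphisms along an extension by the constant sheaf is an epimorphism. -/
theorem epi_restrict (hS : (ShortComplex.mk fE π z).ShortExact) :
    Epi (HomSh.homShMap (QuotSh.J Scheme.fppfPrecoverage X) fE (𝟙 G)) := by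
  haveI : Mono fE := hS.mono_f
  haveI : Epi π := hS.epi_g
  haveI : Sheaf.IsLocallySurjective π := (Sheaf.isLocallySurjective_iff_epi' _ π).2 inferInstance
  refine (Sheaf.isLocallySurjective_iff_epi' _ _).mp ⟨fun {Y} d => ?_⟩
  refine GrothendieckTopology.superset_covering _ (fun Z k hk => ?_)
    (Presheaf.imageSieve_mem (QuotSh.J Scheme.fppfPrecoverage X) π.hom (U := op Y) (one Y))
  change D.over Y ⟶ G.over Y at d
  obtain ⟨e0, he0⟩ := hk
  replace he0 : app π e0 = one Z := he0.trans (res_one k)
  obtain ⟨μ, hμ⟩ := exists_homZ e0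
  have hμπ : μ ≫ ((QuotSh.J Scheme.fppfPrecoverage X).overPullback _ Z).map π = 𝟙 _ :=
    homZ_ext ((congrArg (app π) hμ).trans he0)
  have hk0 : ∀ {W : Over X} (a : W ⟶ Z) (e : BigSite.sect Scheme.fppfPrecoverage E W),
      ∃ t, app fE t = e - ov μ a (app π e) := fun {W} a e => exact_sect hS W _ (by
    show (π.hom.app _).hom (_ - _) = 0
    rw [map_sub, sub_eq_zero]
    exact (congrArg (fun φ => ov φ a (app π e)) hμπ).symm)
  choose t ht using @hk0
  have hinj : ∀ (W : Over X) (x y : BigSite.sect Scheme.fppfPrecoverage D W), app fE x = app fE y → x = y :=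
    fun W x y h => BiextTriv.sect_injective _ fE W h
  have t_add : ∀ {W : Over X} (a : W ⟶ Z) (e e' : BigSite.sect Scheme.fppfPrecoverage E W),
      t a (e + e') = t a e + t a e' := fun {W} a e e' => hinj W _ _ (by
    rw [ht, app, map_add, map_add, app, map_add]
    show _ = app fE _ + app fE _
    rw [ht, ht]
    abel)
  have t_res : ∀ {W W' : Over X} (j : W' ⟶ W) (a : W ⟶ Z) (e : BigSite.sect Scheme.fppfPrecoverage E W),
      t (j ≫ a) (res E j e) = res D j (t a e) := fun {W W'} j a e => hinj W' _ _ (by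
    rw [ht, app_res fE, ht]
    show res E j e - _ = (E.obj.map j.op).hom (_ - _)
    rw [map_sub, app_res π]
    exact congrArg (fun x => res E j e - x) (over_app_res μ j a (app π e)))
  refine ⟨⟨{
      app := fun U => AddCommGrpCat.ofHom (X := BigSite.sect Scheme.fppfPrecoverage E U.unop.left)
        (Y := BigSite.sect Scheme.fppfPrecoverage G U.unop.left) (AddMonoidHom.mk'
          (fun e => ov d (U.unop.hom ≫ k) (t U.unop.hom e))
          (fun e e' => (congrArg (ov d _) (t_add _ e e')).trans (map_add (ov d _) _ _)))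
      naturality := fun U V j => AddCommGrpCat.ext fun e => ?_ }⟩, over_hom_ext fun {W} a x => ?_⟩
  · show ov d (V.unop.hom ≫ k) (t V.unop.hom (res E j.unop.left e)) =
      res G j.unop.left (ov d (U.unop.hom ≫ k) (t U.unop.hom e))
    rw [← over_app_res, ← t_res, ← Category.assoc, Over.w j.unop]
  · show ov d (a ≫ k) (t a (app fE x)) = ov d (a ≫ k) x
    refine congrArg _ (hinj W _ _ ?_)
    rw [ht]
    have hz : app π (app fE x) = 0 := ConcreteCategory.congr_hom (congrArg (fun q => q.hom.app (op W)) z) x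
    rw [hz]
    rw [map_zero, sub_zero]

/-- The kernel of restriction along an extension by the constant sheaf is the sheaf itself. -/
theorem nonempty_kernel_restrict_iso (hS : (ShortComplex.mk fE π z).ShortExact) :
    Nonempty (kernel (HomSh.homShMap (QuotSh.J Scheme.fppfPrecoverage X) fE (𝟙 G)) ≅ G) := by
  haveI := isIso_evOne (G := G)
  haveI : Epi π := hS.epi_g
  haveI : Sheaf.IsLocallySurjective π := (Sheaf.isLocallySurjective_iff_epi' _ π).2 inferInstance
  let J' := QuotSh.J Scheme.fppfPrecoverage X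
  let rs := HomSh.homShMap J' fE (𝟙 G)
  let ps := HomSh.homShMap J' π (𝟙 G)
  let ν := kernel.lift rs ps (by
    show HomSh.homShMap J' π (𝟙 G) ≫ HomSh.homShMap J' fE (𝟙 G) = 0
    rw [← HomSh.homShMap_comp, z, Category.id_comp]
    refine Sheaf.hom_ext (NatTrans.ext (funext fun Y => AddCommGrpCat.ext fun h =>
      over_hom_ext fun {W} a x => ?_))
    show ov h a 0 = 0
    exact map_zero _)
  have hν : ∀ (Y : Over X) h, (kernel.ι rs).hom.app (op Y) (ν.hom.app (op Y) h) = ps.hom.app (op Y) h :=
    fun Y h => congrArg (fun φ : HomSh.homSh J' (cZ X) G ⟶ HomSh.homSh J' E G => φ.hom.app (op Y) h)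
      (kernel.lift_ι rs ps _)
  haveI : ∀ Y, IsIso (ν.hom.app Y) := fun Y => by
    refine (ConcreteCategory.isIso_iff_bijective _).2 ⟨fun h h' e => ?_, fun r' => ?_⟩
    · have e' := (hν Y.unop h).symm.trans ((congrArg ((kernel.ι rs).hom.app Y) e).trans (hν Y.unop h'))
      change (cZ X).over Y.unop ⟶ G.over Y.unop at h h'
      refine homZ_ext (sect_ext G _ (Presheaf.imageSieve_mem J' π.hom (U := Y) (one Y.unop)) _ _ fun {Z} k hk => ?_)
      obtain ⟨e0, he0⟩ := hk
      rw [← over_app_res, ← over_app_res, show res (cZ X) k (one Y.unop) = app π e0 from he0.symm]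
      exact congrArg (fun φ : E.over Y.unop ⟶ G.over Y.unop => ov φ (k ≫ 𝟙 _) e0) e'
    · let r : E.over Y.unop ⟶ G.over Y.unop := (kernel.ι rs).hom.app Y r'
      have hr : ∀ {W : Over X} (a : W ⟶ Y.unop) (x : BigSite.sect Scheme.fppfPrecoverage D W),
          ov r a (app fE x) = 0 := fun {W} a x =>
        congrArg (fun φ : D.over Y.unop ⟶ G.over Y.unop => ov φ a x)
          (congrArg (fun φ : kernel rs ⟶ HomSh.homSh J' D G => φ.hom.app Y r') (kernel.condition rs))
      haveI : (P Y.unop).IsLeftAdjoint :=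
        (BigSite.bigAdj Scheme.fppfPrecoverage Y.unop.hom AddCommGrpCat.{u + 1}).isLeftAdjoint
      haveI : (P Y.unop).IsRightAdjoint :=
        (BigSite.shriekAbAdj Scheme.fppfPrecoverage Y.unop.hom).isRightAdjoint
      haveI : PreservesFiniteLimits (P Y.unop) := inferInstance
      haveI : PreservesFiniteColimits (P Y.unop) := inferInstance
      have hT := hS.map_of_exact (P Y.unop)
      haveI := hT.epi_g
      have h0 : (P Y.unop).map fE ≫ toP r = 0 := Sheaf.hom_ext (NatTrans.ext (funext fun W =>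
        AddCommGrpCat.ext fun x =>
          hr (Over.homMk W.unop.hom rfl : (Over.map Y.unop.hom).obj W.unop ⟶ Y.unop) x))
      obtain ⟨μ, hμ⟩ : ∃ μ : (P Y.unop).obj (cZ X) ⟶ (P Y.unop).obj G, (P Y.unop).map π ≫ μ = toP r :=
        ⟨hT.exact.desc (toP r) h0, hT.exact.g_desc _ h0⟩
      refine ⟨ofP μ, BiextTriv.sect_injective J' (kernel.ι rs) Y.unop
        ((hν Y.unop (ofP μ)).trans (over_hom_ext fun {W} a e => ?_))⟩
      show ov (ofP μ) a (app π e) = ov r a e
      rw [ofP_app, fam_map_comp π μ _ hμ, fam_toP]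
  haveI : IsIso ν.hom := NatIso.isIso_of_isIso_app _
  haveI : IsIso ((sheafToPresheaf _ _).map ν) := ‹_›
  haveI : IsIso ν := isIso_of_fully_faithful (sheafToPresheaf _ _) _
  exact ⟨(asIso ν).symm ≪≫ asIso (evOne G)⟩

/-- The first cohomology of an internal Hom vanishes when the first Ext group vanishes. -/
theorem subsingleton_H_one_homSh (Q G : BigSite.Ab Scheme.fppfPrecoverage X) (hExt : Subsingleton (Ext Q G 1)) :
    Subsingleton (BigSite.H Scheme.fppfPrecoverage X (HomSh.homSh (QuotSh.J Scheme.fppfPrecoverage X) Q G) 1) := by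
  refine subsingleton_of_forall_eq 0 fun x => ?_
  let J' := QuotSh.J Scheme.fppfPrecoverage X
  let D := HomSh.homSh J' Q G
  let i := Injective.ι D
  let S₀ := ShortComplex.mk i (cokernel.π i) (cokernel.condition i)
  have hS₀ : S₀.ShortExact := { exact := ShortComplex.exact_cokernel i }
  obtain ⟨c₀, hc⟩ := Ext.covariant_sequence_exact₁ _ hS₀ x
    (haveI : Injective S₀.X₂ := inferInstanceAs (Injective (Injective.under D)); Ext.eq_zero_of_injective _) (zero_add 1)
  obtain ⟨c₀, rfl⟩ := (Ext.mk₀_bijective _ _).2 c₀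
  obtain ⟨E, fE, π, pr, z, hT, -, -, hcl⟩ := GalNorm.exists_pullback_ext hS₀ c₀
  rw [← hc, ← hcl]
  clear hc hcl
  let rs : HomSh.homSh J' E G ⟶ HomSh.homSh J' D G := HomSh.homShMap J' fE (𝟙 G)
  obtain ⟨j⟩ := nonempty_kernel_restrict_iso (G := G) hT
  haveI : Epi rs := epi_restrict hT
  let S₁ := ShortComplex.mk (kernel.ι rs) rs (kernel.condition rs)
  have hS₁ : S₁.ShortExact := { exact := ShortComplex.exact_kernel rs }
  obtain ⟨σ, hσ⟩ := Ext.covariant_sequence_exact₃ _ hS₁ (Ext.mk₀ (HomSh.bidualMap J' Q G)) (zero_add 1)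
    (haveI := ext_subsingleton_of_iso j hExt; Subsingleton.elim (α := Ext Q (kernel rs) 1) _ _)
  obtain ⟨σ, rfl⟩ := (Ext.mk₀_bijective _ _).2 σ
  rw [Ext.mk₀_comp_mk₀] at hσ
  have hσ' : σ ≫ rs = HomSh.bidualMap J' Q G := (Ext.mk₀_bijective _ _).1 hσ
  let val : ∀ (W : Over X), BigSite.sect Scheme.fppfPrecoverage Q W →
      BigSite.sect Scheme.fppfPrecoverage E W → BigSite.sect Scheme.fppfPrecoverage G W :=
    fun W q e => HomSh.ev J' (σ.hom.app (op W) q) e
  have val_res : ∀ {W Z : Over X} (k : Z ⟶ W) q e, val Z (res Q k q) (res E k e) = res G k (val W q e) :=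
    fun {W Z} k q e => (congrArg (fun φ => HomSh.ev J' φ (res E k e))
      (NatTrans.naturality_apply σ.hom k.op q)).trans (ev_res k _ e)
  let Φ : E ⟶ D :=
    ⟨{ app := fun Y => AddCommGrpCat.ofHom (X := BigSite.sect Scheme.fppfPrecoverage E Y.unop)
        (Y := Q.over Y.unop ⟶ G.over Y.unop) (AddMonoidHom.mk'
          (fun e => ⟨{
            app := fun U => AddCommGrpCat.ofHom (X := BigSite.sect Scheme.fppfPrecoverage Q U.unop.left)
              (Y := BigSite.sect Scheme.fppfPrecoverage G U.unop.left) (AddMonoidHom.mk'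
                (fun q => val U.unop.left q (res E U.unop.hom e))
                (fun q q' => (congrArg (fun φ => HomSh.ev J' φ (res E U.unop.hom e))
                  (map_add (σ.hom.app (op U.unop.left)).hom q q')).trans rfl))
            naturality := fun U V j => AddCommGrpCat.ext fun q => by
              show val V.unop.left (res Q j.unop.left q) (res E V.unop.hom e) =
                res G j.unop.left (val U.unop.left q (res E U.unop.hom e))
              rw [← val_res, res_res, Over.w j.unop] }⟩)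
          (fun e e' => over_hom_ext fun {W} a q => by
            show val W q (res E a (e + e')) = val W q (res E a e) + val W q (res E a e')
            exact (congrArg (val W q) (map_add (E.obj.map a.op).hom e e')).trans
              (map_add (HomSh.ev J' (σ.hom.app (op W) q)) _ _)))
       naturality := fun Y Z k => AddCommGrpCat.ext fun e => over_hom_ext fun {W} a q => by
        show val W q (res E a (res E k.unop e)) = val W q (res E (a ≫ k.unop) e)
        rw [res_res] }⟩
  have hΦ : fE ≫ Φ = 𝟙 D := by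
    refine Sheaf.hom_ext (NatTrans.ext (funext fun Y => AddCommGrpCat.ext fun d =>
      over_hom_ext fun {W} a q => ?_))
    change Q.over Y.unop ⟶ G.over Y.unop at d
    show val W q (res E a (app fE d)) = ov d a q
    rw [← app_res]
    refine (congrArg (fun φ : D.over W ⟶ G.over W => ov φ (𝟙 W) (res D a d))
      (congrArg (fun φ : Q ⟶ HomSh.homSh J' D G => φ.hom.app (op W) q) hσ')).trans ?_
    show ov d (𝟙 W ≫ a) (res Q (𝟙 W) q) = _
    rw [res_id, Category.id_comp]
  have h0 := congrArg (fun q => hT.extClass.comp (Ext.mk₀ q) (add_zero 1)) hΦ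
  rw [← Ext.mk₀_comp_mk₀, ← Ext.comp_assoc_of_third_deg_zero] at h0
  erw [hT.extClass_comp] at h0
  rw [Ext.zero_comp] at h0
  exact (h0.trans (Ext.comp_mk₀_id _)).symm

end Groth.Agent.GaExt
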