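import Groth.Agent.LBDesc.Ring
import Mathlib.Algebra.Polynomial.HasseDeriv
import Mathlib.RingTheory.Nilpotent.Basic
import Mathlib.Algebra.CharP.Lemmas
import Mathlib.Algebra.CharP.Invertible
import Mathlib.Algebra.CharP.Reduced
import Mathlib.Algebra.CharP.Algebra
import Mathlib.RingTheory.Polynomial.Nilpotent

/-!
Unit cocycles whose `p`-th power is a coboundary, over rings with perfect enough reduction.
-/

set_option autoImplicit false

universe u

open TensorProduct

noncomputable section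

namespace Groth.Agent.GaExt

/-- Sets of elements generating the unit ideal whose quotients are `p`-th powers consist of `p`-th powers. -/
def RootKey (p : ℕ) (Q : Type u) [CommRing Q] : Prop :=
  ∀ s : Set Q, Ideal.span s = ⊤ → (∀ a ∈ s, ∀ b ∈ s, ∃ w, b * a ^ (p - 1) = w ^ p) → ∀ a ∈ s, ∃ w, a = w ^ p

theorem rootKey_of_surjective {p : ℕ} {Q : Type u} [CommRing Q] (h : ∀ a : Q, ∃ w, a = w ^ p) : RootKey p Q :=
  fun _ _ _ a _ => h a

section Poly

open Polynomial

variable {p : ℕ} [Fact p.Prime] {R : Type u} [CommRing R] [IsReduced R] [CharP R p]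

theorem iterate_derivative_char (q : R[X]) : derivative^[p] q = 0 := by
  have h := congrFun (Polynomial.factorial_smul_hasseDeriv (R := R) p) q
  rw [← h, LinearMap.smul_apply, nsmul_eq_mul]
  have : ((Nat.factorial p : ℕ) : R[X]) = 0 :=
    (CharP.cast_eq_zero_iff R[X] p _).2 (Nat.dvd_factorial (Fact.out : p.Prime).pos le_rfl)
  rw [this, zero_mul]

/-- The operators attached to a logarithmic derivative. -/
def logIter (P : R[X]) : ℕ → R[X]
  | 0 => 1
  | k + 1 => derivative (logIter P k) + logIter P k * P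

theorem logIter_apply (P q : R[X]) (hq : derivative q = P * q) (k : ℕ) :
    derivative^[k] q = logIter P k * q := by
  induction k with
  | zero => simp [logIter]
  | succ k ih =>
    rw [Function.iterate_succ_apply', ih, derivative_mul, hq, logIter]
    ring

theorem logIter_degree (P : R[X]) (k : ℕ) :
    (logIter P k).natDegree ≤ k * P.natDegree ∧
      (logIter P k).coeff (k * P.natDegree) = P.leadingCoeff ^ k := by
  induction k with
  | zero => simp [logIter]
  | succ k ih =>
    have hd : (derivative (logIter P k)).natDegree ≤ k * P.natDegree :=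
      (natDegree_derivative_le _).trans (by omega)
    have hm : (logIter P k * P).natDegree ≤ (k + 1) * P.natDegree :=
      natDegree_mul_le.trans (by rw [add_one_mul]; omega)
    refine ⟨(natDegree_add_le _ _).trans (max_le (hd.trans (by rw [add_one_mul]; omega)) hm), ?_⟩
    rw [logIter, coeff_add, coeff_derivative, add_one_mul,
      coeff_eq_zero_of_natDegree_lt (by omega), zero_mul, zero_add,
      coeff_mul_add_eq_of_natDegree_le ih.1 le_rfl, ih.2, pow_succ, coeff_natDegree]

theorem isReduced_polynomial : IsReduced R[X] :=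
  ⟨fun q h => Polynomial.ext fun n => by
    rw [coeff_zero]
    exact (Polynomial.isNilpotent_iff.1 h n).eq_zero⟩

theorem derivative_eq_zero (s : Set R[X]) (hs : Ideal.span s = ⊤)
    (hpair : ∀ a ∈ s, ∀ b ∈ s, ∃ w, b * a ^ (p - 1) = w ^ p) : ∀ a ∈ s, derivative a = 0 := by
  haveI := isReduced_polynomial (R := R)
  have hp := (Fact.out : p.Prime)
  have hcast : ((p - 1 : ℕ) : R[X]) = -1 := by
    rw [Nat.cast_sub hp.one_le, CharP.cast_eq_zero R[X] p, Nat.cast_one, zero_sub]
  have hW : ∀ a ∈ s, ∀ b ∈ s, a * derivative b = b * derivative a := by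
    intro a ha b hb
    have key : ∀ x ∈ s, ∀ y ∈ s, x ^ (p - 2) * (x * derivative y - y * derivative x) = 0 := by
      intro x hx y hy
      obtain ⟨w, hw⟩ := hpair x hx y hy
      have h := congrArg derivative hw
      rw [derivative_mul, derivative_pow, derivative_pow] at h
      simp only [map_natCast, hcast, CharP.cast_eq_zero R[X] p] at h
      rw [show p - 1 - 1 = p - 2 from by omega] at h
      rw [show p - 1 = p - 2 + 1 from by have := hp.two_le; omega, pow_succ] at h
      linear_combination h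
    set W := a * derivative b - b * derivative a with hWdef
    have kill : ∀ x : R[X], x ^ (p - 2) * W = 0 → x * W = 0 := by
      intro x hx
      refine IsReduced.eq_zero _ ⟨p, ?_⟩
      have e : p = p - 2 + 2 := by have := hp.two_le; omega
      rw [mul_pow, e, pow_add x, pow_add W]
      calc x ^ (p - 2) * x ^ 2 * (W ^ (p - 2) * W ^ 2)
          = x ^ (p - 2) * W * (x ^ 2 * W ^ (p - 2) * W) := by ring
        _ = 0 := by rw [hx, zero_mul]
    have ha' : a * W = 0 := kill a (key a ha b hb)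
    have hb' : b * W = 0 := kill b (by
      have := key b hb a ha
      linear_combination -this)
    have hW2 : IsNilpotent W := ⟨2, by
      linear_combination (derivative b) * ha' - (derivative a) * hb' + W * hWdef⟩
    exact sub_eq_zero.1 hW2.eq_zero
  obtain ⟨P, hP⟩ : ∃ P : R[X], ∀ a ∈ s, a * P = derivative a := by
    suffices h : ∀ x ∈ Ideal.span s, ∃ P : R[X], ∀ a ∈ s, a * P = x * derivative a by
      obtain ⟨P, hP⟩ := h 1 (by rw [hs]; trivial)
      exact ⟨P, fun a ha => (hP a ha).trans (one_mul _)⟩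
    intro x hx
    induction hx using Submodule.span_induction with
    | mem x hx => exact ⟨derivative x, fun a ha => hW a ha x hx⟩
    | zero => exact ⟨0, by simp⟩
    | add x y _ _ hx hy =>
      obtain ⟨Px, hPx⟩ := hx
      obtain ⟨Py, hPy⟩ := hy
      exact ⟨Px + Py, fun a ha => by rw [mul_add, add_mul, hPx a ha, hPy a ha]⟩
    | smul c x _ hx =>
      obtain ⟨Px, hPx⟩ := hx
      exact ⟨c * Px, fun a ha => by rw [smul_eq_mul, mul_left_comm, hPx a ha, mul_assoc]⟩
  have hQ : logIter P p = 0 := by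
    suffices h : ∀ x ∈ Ideal.span s, logIter P p * x = 0 by
      simpa using h 1 (by rw [hs]; trivial)
    intro x hx
    induction hx using Submodule.span_induction with
    | mem x hx => rw [← logIter_apply P x (by rw [mul_comm, hP x hx]) p, iterate_derivative_char]
    | zero => simp
    | add x y _ _ hx hy => rw [mul_add, hx, hy, add_zero]
    | smul c x _ hx => rw [smul_eq_mul, mul_left_comm, hx, mul_zero]
  have hP0 : P = 0 := by
    have h := (logIter_degree P p).2
    rw [hQ, coeff_zero] at h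
    exact leadingCoeff_eq_zero.1 (IsReduced.eq_zero _ ⟨p, h.symm⟩)
  intro a ha
  rw [← hP a ha, hP0, mul_zero]

theorem rootKey_polynomial (hR : ∀ a : R, ∃ w, a = w ^ p) : RootKey p R[X] := by
  intro s hs hpair
  have hp := (Fact.out : p.Prime)
  intro a ha
  have hda : derivative a = 0 := derivative_eq_zero s hs hpair a ha
  suffices h : ∀ n, ∃ w : R[X], monomial n (a.coeff n) = w ^ p by
    choose w hw using h
    refine ⟨∑ n ∈ a.support, w n, ?_⟩
    rw [sum_pow_char]
    conv_lhs => rw [as_sum_support a]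
    exact Finset.sum_congr rfl fun n _ => hw n
  intro n
  by_cases hn : p ∣ n
  · obtain ⟨k, rfl⟩ := hn
    obtain ⟨r, hr⟩ := hR (a.coeff (p * k))
    exact ⟨monomial k r, by rw [monomial_pow, hr, mul_comm p k]⟩
  · refine ⟨0, ?_⟩
    rw [zero_pow hp.ne_zero]
    refine monomial_eq_zero_iff _ _ |>.2 ?_
    obtain ⟨m, rfl⟩ : ∃ m, n = m + 1 := ⟨n - 1, by
      rcases n with _ | n
      · exact absurd (dvd_zero p) hn
      · rfl⟩
    have h := congrArg (fun q : R[X] => q.coeff m) hda
    simp only [coeff_derivative, coeff_zero] at h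
    have hu : IsUnit ((m + 1 : ℕ) : R) :=
      (CharP.isUnit_natCast_iff (Fact.out : p.Prime)).2 hn
    exact hu.mul_left_eq_zero.1 (by exact_mod_cast h)

end Poly

/-- Cocycles with a coboundary as `p`-th power are coboundaries. -/
theorem exists_unit_twist {p : ℕ} [Fact p.Prime] {A : Type u} [CommRing A] {Q : Type u} [CommRing Q]
    [IsReduced Q] [CharP Q p] [CharP A p] (π : A →+* Q) (hπ : Function.Surjective π)
    (hker : ∀ a, π a = 0 → IsNilpotent a) (hkey : RootKey p Q)
    {B : Type u} [CommRing B] [Algebra A B] [Module.FaithfullyFlat A B] (U : B ⊗[A] B) (g : Bˣ)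
    (hg : U ^ p * ((1 : B) ⊗ₜ[A] (g : B)) = (g : B) ⊗ₜ[A] 1)
    (hspan : ∀ P : PrimeSpectrum A, ∃ f : A, f ∉ P.asIdeal ∧ ∃ m n : B, m * n = algebraMap A B f ∧
      U * (m ⊗ₜ 1) = 1 ⊗ₜ m) :
    ∃ m : Bˣ, U * ((m : B) ⊗ₜ 1) = 1 ⊗ₜ (m : B) := by
  have hp := (Fact.out : p.Prime)
  let M : Set B := {m | U * (m ⊗ₜ 1) = 1 ⊗ₜ m}
  have hinj : Function.Injective (algebraMap A B) := FaithfulSMul.algebraMap_injective A B
  have eff : ∀ b : B, b ⊗ₜ[A] (1 : B) = (1 : B) ⊗ₜ b → ∃ a : A, algebraMap A B a = b := fun b e =>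
    (Algebra.IsEffective.eqLocus_includeLeft_includeRight (.of_faithfullyFlat A B)).le e
  have hMadd : ∀ m ∈ M, ∀ n ∈ M, m + n ∈ M := fun m hm n hn => by
    show U * ((m + n) ⊗ₜ 1) = _
    rw [TensorProduct.add_tmul, mul_add, hm, hn, ← TensorProduct.tmul_add]
  have hMsmul : ∀ (a : A), ∀ m ∈ M, algebraMap A B a * m ∈ M := fun a m hm => by
    show U * ((algebraMap A B a * m) ⊗ₜ 1) = _
    rw [← Algebra.smul_def, ← TensorProduct.smul_tmul', mul_smul_comm, hm, ← TensorProduct.tmul_smul]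
  have hq2 : ∀ m ∈ M, ∀ n ∈ M, ∃ a : A, algebraMap A B a = (g : B) * m ^ (p - 1) * n := by
    intro m hm n hn
    refine eff _ ?_
    have e : ∀ k : ℕ, U ^ k * ((m ^ k) ⊗ₜ[A] (1 : B)) = (1 : B) ⊗ₜ (m ^ k) := fun k => by
      have := congrArg (· ^ k) (show U * (m ⊗ₜ 1) = 1 ⊗ₜ m from hm)
      simpa [mul_pow, Algebra.TensorProduct.tmul_pow] using this
    have hm' := e (p - 1)
    have hn' : U * (n ⊗ₜ[A] (1 : B)) = 1 ⊗ₜ n := hn
    have hsplit : ∀ x y z : B, (x * y * z) ⊗ₜ[A] (1 : B) = (x ⊗ₜ 1) * (y ⊗ₜ 1) * (z ⊗ₜ 1) := by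
      intros; simp
    have hsplit' : ∀ x y z : B, (1 : B) ⊗ₜ[A] (x * y * z) = (1 ⊗ₜ x) * (1 ⊗ₜ y) * (1 ⊗ₜ z) := by
      intros; simp
    rw [hsplit, hsplit', ← hg, ← hm', ← hn']
    conv_lhs => rw [show p = p - 1 + 1 from by have := hp.one_le; omega, pow_succ]
    simp only [Nat.add_sub_cancel]
    ring
  have hq : ∀ m ∈ M, ∃ a : A, algebraMap A B a = (g : B) * m ^ p := fun m hm => by
    obtain ⟨a, ha⟩ := hq2 m hm m hm
    exact ⟨a, by rw [ha, mul_assoc, ← pow_succ, Nat.sub_add_cancel hp.one_le]⟩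
  choose q hq using hq
  let s : Set A := Set.range fun m : M => q m.1 m.2
  have hs : Ideal.span s = ⊤ := by
    by_contra hne
    obtain ⟨P, hP, hsP⟩ := Ideal.exists_le_maximal _ hne
    obtain ⟨f, hf, m, n, hmn, hm⟩ := hspan ⟨P, hP.isPrime⟩
    refine hf (hP.isPrime.mem_of_pow_mem p ?_)
    obtain ⟨Q', hQ'⟩ := PrimeSpectrum.comap_surjective_of_faithfullyFlat (A := A) (B := B) ⟨P, hP.isPrime⟩
    have hcomap : P = Q'.asIdeal.comap (algebraMap A B) := congrArg PrimeSpectrum.asIdeal hQ'.symm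
    have hmem : algebraMap A B (q m hm) ∈ Q'.asIdeal := by
      have : q m hm ∈ P := hsP (Ideal.subset_span ⟨⟨m, hm⟩, rfl⟩)
      rwa [hcomap] at this
    show f ^ p ∈ P
    rw [hcomap, Ideal.mem_comap, map_pow, ← hmn, mul_pow]
    have e : m ^ p * n ^ p = algebraMap A B (q m hm) * (↑g⁻¹ * n ^ p) := by
      rw [hq]
      linear_combination -(m ^ p * n ^ p) * g.mul_inv
    rw [e]
    exact Ideal.mul_mem_right _ _ hmem
  have hsQ : Ideal.span (π '' s) = ⊤ := by rw [← Ideal.map_span, hs, Ideal.map_top]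
  have hroot : ∀ m : M, ∃ w, π (q m.1 m.2) = w ^ p := by
    intro m
    refine hkey (π '' s) hsQ ?_ _ ⟨_, ⟨m, rfl⟩, rfl⟩
    rintro _ ⟨_, ⟨x, rfl⟩, rfl⟩ _ ⟨_, ⟨y, rfl⟩, rfl⟩
    obtain ⟨w, hw⟩ := hq2 x.1 x.2 y.1 y.2
    refine ⟨π w, ?_⟩
    rw [← map_pow, ← map_mul, ← map_pow]
    refine congrArg π (hinj ?_)
    rw [map_mul, map_pow, map_pow, hq, hq, hw]
    conv_lhs => rw [mul_pow]
    conv_rhs => rw [mul_pow, mul_pow, ← pow_mul, mul_comm (p - 1) p, pow_mul]
    calc (g : B) * y.1 ^ p * ((g : B) ^ (p - 1) * (x.1 ^ p) ^ (p - 1))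
        = ((g : B) ^ (p - 1) * g) * (x.1 ^ p) ^ (p - 1) * y.1 ^ p := by ring
      _ = _ := by rw [← pow_succ, Nat.sub_add_cancel hp.one_le]
  choose r hr using hroot
  have hfrob : ∀ x y : Q, x ^ p = y ^ p → x = y := fun x y e => frobenius_inj Q p e
  have hone : (1 : Q) ∈ Set.range r := by
    let I : Ideal Q :=
      { carrier := Set.range r
        zero_mem' := ⟨⟨0, by show U * ((0 : B) ⊗ₜ 1) = 1 ⊗ₜ (0 : B); simp⟩, hfrob _ _ (by
          rw [← hr, zero_pow hp.ne_zero, show q 0 _ = 0 from hinj (by rw [hq, zero_pow hp.ne_zero]; simp), map_zero])⟩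
        add_mem' := by
          rintro _ _ ⟨x, rfl⟩ ⟨y, rfl⟩
          refine ⟨⟨x.1 + y.1, hMadd _ x.2 _ y.2⟩, hfrob _ _ ?_⟩
          rw [← hr, add_pow_char, ← hr, ← hr, ← map_add]
          refine congrArg π (hinj ?_)
          rw [hq, map_add, hq, hq]
          haveI : CharP B p := charP_of_injective_algebraMap hinj p
          show (g : B) * (x.1 + y.1) ^ p = _
          rw [add_pow_char, mul_add]
        smul_mem' := by
          rintro c _ ⟨x, rfl⟩
          obtain ⟨a, rfl⟩ := hπ c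
          refine ⟨⟨algebraMap A B a * x.1, hMsmul a _ x.2⟩, hfrob _ _ ?_⟩
          rw [smul_eq_mul, ← hr, mul_pow, ← hr, ← map_pow, ← map_mul]
          refine congrArg π (hinj ?_)
          rw [hq, map_mul, map_pow, hq]
          show (g : B) * (algebraMap A B a * x.1) ^ p = _
          rw [mul_pow]
          ring }
    suffices h : I = ⊤ by exact (Ideal.eq_top_iff_one I).1 h
    refine top_unique (hsQ ▸ Ideal.span_le.2 ?_)
    rintro _ ⟨_, ⟨x, rfl⟩, rfl⟩
    show π (q x.1 x.2) ∈ I
    rw [hr x]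
    exact I.pow_mem_of_mem ⟨x, rfl⟩ p hp.pos
  obtain ⟨m, hm⟩ := hone
  have hu : IsUnit (q m.1 m.2) := by
    have h : π (q m.1 m.2 - 1) = 0 := by rw [map_sub, map_one, hr m, hm, one_pow, sub_self]
    simpa using (hker _ h).isUnit_one_add
  have hmu : IsUnit m.1 := by
    have h := hu.map (algebraMap A B)
    rw [hq, Units.isUnit_units_mul, isUnit_pow_iff hp.ne_zero] at h
    exact h
  exact ⟨hmu.unit, m.2⟩

end Groth.Agent.GaExt
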