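import Groth.Agent.GaExt.Split
import Groth.Agent.GaExt.RootAlg
import Groth.Agent.AdeqLib.SiteInst
import Groth.Agent.AdeqLib.Parasitic
import Mathlib.LinearAlgebra.DirectSum.Finite
import Mathlib.RingTheory.Flat.Basic

/-!
Sections of abelian fppf sheaves on affine schemes over an affine base, and lifting along extensions by `G_m`.
-/

set_option autoImplicit false
set_option backward.isDefEq.respectTransparency false
set_option backward.isDefEq.respectTransparency.types false
set_option linter.style.haveILetI false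
set_option synthInstance.maxHeartbeats 400000

universe u

open CategoryTheory CategoryTheory.Limits AlgebraicGeometry Opposite TensorProduct
open MonoidalCategory CartesianMonoidalCategory MonObj

noncomputable section

namespace Groth.Agent.GaExt

variable {R : Type u} [CommRing R]


/-- The sheaf of points of the multiplicative group. -/
abbrev Mm (R : Type u) [CommRing R] : BigSite.Ab Scheme.fppfPrecoverage (Spec (CommRingCat.of R)) :=
  CGrpSh.pts Scheme.fppfPrecoverage (Red.Gm (Spec (CommRingCat.of R)))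

/-- An affine object. -/
abbrev O (R : Type u) [CommRing R] (A : Type u) [CommRing A] [Algebra R A] : Over (Spec (CommRingCat.of R)) :=
  Over.mk (Spec.map (CommRingCat.ofHom (algebraMap R A)))

section

variable {A A' A'' : Type u} [CommRing A] [Algebra R A] [CommRing A'] [Algebra R A'] [CommRing A''] [Algebra R A'']

/-- The morphism of affine objects of an algebra map. -/
def Omap (f : A →ₐ[R] A') : O R A' ⟶ O R A :=
  Over.homMk (Spec.map (CommRingCat.ofHom f.toRingHom)) (by
    show _ ≫ Spec.map _ = Spec.map _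
    rw [← Spec.map_comp]
    congr 1
    ext r
    exact f.commutes r)

theorem Omap_comp (f : A →ₐ[R] A') (g : A' →ₐ[R] A'') : Omap g ≫ Omap f = Omap (g.comp f) :=
  Over.OverMorphism.ext (show Spec.map _ ≫ Spec.map _ = Spec.map _ by rw [← Spec.map_comp]; rfl)

theorem Omap_id : Omap (AlgHom.id R A) = 𝟙 (O R A) :=
  Over.OverMorphism.ext (Spec.map_id _)

/-- Elements as functions. -/
abbrev fn (R : Type u) [CommRing R] (A : Type u) [CommRing A] [Algebra R A] : A →+* Γ((O R A).left, ⊤) :=
  (Scheme.ΓSpecIso (CommRingCat.of A)).inv.hom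

theorem fn_map (f : A →ₐ[R] A') (a : A) : (Omap f).left.appTop (fn R A a) = fn R A' (f a) :=
  (ConcreteCategory.congr_hom (Scheme.ΓSpecIso_inv_naturality (CommRingCat.ofHom f.toRingHom)) a).symm

theorem fn_bijective : Function.Bijective (fn R A) :=
  ConcreteCategory.bijective_of_isIso (Scheme.ΓSpecIso (CommRingCat.of A)).inv

/-- The structure homomorphism on functions. -/
abbrev strOf (Y : Over (Spec (CommRingCat.of R))) : R →+* Γ(Y.left, ⊤) := ((Scheme.ΓSpecIso (CommRingCat.of R)).inv ≫ Y.hom.appTop).hom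

/-- Morphisms into affine objects. -/
def toO {Y : Over (Spec (CommRingCat.of R))} (φ : A →+* Γ(Y.left, ⊤)) (h : φ.comp (algebraMap R A) = strOf Y) : Y ⟶ O R A :=
  Over.homMk (Y.left.toSpecΓ ≫ Spec.map (CommRingCat.ofHom φ)) (by
    show _ ≫ Spec.map _ = Y.hom
    rw [Category.assoc, ← Spec.map_comp, ← CommRingCat.ofHom_comp, h]
    exact (AdeqLib.hom_eq_toSpecΓ Y.hom).symm)

theorem toO_fn {Y : Over (Spec (CommRingCat.of R))} (φ : A →+* Γ(Y.left, ⊤)) (h : φ.comp (algebraMap R A) = strOf Y) (a : A) :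
    (toO φ h).left.appTop (fn R A a) = φ a :=
  BGaNotS.toSpec_appTop φ a

theorem hom_ext_fn {Y : Over (Spec (CommRingCat.of R))} {x y : Y ⟶ O R A}
    (h : ∀ a, x.left.appTop (fn R A a) = y.left.appTop (fn R A a)) : x = y := by
  apply Over.OverMorphism.ext
  haveI : IsAffine (O R A).left := inferInstanceAs (IsAffine (Spec (CommRingCat.of A)))
  apply ext_of_isAffine
  rw [← cancel_epi (Scheme.ΓSpecIso (CommRingCat.of A)).inv]
  exact CommRingCat.hom_ext (RingHom.ext h)

theorem str_comp {Y : Over (Spec (CommRingCat.of R))} (x : Y ⟶ O R A) :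
    (x.left.appTop.hom.comp (fn R A)).comp (algebraMap R A) = strOf Y := by
  refine RingHom.ext fun r => ?_
  show x.left.appTop (fn R A (algebraMap R A r)) = Y.hom.appTop _
  rw [← Over.w x, Scheme.Hom.comp_appTop, CommRingCat.comp_apply]
  exact congrArg x.left.appTop (ConcreteCategory.congr_hom
    (Scheme.ΓSpecIso_inv_naturality (CommRingCat.ofHom (algebraMap R A))) r)

variable (R A) in
/-- A point of the additive group from an element. -/
def pt (a : A) : O R A ⟶ Red.Ga (Spec (CommRingCat.of R)) := BGaNotS.gaPt (W := O R A) (fn R A a)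

theorem pt_map (f : A →ₐ[R] A') (a : A) : Omap f ≫ pt R A a = pt R A' (f a) :=
  BGaNotS.gaPt_ext (by rw [BGaNotS.gaFn_comp, pt, pt, BGaNotS.gaFn_gaPt, BGaNotS.gaFn_gaPt, fn_map])

theorem pt_add (a b : A) : pt R A (a + b) = pt R A a * pt R A b :=
  BGaNotS.gaPt_ext (by
    rw [BGaNotS.gaFn_mul, pt, pt, pt, BGaNotS.gaFn_gaPt, BGaNotS.gaFn_gaPt, BGaNotS.gaFn_gaPt, map_add])

theorem pt_zero : pt R A 0 = 1 := by
  refine BGaNotS.gaPt_ext ?_
  rw [pt, BGaNotS.gaFn_gaPt, map_zero, BGaNotS.gaFn_one]

theorem pt_surjective (x : O R A ⟶ Red.Ga (Spec (CommRingCat.of R))) : ∃ a, pt R A a = x := by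
  obtain ⟨a, ha⟩ := fn_bijective.2 (Red.gaFn x)
  exact ⟨a, BGaNotS.gaPt_ext (by rw [pt, BGaNotS.gaFn_gaPt, ha])⟩


variable (R A) in
/-- Units as sections of `G_m`. -/
def U (w : Aˣ) : BigSite.sect Scheme.fppfPrecoverage (Mm R) (O R A) :=
  ULift.up (Additive.ofMul (GmPts.ptOfUnit (T := O R A) (Units.map (fn R A).toMonoidHom w)))

theorem U_mul (v w : Aˣ) : U R A (v * w) = U R A v + U R A w :=
  ULift.ext _ _ (congrArg Additive.ofMul ((congrArg GmPts.ptOfUnit (map_mul _ v w)).trans (GmPts.ptOfUnit_mul _ _)))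

theorem U_one : U R A 1 = 0 := by
  have h := U_mul (R := R) (1 : Aˣ) 1
  rw [_root_.one_mul] at h
  exact left_eq_add.mp h

theorem U_injective : Function.Injective (U R A) := fun v w h => by
  have h1 := congrArg (fun x => GmPts.unitOfPt (Additive.toMul (ULift.down x))) h
  simp only [U, toMul_ofMul] at h1
  rw [GmPts.unitOfPt_ptOfUnit, GmPts.unitOfPt_ptOfUnit] at h1
  exact Units.ext (fn_bijective.1 (congrArg Units.val h1))

theorem U_surjective (t : BigSite.sect Scheme.fppfPrecoverage (Mm R) (O R A)) : ∃ w, U R A w = t := by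
  obtain ⟨a, ha⟩ := fn_bijective.2 (GmPts.unitOfPt t.down.toMul : Γ((O R A).left, ⊤))
  obtain ⟨b, hb⟩ := fn_bijective.2 ((GmPts.unitOfPt t.down.toMul)⁻¹ : (Γ((O R A).left, ⊤))ˣ).val
  refine ⟨⟨a, b, (fn_bijective (R := R)).1 ?_, (fn_bijective (R := R)).1 ?_⟩, ULift.ext _ _ (congrArg Additive.ofMul ?_)⟩
  · rw [map_mul, ha, hb, map_one, Units.mul_inv]
  · rw [map_mul, ha, hb, map_one, Units.inv_mul]
  · refine (congrArg GmPts.ptOfUnit (Units.ext ?_)).trans (GmPts.ptOfUnit_unitOfPt _)
    exact ha

theorem U_res (f : A →ₐ[R] A') (w : Aˣ) :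
    res (Mm R) (Omap f) (U R A w) = U R A' (Units.map f.toRingHom.toMonoidHom w) :=
  ULift.ext _ _ (congrArg Additive.ofMul ((GmPts.ptOfUnit_comp (Omap f) _).trans
    (congrArg GmPts.ptOfUnit (Units.ext (fn_map f w.val)))))

end

section Sheaf

variable {S : Scheme.{u}} (E : BigSite.Ab Scheme.fppfPrecoverage S)

/-- Separatedness and gluing along a covering family. -/
theorem glue {T : Over S} {I : Type*} {V : I → Over S} (g : ∀ i, V i ⟶ T)
    (hcov : Presieve.ofArrows (fun i => (V i).left) (fun i => (g i).left) ∈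
      Scheme.fppfPrecoverage.coverings T.left) :
    (∀ x y : BigSite.sect Scheme.fppfPrecoverage E T,
      (∀ i, res E (g i) x = res E (g i) y) → x = y) ∧
    ∀ y : ∀ i, BigSite.sect Scheme.fppfPrecoverage E (V i),
      (∀ i j (W : Over S) (gi : W ⟶ V i) (gj : W ⟶ V j), gi ≫ g i = gj ≫ g j → res E gi (y i) = res E gj (y j)) →
      ∃ x, ∀ i, res E (g i) x = y i := by
  have hsh : Presieve.IsSheafFor (E.obj ⋙ forget AddCommGrpCat.{u + 1}) (Presieve.ofArrows V g) := by
    have hsh : Presieve.IsSheaf (QuotSh.J Scheme.fppfPrecoverage S) (E.obj ⋙ forget AddCommGrpCat.{u + 1}) :=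
      (isSheaf_iff_isSheaf_of_type _ _).mp
        ((Presheaf.isSheaf_iff_isSheaf_forget _ _ (forget AddCommGrpCat.{u + 1})).mp E.property)
    rw [Presieve.isSheafFor_iff_generate]
    refine hsh _ ?_
    change Sieve.generate (Presieve.ofArrows V g) ∈ (Scheme.fppfPrecoverage.toGrothendieck.over S) T
    rw [GrothendieckTopology.mem_over_iff, Sieve.overEquiv_generate]
    refine GrothendieckTopology.superset_covering _ ?_ (Precoverage.generate_mem_toGrothendieck hcov)
    rw [Sieve.generate_le_iff]
    rintro Z f ⟨i⟩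
    apply Sieve.le_generate
    exact ⟨V i, g i, 𝟙 _, ⟨i⟩, (Category.id_comp _).symm⟩
  have h := (Presieve.isSheafFor_arrows_iff _ _).mp hsh
  refine ⟨fun x y hxy => ?_, fun y hy => ?_⟩
  · refine (h (fun i => res E (g i) y) fun i j W gi gj e => ?_).unique (fun i => hxy i) (fun i => rfl)
    show res E gi (res E (g i) y) = res E gj (res E (g j) y)
    rw [res_res, res_res, e]
  · exact (h y fun i j W gi gj e => hy i j W gi gj e).exists

/-- There is only one section over an empty scheme. -/
theorem sect_eq_of_trivial {T : Over S} (h : (1 : Γ(T.left, ⊤)) = 0)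
    (x y : BigSite.sect Scheme.fppfPrecoverage E T) : x = y := by
  let V : PEmpty.{u + 1} → Over S := fun i => i.elim
  let g : ∀ i, V i ⟶ T := fun i => i.elim
  refine (glue E g ?_).1 x y fun i => i.elim
  refine AdeqLib.fppf_ofArrows_iff.mpr ⟨fun z => ?_, fun i => i.elim⟩
  have hz := (T.left.presheaf.germ ⊤ z trivial).hom.map_one
  rw [h, map_zero] at hz
  exact absurd hz zero_ne_one

end Sheaf

section Lift

variable {E : BigSite.Ab Scheme.fppfPrecoverage (Spec (CommRingCat.of R))}
  {A : Type u} [CommRing A] [Algebra R A]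

/-- Sections exist after a faithfully flat extension. -/
theorem exists_ff_lift {F : BigSite.Ab Scheme.fppfPrecoverage (Spec (CommRingCat.of R))} (π : E ⟶ F) [Epi π]
    (b : BigSite.sect Scheme.fppfPrecoverage F (O R A)) :
    ∃ (n : ℕ) (C : Fin n → Type u) (_ : ∀ k, CommRing (C k)) (_ : ∀ k, Algebra A (C k)) (_ : ∀ k, Algebra R (C k))
      (_ : ∀ k, IsScalarTower R A (C k)),
      (∀ k, AdeqLib.fppfP (Spec.map (CommRingCat.ofHom (algebraMap A (C k))))) ∧
      (∀ x, ∃ k, x ∈ Set.range (Spec.map (CommRingCat.ofHom (algebraMap A (C k))))) ∧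
      ∀ k, ∃ s : BigSite.sect Scheme.fppfPrecoverage E (O R (C k)), app π s = res F (Omap (IsScalarTower.toAlgHom R A (C k))) b := by
  classical
  haveI : Sheaf.IsLocallySurjective π := (Sheaf.isLocallySurjective_iff_epi' _ π).2 inferInstance
  obtain ⟨I, V, g, hcov, hg, -⟩ := AdeqLib.exists_flat_family
    (Presheaf.imageSieve_mem (QuotSh.J Scheme.fppfPrecoverage (Spec (CommRingCat.of R))) π.hom b)
  have hc := AdeqLib.fppf_ofArrows_iff.mp hcov
  choose i y hy using hc.1
  have hcov' : Presieve.ofArrows (fun x : (O R A).left => (V (i x)).left) (fun x => (g (i x)).left) ∈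
      Scheme.precoverage AdeqLib.fppfP (O R A).left :=
    AdeqLib.fppf_ofArrows_iff.mpr ⟨fun x => ⟨x, y x, hy x⟩, fun x => hc.2 _⟩
  obtain ⟨n, C, φ, hφ, hφc, hfac⟩ := AdeqLib.exists_refine AdeqLib.fppfP AdeqLib.fppfP_open
    (fun f _ => AdeqLib.fppfP_imm f) (fun x => (g (i x)).left) hcov' (R := CommRingCat.of A) (𝟙 _)
  letI : ∀ k, Algebra A (C k) := fun k => (φ k).hom.toAlgebra
  letI : ∀ k, Algebra R (C k) := fun k => ((φ k).hom.comp (algebraMap R A)).toAlgebra
  haveI : ∀ k, IsScalarTower R A (C k) := fun k => IsScalarTower.of_algebraMap_eq fun r => rfl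
  refine ⟨n, fun k => C k, inferInstance, inferInstance, inferInstance, inferInstance, hφ, hφc, fun k => ?_⟩
  obtain ⟨x, j, hj⟩ := hfac k
  obtain ⟨w, hw⟩ := hg (i x)
  let J : O R (C k) ⟶ V (i x) := Over.homMk j (by
    show j ≫ (V (i x)).hom = _
    refine ((congrArg (j ≫ ·) (Over.w (g (i x))).symm).trans (Category.assoc _ _ _).symm).trans ?_
    refine (congrArg (· ≫ (O R A).hom) (hj.trans (Category.comp_id _))).trans ?_
    exact (Spec.map_comp _ _).symm)
  have e : Omap (IsScalarTower.toAlgHom R A (C k)) = J ≫ g (i x) :=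
    Over.OverMorphism.ext (((hj).trans (Category.comp_id _)).symm)
  refine ⟨res E J w, ?_⟩
  rw [e, app_res, ← res_res]
  exact congrArg (res F J) hw

variable {Gr : Over (Spec (CommRingCat.of R))} [GrpObj Gr] [IsCommMonObj Gr] {fE : (Mm R) ⟶ E} {π : E ⟶ CGrpSh.pts Scheme.fppfPrecoverage Gr} {z : fE ≫ π = 0}

theorem fE_injective (hS : (ShortComplex.mk fE π z).ShortExact) (Y : Over (Spec (CommRingCat.of R)))
    (x y : BigSite.sect Scheme.fppfPrecoverage (Mm R) Y) (h : app fE x = app fE y) : x = y := by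
  let Φ : BigSite.Ab Scheme.fppfPrecoverage (Spec (CommRingCat.of R)) ⥤ AddCommGrpCat.{u + 1} :=
    sheafToPresheaf (QuotSh.J Scheme.fppfPrecoverage (Spec (CommRingCat.of R))) AddCommGrpCat.{u + 1} ⋙ (evaluation _ _).obj (op Y)
  haveI : Mono fE := hS.mono_f
  haveI : Mono (Φ.map fE) := inferInstance
  exact (AddCommGrpCat.mono_iff_injective (Φ.map fE)).1 inferInstance h

theorem app_π_fE (fE : (Mm R) ⟶ E) (π : E ⟶ CGrpSh.pts Scheme.fppfPrecoverage Gr) (z : fE ≫ π = 0)
    {Y : Over (Spec (CommRingCat.of R))} (t : BigSite.sect Scheme.fppfPrecoverage (Mm R) Y) : app π (app fE t) = 0 :=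
  ConcreteCategory.congr_hom (congrArg (fun q => q.hom.app (op Y)) z) t

/-- A `p`-torsion point of an affine scheme lifts along an extension by `G_m` when twists with trivial `p`-th
power are trivial. -/
theorem exists_section {p : ℕ} [Fact p.Prime] [CharP A p] (hS : (ShortComplex.mk fE π z).ShortExact)
    {Q : Type u} [CommRing Q] [IsReduced Q] [CharP Q p] (q : A →+* Q) (hq : Function.Surjective q)
    (hker : ∀ a, q a = 0 → IsNilpotent a) (hkey : RootKey p Q) (b : O R A ⟶ Gr) (hb : b ^ p = 1) :
    ∃ s : BigSite.sect Scheme.fppfPrecoverage E (O R A), app π s = ULift.up (Additive.ofMul b) := by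
  classical
  haveI : Epi π := hS.epi_g
  let tgt : ∀ (C : Type u) [CommRing C] [Algebra R C] (f : A →ₐ[R] C),
      BigSite.sect Scheme.fppfPrecoverage (CGrpSh.pts Scheme.fppfPrecoverage Gr) (O R C) :=
    fun C _ _ f => ULift.up (Additive.ofMul (Omap f ≫ b))
  have htgt : ∀ (C C' : Type u) [CommRing C] [Algebra R C] [CommRing C'] [Algebra R C'] (g : C →ₐ[R] C')
      (f : A →ₐ[R] C),
      res (CGrpSh.pts Scheme.fppfPrecoverage Gr) (Omap g) (tgt C f) = tgt C' (g.comp f) :=
    fun C C' _ _ _ _ g f => ULift.ext _ _ (congrArg Additive.ofMul (by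
      show Omap g ≫ Omap f ≫ b = Omap (g.comp f) ≫ b
      rw [← Category.assoc, Omap_comp]))
  obtain ⟨n, C, _, _, _, _, hP, hcov, hloc⟩ := exists_ff_lift π (tgt A (AlgHom.id R A))
  haveI : ∀ k, Module.Flat A (C k) := fun k => by
    haveI := (hP k).1
    exact RingHom.flat_algebraMap_iff.1 ((HasRingHomProperty.Spec_iff (P := @Flat)).mp (hP k).1)
  choose sk hsk using hloc
  let B : Type u := ∀ k, C k
  haveI : Module.Flat A B :=
    Module.Flat.of_linearEquiv (DirectSum.linearEquivFunOnFintype A (Fin n) fun k => C k).symm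
  have hsurj : Function.Surjective (PrimeSpectrum.comap (algebraMap A B)) := fun P => by
    obtain ⟨k, x, hx⟩ := hcov P
    exact ⟨PrimeSpectrum.comap (Pi.evalRingHom (fun k => C k) k) x, by
      refine Eq.trans ?_ hx
      rfl⟩
  haveI : Module.FaithfullyFlat A B := Module.FaithfullyFlat.of_comap_surjective hsurj
  let ev : ∀ k, B →ₐ[R] C k := fun k => Pi.evalAlgHom R (fun k => C k) k
  obtain ⟨sB, hsB⟩ : ∃ sB : BigSite.sect Scheme.fppfPrecoverage E (O R B),
      ∀ k, res E (Omap (ev k)) sB = sk k := by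
    refine (glue E (fun k => Omap (ev k)) ?_).2 sk fun i j W gi gj e => ?_
    · refine AdeqLib.fppf_ofArrows_iff.mpr ⟨fun P => ?_, fun k => ?_⟩
      · obtain ⟨⟨k, x⟩, hx⟩ := (PrimeSpectrum.sigmaToPi_bijective (R := fun k => C k)).2 P
        exact ⟨k, x, hx⟩
      · haveI : IsOpenImmersion (Omap (ev k)).left :=
          inferInstanceAs (IsOpenImmersion (Spec.map (CommRingCat.ofHom (Pi.evalRingHom (fun k => C k) k))))
        exact AdeqLib.fppfP_imm _
    · by_cases hij : i = j
      · subst hij
        have : gi = gj := hom_ext_fn fun c => by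
          obtain ⟨c', rfl⟩ : ∃ c' : B, ev i c' = c := ⟨Pi.single i c, Pi.single_eq_same i c⟩
          have := congrArg (fun m => m.left.appTop (fn R B c')) e
          simp only [Over.comp_left, Scheme.Hom.comp_appTop, CommRingCat.comp_apply, fn_map] at this
          exact this
        rw [this]
      · refine sect_eq_of_trivial E ?_ _ _
        have := congrArg (fun m => m.left.appTop (fn R B (Pi.single i 1))) e
        simp only [Over.comp_left, Scheme.Hom.comp_appTop, CommRingCat.comp_apply, fn_map] at this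
        rw [show ev i (Pi.single i 1) = 1 from Pi.single_eq_same i (1 : C i),
          show ev j (Pi.single i 1) = 0 from Pi.single_eq_of_ne (Ne.symm hij) (1 : C i)] at this
        rw [map_one (fn R (C i)), map_zero (fn R (C j))] at this
        exact ((map_one gi.left.appTop.hom).symm.trans this).trans (map_zero gj.left.appTop.hom)
  let aB : A →ₐ[R] B := IsScalarTower.toAlgHom R A B
  have hsBπ : app π sB = tgt B aB := by
    refine (glue (CGrpSh.pts Scheme.fppfPrecoverage Gr) (fun k => Omap (ev k)) ?_).1 _ _ fun k => ?_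
    · refine AdeqLib.fppf_ofArrows_iff.mpr ⟨fun P => ?_, fun k => ?_⟩
      · obtain ⟨⟨k, x⟩, hx⟩ := (PrimeSpectrum.sigmaToPi_bijective (R := fun k => C k)).2 P
        exact ⟨k, x, hx⟩
      · haveI : IsOpenImmersion (Omap (ev k)).left :=
          inferInstanceAs (IsOpenImmersion (Spec.map (CommRingCat.ofHom (Pi.evalRingHom (fun k => C k) k))))
        exact AdeqLib.fppfP_imm _
    · rw [← app_res, hsB, hsk, htgt, htgt]
      rfl
  -- difference of the two pullbacks
  have hdiff : ∀ (T : Type u) [CommRing T] [Algebra A T] (φ ψ : B →ₐ[A] T),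
      ∃ w : Tˣ,
        letI : Algebra R T := ((algebraMap A T).comp (algebraMap R A)).toAlgebra
        haveI : IsScalarTower R A T := IsScalarTower.of_algebraMap_eq fun _ => rfl
        app fE (U R T w) = res E (Omap (φ.restrictScalars R)) sB - res E (Omap (ψ.restrictScalars R)) sB := by
    intro T _ _ φ ψ
    letI : Algebra R T := ((algebraMap A T).comp (algebraMap R A)).toAlgebra
    haveI : IsScalarTower R A T := IsScalarTower.of_algebraMap_eq fun _ => rfl
    obtain ⟨t, ht⟩ := exact_sect hS (O R T)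
      (res E (Omap (φ.restrictScalars R)) sB - res E (Omap (ψ.restrictScalars R)) sB) (by
        show (π.hom.app _).hom (_ - _) = 0
        rw [map_sub, sub_eq_zero]
        show app π (res E _ sB) = app π (res E _ sB)
        rw [app_res, app_res, hsBπ, htgt, htgt]
        congr 1
        exact AlgHom.ext fun a => (φ.commutes a).trans (ψ.commutes a).symm)
    obtain ⟨w, rfl⟩ := U_surjective t
    exact ⟨w, ht⟩
  choose w hw using hdiff
  have wspec : ∀ (T : Type u) [CommRing T] [Algebra A T] [Algebra R T] [IsScalarTower R A T]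
      (φ ψ : B →ₐ[A] T), app fE (U R T (w T φ ψ)) =
        res E (Omap (φ.restrictScalars R)) sB - res E (Omap (ψ.restrictScalars R)) sB := by
    intro T _ _ iT hT φ ψ
    obtain rfl : iT = ((algebraMap A T).comp (algebraMap R A)).toAlgebra :=
      Algebra.algebra_ext _ _ fun r => IsScalarTower.algebraMap_apply R A T r
    exact hw T φ ψ
  let W : ∀ (T : Type u) [CommRing T] [Algebra A T] [Module.Flat A T], (B →ₐ[A] T) → (B →ₐ[A] T) → T :=
    fun T _ _ _ φ ψ => w T φ ψ
  have wnat : ∀ (T T' : Type u) [CommRing T] [Algebra A T] [CommRing T'] [Algebra A T']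
      (f : T →ₐ[A] T') (φ ψ : B →ₐ[A] T),
      Units.map f.toRingHom.toMonoidHom (w T φ ψ) = w T' (f.comp φ) (f.comp ψ) := by
    intro T T' _ _ _ _ f φ ψ
    letI : Algebra R T := ((algebraMap A T).comp (algebraMap R A)).toAlgebra
    haveI : IsScalarTower R A T := IsScalarTower.of_algebraMap_eq fun _ => rfl
    letI : Algebra R T' := ((algebraMap A T').comp (algebraMap R A)).toAlgebra
    haveI : IsScalarTower R A T' := IsScalarTower.of_algebraMap_eq fun _ => rfl
    refine U_injective (R := R) (fE_injective hS _ _ _ ?_)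
    rw [wspec, show Units.map f.toRingHom.toMonoidHom (w T φ ψ) =
        Units.map (f.restrictScalars R).toRingHom.toMonoidHom (w T φ ψ) from rfl, ← U_res, app_res, wspec]
    show (E.obj.map _).hom (_ - _) = _
    rw [map_sub]
    show res E _ (res E _ sB) - res E _ (res E _ sB) = _
    rw [res_res, res_res, Omap_comp, Omap_comp]
    rfl
  have wcoc : ∀ (T : Type u) [CommRing T] [Algebra A T] (φ ψ χ : B →ₐ[A] T),
      w T φ ψ * w T ψ χ = w T φ χ := by
    intro T _ _ φ ψ χ
    letI : Algebra R T := ((algebraMap A T).comp (algebraMap R A)).toAlgebra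
    haveI : IsScalarTower R A T := IsScalarTower.of_algebraMap_eq fun _ => rfl
    refine U_injective (R := R) (fE_injective hS _ _ _ ?_)
    rw [U_mul, app, map_add]
    show app fE _ + app fE _ = app fE _
    rw [wspec, wspec, wspec, sub_add_sub_cancel]
  have wone : ∀ (T : Type u) [CommRing T] [Algebra A T] (φ : B →ₐ[A] T), w T φ φ = 1 := fun T _ _ φ =>
    mul_eq_left.mp (wcoc T φ φ φ)
  let B2 := B ⊗[A] B
  let l : B →ₐ[A] B2 := Algebra.TensorProduct.includeLeft
  let r : B →ₐ[A] B2 := Algebra.TensorProduct.includeRight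
  haveI : IsScalarTower R A B2 := inferInstance
  -- p times the section
  obtain ⟨g, hg⟩ : ∃ g : Bˣ, app fE (U R B g) = p • sB := by
    obtain ⟨t, ht⟩ := exact_sect hS (O R B) (p • sB) (by
      show (π.hom.app _).hom (p • sB) = 0
      rw [map_nsmul]
      show p • app π sB = 0
      rw [hsBπ]
      refine ULift.ext _ _ ?_
      show p • Additive.ofMul (Omap aB ≫ b) = Additive.ofMul 1
      rw [← ofMul_pow, ← MonObj.comp_pow, hb, MonObj.comp_one])
    obtain ⟨g, rfl⟩ := U_surjective t
    exact ⟨g, ht⟩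
  have hUg : w B2 l r ^ p * Units.map r.toRingHom.toMonoidHom g = Units.map l.toRingHom.toMonoidHom g := by
    refine U_injective (R := R) (fE_injective hS _ _ _ ?_)
    have hpow : ∀ k : ℕ, app fE (U R B2 (w B2 l r ^ k)) = k • app fE (U R B2 (w B2 l r)) := fun k => by
      induction k with
      | zero => rw [pow_zero, U_one, zero_smul]; exact map_zero _
      | succ k ih => rw [pow_succ, U_mul, succ_nsmul, app, map_add]; exact congrArg (· + _) ih
    rw [U_mul, app, map_add]
    show app fE _ + app fE _ = app fE _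
    rw [hpow, wspec, show Units.map r.toRingHom.toMonoidHom g = Units.map (r.restrictScalars R).toRingHom.toMonoidHom g
      from rfl, show Units.map l.toRingHom.toMonoidHom g = Units.map (l.restrictScalars R).toRingHom.toMonoidHom g
      from rfl, ← U_res, ← U_res, app_res, app_res, hg]
    show _ + (E.obj.map _).hom (p • sB) = (E.obj.map _).hom (p • sB)
    rw [map_nsmul, map_nsmul, nsmul_sub]
    show p • res E _ sB - p • res E _ sB + p • res E _ sB = p • res E _ sB
    exact sub_add_cancel _ _
  obtain ⟨m, hm⟩ := exists_unit_twist q hq hker hkey ((w B2 l r : B2ˣ) : B2) g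
    (congrArg Units.val hUg)
    fun P => by
      obtain ⟨f, hf, m, n, hmn, h⟩ := LBDesc.exists_coboundary (A := A) (B := B) W
        (fun T T' _ _ _ _ _ _ f φ ψ => congrArg Units.val (wnat T T' f φ ψ))
        (fun T _ _ _ φ => congrArg Units.val (wone T φ))
        (fun T _ _ _ φ ψ χ => congrArg Units.val (wcoc T φ ψ χ)) P
      exact ⟨f, hf, m, n, hmn, h⟩
  -- correct and descend
  let s' := sB + app fE (U R B m)
  have hl : res E (Omap (l.restrictScalars R)) s' = res E (Omap (r.restrictScalars R)) s' := by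
    have e : w B2 l r * Units.map l.toRingHom.toMonoidHom m = Units.map r.toRingHom.toMonoidHom m :=
      Units.ext hm
    have e' := congrArg (fun v => app fE (U R B2 v)) e
    simp only [U_mul] at e'
    rw [app, map_add] at e'
    change app fE _ + app fE _ = app fE _ at e'
    rw [wspec, show Units.map r.toRingHom.toMonoidHom m = Units.map (r.restrictScalars R).toRingHom.toMonoidHom m
      from rfl, show Units.map l.toRingHom.toMonoidHom m = Units.map (l.restrictScalars R).toRingHom.toMonoidHom m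
      from rfl, ← U_res, ← U_res, app_res, app_res] at e'
    show (E.obj.map _).hom (_ + _) = (E.obj.map _).hom (_ + _)
    rw [map_add, map_add]
    show res E _ sB + res E _ _ = res E _ sB + res E _ _
    rw [← e']
    abel
  let G : ∀ k, O R (C k) ⟶ O R A := fun k => Omap (IsScalarTower.toAlgHom R A (C k))
  have hG : Presieve.ofArrows (fun k => (O R (C k)).left) (fun k => (G k).left) ∈
      Scheme.fppfPrecoverage.coverings (O R A).left :=
    AdeqLib.fppf_ofArrows_iff.mpr ⟨fun x => hcov x, fun k => hP k⟩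
  obtain ⟨x, hx⟩ := (glue E G hG).2 (fun k => res E (Omap (ev k)) s') fun i j T gi gj e => by
    let φ₀ : ∀ k, (T ⟶ O R (C k)) → (B →+* Γ(T.left, ⊤)) := fun k c => ((c ≫ Omap (ev k)).left.appTop.hom).comp (fn R B)
    have hA : ∀ (k) (c : T ⟶ O R (C k)) (a : A),
        φ₀ k c (algebraMap A B a) = (c ≫ G k).left.appTop (fn R A a) := fun k c a => by
      simp only [φ₀, G, RingHom.comp_apply, Over.comp_left, Scheme.Hom.comp_appTop, CommRingCat.comp_apply, fn_map]
      rfl
    letI : Algebra A Γ(T.left, ⊤) := ((φ₀ i gi).comp (algebraMap A B)).toAlgebra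
    let ψi : B →ₐ[A] Γ(T.left, ⊤) := { φ₀ i gi with commutes' := fun a => rfl }
    let ψj : B →ₐ[A] Γ(T.left, ⊤) :=
      { φ₀ j gj with commutes' := fun a => ((hA j gj a).trans (by rw [← e, ← hA i gi a]; rfl)) }
    let ψ := Algebra.TensorProduct.lift ψi ψj fun _ _ => Commute.all _ _
    let h0 : T ⟶ O R B2 := toO ψ.toRingHom (RingHom.ext fun c => by
      show ψ (algebraMap R B2 c) = strOf T c
      rw [IsScalarTower.algebraMap_apply R A B2, AlgHom.commutes, ← str_comp (gi ≫ Omap (ev i))]
      exact congrArg (φ₀ i gi) (IsScalarTower.algebraMap_apply R A B c).symm)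
    have el : h0 ≫ Omap (l.restrictScalars R) = gi ≫ Omap (ev i) := hom_ext_fn fun c => by
      simp only [Over.comp_left, Scheme.Hom.comp_appTop, CommRingCat.comp_apply, fn_map, h0, toO_fn]
      show ψ (c ⊗ₜ 1) = _
      simp [ψ, ψi, φ₀]
      exact congrArg gi.left.appTop (fn_map _ c)
    have er : h0 ≫ Omap (r.restrictScalars R) = gj ≫ Omap (ev j) := hom_ext_fn fun c => by
      simp only [Over.comp_left, Scheme.Hom.comp_appTop, CommRingCat.comp_apply, fn_map, h0, toO_fn]
      show ψ (1 ⊗ₜ c) = _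
      simp [ψ, ψj, φ₀]
      exact congrArg gj.left.appTop (fn_map _ c)
    rw [res_res, res_res, ← el, ← er, ← res_res, ← res_res, hl]
  refine ⟨x, (glue (CGrpSh.pts Scheme.fppfPrecoverage Gr) G hG).1 _ _ fun k => ?_⟩
  rw [← app_res, hx, app_res]
  show res _ _ ((π.hom.app _).hom (_ + _)) = _
  rw [map_add]
  show res _ _ (app π sB + app π (app fE _)) = _
  rw [app_π_fE fE π z, add_zero, hsBπ, htgt]
  refine (congrArg (tgt (C k)) (AlgHom.ext fun _ => rfl)).trans ((htgt A (C k) (IsScalarTower.toAlgHom R A (C k)) (AlgHom.id R A)).symm.trans ?_)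
  exact congrArg (res _ _) (ULift.ext _ _ (congrArg Additive.ofMul (by rw [Omap_id, Category.id_comp])))

/-- Points of the additive group are killed by the characteristic. -/
theorem pt_pow_eq_one {p : ℕ} [CharP A p] (a : A) : pt R A a ^ p = 1 := by
  have key : ∀ k : ℕ, pt R A a ^ k = pt R A ((k : A) * a) := fun k => by
    induction k with
    | zero => rw [pow_zero, Nat.cast_zero, zero_mul, pt_zero]
    | succ k ih => rw [pow_succ, ih, Nat.cast_succ, add_mul, _root_.one_mul, pt_add]
  rw [key, CharP.cast_eq_zero, zero_mul, pt_zero]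

end Lift

end Groth.Agent.GaExt
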