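import Groth.Agent.GaExt.Aff
import Mathlib.RingTheory.Flat.FaithfullyFlat.Basic
import Mathlib.RingTheory.FinitePresentation

/-!
Lifting along extensions by `G_m` after extensions of rings: single coverings, descent, twist data.
-/

set_option autoImplicit false
set_option backward.isDefEq.respectTransparency false
set_option backward.isDefEq.respectTransparency.types false
set_option linter.style.haveILetI false
set_option synthInstance.maxHeartbeats 400000

universe u

open CategoryTheory CategoryTheory.Limits AlgebraicGeometry Opposite TensorProduct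

noncomputable section

namespace Groth.Agent.GaExt

/-- A finitely generated family with `p`-th power quotients generating the unit ideal. -/
theorem exists_twist_family {p : ℕ} [hp : Fact p.Prime] {A : Type u} [CommRing A]
    {B : Type u} [CommRing B] [Algebra A B] [Module.FaithfullyFlat A B] (U : B ⊗[A] B) (g : Bˣ)
    (hg : U ^ p * ((1 : B) ⊗ₜ[A] (g : B)) = (g : B) ⊗ₜ[A] 1)
    (hspan : ∀ P : PrimeSpectrum A, ∃ f : A, f ∉ P.asIdeal ∧ ∃ m n : B, m * n = algebraMap A B f ∧
      U * (m ⊗ₜ 1) = 1 ⊗ₜ m) :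
    ∃ (n : ℕ) (m : Fin n → B) (q : Fin n → A), (∀ l, U * (m l ⊗ₜ 1) = 1 ⊗ₜ m l) ∧
      (∀ l, algebraMap A B (q l) = (g : B) * m l ^ p) ∧ Ideal.span (Set.range q) = ⊤ ∧
      ∀ k l, ∃ w, q k * q l ^ (p - 1) = w ^ p := by
  classical
  have hinj : Function.Injective (algebraMap A B) := FaithfulSMul.algebraMap_injective A B
  have eff : ∀ b : B, b ⊗ₜ[A] (1 : B) = (1 : B) ⊗ₜ b → ∃ a : A, algebraMap A B a = b := fun b e =>
    (Algebra.IsEffective.eqLocus_includeLeft_includeRight (.of_faithfullyFlat A B)).le e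
  let M : Set B := {m | U * (m ⊗ₜ 1) = 1 ⊗ₜ m}
  have hq2 : ∀ m ∈ M, ∀ n ∈ M, ∃ a : A, algebraMap A B a = (g : B) * m ^ (p - 1) * n := by
    intro m hm n hn
    refine eff _ ?_
    have e : U ^ (p - 1) * ((m ^ (p - 1)) ⊗ₜ[A] (1 : B)) = (1 : B) ⊗ₜ (m ^ (p - 1)) := by
      have := congrArg (· ^ (p - 1)) (show U * (m ⊗ₜ 1) = 1 ⊗ₜ m from hm)
      simpa [mul_pow, Algebra.TensorProduct.tmul_pow] using this
    have hn' : U * (n ⊗ₜ[A] (1 : B)) = 1 ⊗ₜ n := hn
    have hsplit : ∀ x y z : B, (x * y * z) ⊗ₜ[A] (1 : B) = (x ⊗ₜ 1) * (y ⊗ₜ 1) * (z ⊗ₜ 1) := by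
      intros; simp
    have hsplit' : ∀ x y z : B, (1 : B) ⊗ₜ[A] (x * y * z) = (1 ⊗ₜ x) * (1 ⊗ₜ y) * (1 ⊗ₜ z) := by
      intros; simp
    rw [hsplit, hsplit', ← hg, ← e, ← hn']
    conv_lhs => rw [show p = p - 1 + 1 from by have := hp.out.one_le; omega, pow_succ]
    simp only [Nat.add_sub_cancel]
    ring
  have hq : ∀ m ∈ M, ∃ a : A, algebraMap A B a = (g : B) * m ^ p := fun m hm => by
    obtain ⟨a, ha⟩ := hq2 m hm m hm
    exact ⟨a, by rw [ha, mul_assoc, ← pow_succ, Nat.sub_add_cancel hp.out.one_le]⟩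
  choose q hq using hq
  let qf : M → A := fun m => q m.1 m.2
  have hs : Ideal.span (Set.range qf) = ⊤ := by
    by_contra hne
    obtain ⟨P, hP, hsP⟩ := Ideal.exists_le_maximal _ hne
    obtain ⟨f, hf, m, n, hmn, hm⟩ := hspan ⟨P, hP.isPrime⟩
    refine hf (hP.isPrime.mem_of_pow_mem p ?_)
    obtain ⟨Q', hQ'⟩ := PrimeSpectrum.comap_surjective_of_faithfullyFlat (A := A) (B := B) ⟨P, hP.isPrime⟩
    have hcomap : P = Q'.asIdeal.comap (algebraMap A B) := congrArg PrimeSpectrum.asIdeal hQ'.symm
    have hmem : algebraMap A B (q m hm) ∈ Q'.asIdeal := by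
      have : q m hm ∈ P := hsP (Ideal.subset_span ⟨⟨m, hm⟩, rfl⟩)
      rwa [hcomap] at this
    show f ^ p ∈ P
    rw [hcomap, Ideal.mem_comap, map_pow, ← hmn, mul_pow]
    have e : m ^ p * n ^ p = algebraMap A B (q m hm) * (↑g⁻¹ * n ^ p) := by
      rw [hq]
      linear_combination -(m ^ p * n ^ p) * g.mul_inv
    rw [e]
    exact Ideal.mul_mem_right _ _ hmem
  obtain ⟨c, hc⟩ := (Finsupp.mem_ideal_span_range_iff_exists_finsupp (v := qf)).1
    ((Ideal.eq_top_iff_one _).1 hs)
  let e := c.support.equivFin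
  refine ⟨c.support.card, fun l => ((e.symm l).1 : M).1, fun l => qf (e.symm l).1, fun l => ((e.symm l).1 : M).2,
    fun l => hq _ _, ?_, fun k l => ?_⟩
  · refine (Ideal.eq_top_iff_one _).2 ?_
    rw [← hc]
    exact Ideal.sum_mem _ fun i hi =>
      Ideal.mul_mem_left _ _ (Ideal.subset_span ⟨e ⟨i, hi⟩, by simp⟩)
  · obtain ⟨w, hw⟩ := hq2 _ ((e.symm l).1 : M).2 _ ((e.symm k).1 : M).2
    refine ⟨w, hinj ?_⟩
    rw [map_mul, map_pow, map_pow, hq, hq, hw]
    conv_lhs => rw [mul_pow]
    conv_rhs => rw [mul_pow, mul_pow, ← pow_mul, mul_comm (p - 1) p, pow_mul]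
    calc (g : B) * ((e.symm k).1 : M).1 ^ p * ((g : B) ^ (p - 1) * (((e.symm l).1 : M).1 ^ p) ^ (p - 1))
        = ((g : B) ^ (p - 1) * g) * (((e.symm l).1 : M).1 ^ p) ^ (p - 1) * ((e.symm k).1 : M).1 ^ p := by ring
      _ = _ := by rw [← pow_succ, Nat.sub_add_cancel hp.out.one_le]

theorem sum_pow_of_zero {p : ℕ} [hp : Fact p.Prime] {S : Type u} [CommRing S] (hS : (p : S) = 0) {I : Type}
    [Fintype I] (f : I → S) : (∑ i, f i) ^ p = ∑ i, f i ^ p := by
  classical
  induction (Finset.univ : Finset I) using Finset.induction_on with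
  | empty => simp [zero_pow hp.out.ne_zero]
  | insert a s ha ih =>
    rw [Finset.sum_insert ha, Finset.sum_insert ha, ← ih]
    obtain ⟨r, hr⟩ := exists_add_pow_prime_eq hp.out (f a) (∑ i ∈ s, f i)
    rw [hr, hS, zero_mul, zero_mul, zero_mul, add_zero]

variable {R : Type u} [CommRing R] {E : BigSite.Ab Scheme.fppfPrecoverage (Spec (CommRingCat.of R))}

theorem fppfP_of_ff (A B : Type u) [CommRing A] [CommRing B] [Algebra A B] [Module.Flat A B]
    [Algebra.FinitePresentation A B] : AdeqLib.fppfP (Spec.map (CommRingCat.ofHom (algebraMap A B))) :=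
  ⟨Flat.SpecMap_iff.2 (RingHom.flat_algebraMap_iff.2 inferInstance),
    (HasRingHomProperty.Spec_iff (P := @LocallyOfFinitePresentation)).2
      (RingHom.finitePresentation_algebraMap.2 inferInstance)⟩

theorem cover_singleton (A B : Type u) [CommRing A] [Algebra R A] [CommRing B] [Algebra A B] [Algebra R B]
    [IsScalarTower R A B] [Module.FaithfullyFlat A B] [Algebra.FinitePresentation A B] :
    Presieve.ofArrows (fun _ : Fin 1 => (O R B).left) (fun _ => (Omap (IsScalarTower.toAlgHom R A B)).left) ∈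
      Scheme.fppfPrecoverage.coverings (O R A).left :=
  AdeqLib.fppf_ofArrows_iff.mpr ⟨fun x => ⟨0, by
    obtain ⟨y, hy⟩ := PrimeSpectrum.comap_surjective_of_faithfullyFlat (A := A) (B := B) x
    exact ⟨y, hy⟩⟩, fun _ => fppfP_of_ff A B⟩

/-- Restriction along a faithfully flat extension is injective. -/
theorem res_injective (A B : Type u) [CommRing A] [Algebra R A] [CommRing B] [Algebra A B] [Algebra R B]
    [IsScalarTower R A B] [Module.FaithfullyFlat A B] [Algebra.FinitePresentation A B]
    (x y : BigSite.sect Scheme.fppfPrecoverage E (O R A))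
    (h : res E (Omap (IsScalarTower.toAlgHom R A B)) x = res E (Omap (IsScalarTower.toAlgHom R A B)) y) : x = y :=
  (glue E (fun _ : Fin 1 => Omap (IsScalarTower.toAlgHom R A B)) (cover_singleton A B)).1 x y fun _ => h

/-- Descent of sections along a faithfully flat extension. -/
theorem exists_descend (A B : Type u) [CommRing A] [Algebra R A] [CommRing B] [Algebra A B] [Algebra R B]
    [IsScalarTower R A B] [Module.FaithfullyFlat A B] [Algebra.FinitePresentation A B]
    (s : BigSite.sect Scheme.fppfPrecoverage E (O R B))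
    (hs : res E (Omap ((Algebra.TensorProduct.includeLeft : B →ₐ[A] B ⊗[A] B).restrictScalars R)) s =
      res E (Omap ((Algebra.TensorProduct.includeRight : B →ₐ[A] B ⊗[A] B).restrictScalars R)) s) :
    ∃ x, res E (Omap (IsScalarTower.toAlgHom R A B)) x = s := by
  obtain ⟨x, hx⟩ := (glue E (fun _ : Fin 1 => Omap (IsScalarTower.toAlgHom R A B)) (cover_singleton A B)).2
    (fun _ => s) fun i j T gi gj e => by
    let φ₀ : (T ⟶ O R B) → (B →+* Γ(T.left, ⊤)) := fun c => c.left.appTop.hom.comp (fn R B)
    have hA : ∀ (c : T ⟶ O R B) (a : A),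
        φ₀ c (algebraMap A B a) = (c ≫ Omap (IsScalarTower.toAlgHom R A B)).left.appTop (fn R A a) := fun c a => by
      simp only [φ₀, RingHom.comp_apply, Over.comp_left, Scheme.Hom.comp_appTop, CommRingCat.comp_apply, fn_map]
      rfl
    letI : Algebra A Γ(T.left, ⊤) := ((φ₀ gi).comp (algebraMap A B)).toAlgebra
    let ψi : B →ₐ[A] Γ(T.left, ⊤) := { φ₀ gi with commutes' := fun a => rfl }
    let ψj : B →ₐ[A] Γ(T.left, ⊤) :=
      { φ₀ gj with commutes' := fun a => ((hA gj a).trans (by rw [← e, ← hA gi a]; rfl)) }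
    let ψ := Algebra.TensorProduct.lift ψi ψj fun _ _ => Commute.all _ _
    let h0 : T ⟶ O R (B ⊗[A] B) := toO ψ.toRingHom (RingHom.ext fun c => by
      show ψ (algebraMap R (B ⊗[A] B) c) = strOf T c
      rw [IsScalarTower.algebraMap_apply R A (B ⊗[A] B), AlgHom.commutes, ← str_comp gi]
      exact congrArg (φ₀ gi) (IsScalarTower.algebraMap_apply R A B c).symm)
    have el : h0 ≫ Omap ((Algebra.TensorProduct.includeLeft : B →ₐ[A] B ⊗[A] B).restrictScalars R) = gi :=
      hom_ext_fn fun c => by
        simp only [Over.comp_left, Scheme.Hom.comp_appTop, CommRingCat.comp_apply, fn_map, h0, toO_fn]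
        show ψ (c ⊗ₜ 1) = _
        simp [ψ, ψi, φ₀]
    have er : h0 ≫ Omap ((Algebra.TensorProduct.includeRight : B →ₐ[A] B ⊗[A] B).restrictScalars R) = gj :=
      hom_ext_fn fun c => by
        simp only [Over.comp_left, Scheme.Hom.comp_appTop, CommRingCat.comp_apply, fn_map, h0, toO_fn]
        show ψ (1 ⊗ₜ c) = _
        simp [ψ, ψj, φ₀]
    rw [← el, ← er, ← res_res, ← res_res, hs]
  exact ⟨x, hx 0⟩

variable {F : BigSite.Ab Scheme.fppfPrecoverage (Spec (CommRingCat.of R))} {A : Type u} [CommRing A] [Algebra R A]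

/-- Sections exist after a single finitely presented faithfully flat extension. -/
theorem exists_ff_lift_one (π : E ⟶ F) [Epi π] (b : BigSite.sect Scheme.fppfPrecoverage F (O R A)) :
    ∃ (B : Type u) (_ : CommRing B) (_ : Algebra A B) (_ : Algebra R B) (_ : IsScalarTower R A B),
      Module.FaithfullyFlat A B ∧ Algebra.FinitePresentation A B ∧
      ∃ s : BigSite.sect Scheme.fppfPrecoverage E (O R B),
        app π s = res F (Omap (IsScalarTower.toAlgHom R A B)) b := by
  classical
  obtain ⟨n, C, _, _, _, _, hP, hcov, hloc⟩ := exists_ff_lift π b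
  choose sk hsk using hloc
  let B : Type u := ∀ k, C k
  haveI : ∀ k, Module.Flat A (C k) := fun k =>
    RingHom.flat_algebraMap_iff.1 ((HasRingHomProperty.Spec_iff (P := @Flat)).mp (hP k).1)
  haveI : Module.Flat A B :=
    Module.Flat.of_linearEquiv (DirectSum.linearEquivFunOnFintype A (Fin n) fun k => C k).symm
  have hsurj : Function.Surjective (PrimeSpectrum.comap (algebraMap A B)) := fun P => by
    obtain ⟨k, x, hx⟩ := hcov P
    exact ⟨PrimeSpectrum.comap (Pi.evalRingHom (fun k => C k) k) x, Eq.trans rfl hx⟩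
  haveI : Module.FaithfullyFlat A B := Module.FaithfullyFlat.of_comap_surjective hsurj
  haveI : LocallyOfFinitePresentation (Spec.map (CommRingCat.ofHom (algebraMap A B))) := by
    let Cs : ULift.{u} (Fin n) → CommRingCat.{u} := fun k => CommRingCat.of (C k.down)
    let eB : (∀ k, Cs k) ≃+* B := RingEquiv.piCongrLeft (fun k => C k) Equiv.ulift
    have e : sigmaSpec Cs ≫ Spec.map (CommRingCat.ofHom eB.symm.toRingHom) ≫
        Spec.map (CommRingCat.ofHom (algebraMap A B)) =
        Limits.Sigma.desc fun k : ULift.{u} (Fin n) => Spec.map (CommRingCat.ofHom (algebraMap A (C k.down))) := by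
      refine Sigma.hom_ext _ _ fun k => ?_
      rw [Sigma.ι_desc, reassoc_of% ι_sigmaSpec Cs k, ← Spec.map_comp, ← Spec.map_comp]
      rfl
    haveI : IsIso (Spec.map (CommRingCat.ofHom eB.symm.toRingHom)) :=
      inferInstanceAs (IsIso (Spec.map eB.symm.toCommRingCatIso.hom))
    have h : LocallyOfFinitePresentation (sigmaSpec Cs ≫ Spec.map (CommRingCat.ofHom eB.symm.toRingHom) ≫
        Spec.map (CommRingCat.ofHom (algebraMap A B))) := by
      rw [e]
      exact IsZariskiLocalAtSource.sigmaDesc fun k : ULift.{u} (Fin n) => (hP k.down).2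
    rwa [MorphismProperty.cancel_left_of_respectsIso @LocallyOfFinitePresentation,
      MorphismProperty.cancel_left_of_respectsIso @LocallyOfFinitePresentation] at h
  haveI : Algebra.FinitePresentation A B := RingHom.finitePresentation_algebraMap.1
    ((HasRingHomProperty.Spec_iff (P := @LocallyOfFinitePresentation)
      (φ := CommRingCat.ofHom (algebraMap A B))).mp inferInstance)
  let ev : ∀ k, B →ₐ[R] C k := fun k => Pi.evalAlgHom R (fun k => C k) k
  have hcovB : Presieve.ofArrows (fun k => (O R (C k)).left) (fun k => (Omap (ev k)).left) ∈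
      Scheme.fppfPrecoverage.coverings (O R B).left := by
    refine AdeqLib.fppf_ofArrows_iff.mpr ⟨fun P => ?_, fun k => ?_⟩
    · obtain ⟨⟨k, x⟩, hx⟩ := (PrimeSpectrum.sigmaToPi_bijective (R := fun k => C k)).2 P
      exact ⟨k, x, hx⟩
    · haveI : IsOpenImmersion (Omap (ev k)).left :=
        inferInstanceAs (IsOpenImmersion (Spec.map (CommRingCat.ofHom (Pi.evalRingHom (fun k => C k) k))))
      exact AdeqLib.fppfP_imm _
  obtain ⟨sB, hsB⟩ := (glue E (fun k => Omap (ev k)) hcovB).2 sk fun i j W gi gj e => by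
    by_cases hij : i = j
    · subst hij
      have : gi = gj := hom_ext_fn fun c => by
        obtain ⟨c', rfl⟩ : ∃ c' : B, ev i c' = c := ⟨Pi.single i c, Pi.single_eq_same i c⟩
        have := congrArg (fun m => m.left.appTop (fn R B c')) e
        simp only [Over.comp_left, Scheme.Hom.comp_appTop, CommRingCat.comp_apply, fn_map] at this
        exact this
      rw [this]
    · refine sect_eq_of_trivial E ?_ _ _
      have := congrArg (fun m => m.left.appTop (fn R B (Pi.single i 1))) e
      simp only [Over.comp_left, Scheme.Hom.comp_appTop, CommRingCat.comp_apply, fn_map] at this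
      rw [show ev i (Pi.single i 1) = 1 from Pi.single_eq_same i (1 : C i),
        show ev j (Pi.single i 1) = 0 from Pi.single_eq_of_ne (Ne.symm hij) (1 : C i)] at this
      rw [map_one (fn R (C i)), map_zero (fn R (C j))] at this
      exact ((map_one gi.left.appTop.hom).symm.trans this).trans (map_zero gj.left.appTop.hom)
  refine ⟨B, inferInstance, inferInstance, inferInstance, inferInstance, inferInstance, inferInstance, sB,
    (glue F (fun k => Omap (ev k)) hcovB).1 _ _ fun k => ?_⟩
  rw [← app_res, hsB, hsk, res_res, Omap_comp]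
  rfl

variable {fE : Mm R ⟶ E} {π : E ⟶ F} {z : fE ≫ π = 0}

theorem fE_inj (hS : (ShortComplex.mk fE π z).ShortExact) (Y : Over (Spec (CommRingCat.of R)))
    (x y : BigSite.sect Scheme.fppfPrecoverage (Mm R) Y) (h : app fE x = app fE y) : x = y := by
  let Φ : BigSite.Ab Scheme.fppfPrecoverage (Spec (CommRingCat.of R)) ⥤ AddCommGrpCat.{u + 1} :=
    sheafToPresheaf (QuotSh.J Scheme.fppfPrecoverage _) AddCommGrpCat.{u + 1} ⋙ (evaluation _ _).obj (op Y)
  haveI : Mono fE := hS.mono_f
  haveI : Mono (Φ.map fE) := inferInstance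
  exact (AddCommGrpCat.mono_iff_injective (Φ.map fE)).1 inferInstance h

/-- A torsion section lifts over every extension in which some combination of the twist family becomes a unit. -/
theorem exists_solve {p : ℕ} [hp : Fact p.Prime] (hpA : (p : A) = 0) (hS : (ShortComplex.mk fE π z).ShortExact)
    (b : BigSite.sect Scheme.fppfPrecoverage F (O R A)) (hb : p • b = 0) :
    ∃ (n : ℕ) (q : Fin n → A), Ideal.span (Set.range q) = ⊤ ∧ (∀ k l, ∃ w, q k * q l ^ (p - 1) = w ^ p) ∧
      ∀ (A1 : Type u) [CommRing A1] [Algebra A A1] [Algebra R A1] [IsScalarTower R A A1] (e : Fin n → A1),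
        IsUnit (∑ l, e l ^ p * algebraMap A A1 (q l)) →
        ∃ s : BigSite.sect Scheme.fppfPrecoverage E (O R A1),
          app π s = res F (Omap (IsScalarTower.toAlgHom R A A1)) b := by
  classical
  haveI : Epi π := hS.epi_g
  obtain ⟨B, _, _, _, _, _, _, sB, hsB⟩ := exists_ff_lift_one π b
  have hdiff : ∀ (T : Type u) [CommRing T] [Algebra A T] (φ ψ : B →ₐ[A] T),
      ∃ w : Tˣ,
        letI : Algebra R T := ((algebraMap A T).comp (algebraMap R A)).toAlgebra
        haveI : IsScalarTower R A T := IsScalarTower.of_algebraMap_eq fun _ => rfl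
        app fE (U R T w) = res E (Omap (φ.restrictScalars R)) sB - res E (Omap (ψ.restrictScalars R)) sB := by
    intro T _ _ φ ψ
    letI : Algebra R T := ((algebraMap A T).comp (algebraMap R A)).toAlgebra
    haveI : IsScalarTower R A T := IsScalarTower.of_algebraMap_eq fun _ => rfl
    obtain ⟨t, ht⟩ := exact_sect hS (O R T)
      (res E (Omap (φ.restrictScalars R)) sB - res E (Omap (ψ.restrictScalars R)) sB) (by
        show (π.hom.app _).hom (_ - _) = 0
        rw [map_sub, sub_eq_zero]
        show app π (res E _ sB) = app π (res E _ sB)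
        rw [app_res, app_res, hsB, res_res, res_res, Omap_comp, Omap_comp]
        congr 2
        exact AlgHom.ext fun a => (φ.commutes a).trans (ψ.commutes a).symm)
    obtain ⟨w, rfl⟩ := U_surjective t
    exact ⟨w, ht⟩
  choose w hw using hdiff
  have wspec : ∀ (T : Type u) [CommRing T] [Algebra A T] [Algebra R T] [IsScalarTower R A T]
      (φ ψ : B →ₐ[A] T), app fE (U R T (w T φ ψ)) =
        res E (Omap (φ.restrictScalars R)) sB - res E (Omap (ψ.restrictScalars R)) sB := by
    intro T _ _ iT hT φ ψ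
    obtain rfl : iT = ((algebraMap A T).comp (algebraMap R A)).toAlgebra :=
      Algebra.algebra_ext _ _ fun r => IsScalarTower.algebraMap_apply R A T r
    exact hw T φ ψ
  have wnat : ∀ (T T' : Type u) [CommRing T] [Algebra A T] [CommRing T'] [Algebra A T']
      (f : T →ₐ[A] T') (φ ψ : B →ₐ[A] T),
      Units.map f.toRingHom.toMonoidHom (w T φ ψ) = w T' (f.comp φ) (f.comp ψ) := by
    intro T T' _ _ _ _ f φ ψ
    letI : Algebra R T := ((algebraMap A T).comp (algebraMap R A)).toAlgebra
    haveI : IsScalarTower R A T := IsScalarTower.of_algebraMap_eq fun _ => rfl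
    letI : Algebra R T' := ((algebraMap A T').comp (algebraMap R A)).toAlgebra
    haveI : IsScalarTower R A T' := IsScalarTower.of_algebraMap_eq fun _ => rfl
    refine U_injective (R := R) (fE_inj hS _ _ _ ?_)
    rw [wspec, show Units.map f.toRingHom.toMonoidHom (w T φ ψ) =
        Units.map (f.restrictScalars R).toRingHom.toMonoidHom (w T φ ψ) from rfl, ← U_res, app_res, wspec]
    show (E.obj.map _).hom (_ - _) = _
    rw [map_sub]
    show res E _ (res E _ sB) - res E _ (res E _ sB) = _
    rw [res_res, res_res, Omap_comp, Omap_comp]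
    rfl
  have wcoc : ∀ (T : Type u) [CommRing T] [Algebra A T] (φ ψ χ : B →ₐ[A] T),
      w T φ ψ * w T ψ χ = w T φ χ := by
    intro T _ _ φ ψ χ
    letI : Algebra R T := ((algebraMap A T).comp (algebraMap R A)).toAlgebra
    haveI : IsScalarTower R A T := IsScalarTower.of_algebraMap_eq fun _ => rfl
    refine U_injective (R := R) (fE_inj hS _ _ _ ?_)
    rw [U_mul, app, map_add]
    show app fE _ + app fE _ = app fE _
    rw [wspec, wspec, wspec, sub_add_sub_cancel]
  have wone : ∀ (T : Type u) [CommRing T] [Algebra A T] (φ : B →ₐ[A] T), w T φ φ = 1 := fun T _ _ φ =>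
    mul_eq_left.mp (wcoc T φ φ φ)
  let B2 := B ⊗[A] B
  let l : B →ₐ[A] B2 := Algebra.TensorProduct.includeLeft
  let r : B →ₐ[A] B2 := Algebra.TensorProduct.includeRight
  obtain ⟨g, hg⟩ : ∃ g : Bˣ, app fE (U R B g) = p • sB := by
    obtain ⟨t, ht⟩ := exact_sect hS (O R B) (p • sB) (by
      show (π.hom.app _).hom (p • sB) = 0
      rw [map_nsmul]
      show p • app π sB = 0
      rw [hsB, res, ← map_nsmul, hb, map_zero])
    obtain ⟨g, rfl⟩ := U_surjective t
    exact ⟨g, ht⟩
  have hUg : w B2 l r ^ p * Units.map r.toRingHom.toMonoidHom g = Units.map l.toRingHom.toMonoidHom g := by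
    refine U_injective (R := R) (fE_inj hS _ _ _ ?_)
    have hpow : ∀ k : ℕ, app fE (U R B2 (w B2 l r ^ k)) = k • app fE (U R B2 (w B2 l r)) := fun k => by
      induction k with
      | zero => rw [pow_zero, U_one, zero_smul]; exact map_zero _
      | succ k ih => rw [pow_succ, U_mul, succ_nsmul, app, map_add]; exact congrArg (· + _) ih
    rw [U_mul, app, map_add]
    show app fE _ + app fE _ = app fE _
    rw [hpow, wspec, show Units.map r.toRingHom.toMonoidHom g = Units.map (r.restrictScalars R).toRingHom.toMonoidHom g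
      from rfl, show Units.map l.toRingHom.toMonoidHom g = Units.map (l.restrictScalars R).toRingHom.toMonoidHom g
      from rfl, ← U_res, ← U_res, app_res, app_res, hg]
    show _ + (E.obj.map _).hom (p • sB) = (E.obj.map _).hom (p • sB)
    rw [map_nsmul, map_nsmul, nsmul_sub]
    show p • res E _ sB - p • res E _ sB + p • res E _ sB = p • res E _ sB
    exact sub_add_cancel _ _
  let W : ∀ (T : Type u) [CommRing T] [Algebra A T] [Module.Flat A T], (B →ₐ[A] T) → (B →ₐ[A] T) → T :=
    fun T _ _ _ φ ψ => w T φ ψ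
  obtain ⟨n, m, q, hm, hq, hspan, hpair⟩ := exists_twist_family ((w B2 l r : B2ˣ) : B2) g (congrArg Units.val hUg)
    fun P => by
      obtain ⟨f, hf, m, n, hmn, h⟩ := LBDesc.exists_coboundary (A := A) (B := B) W
        (fun T T' _ _ _ _ _ _ f φ ψ => congrArg Units.val (wnat T T' f φ ψ))
        (fun T _ _ _ φ => congrArg Units.val (wone T φ))
        (fun T _ _ _ φ ψ χ => congrArg Units.val (wcoc T φ ψ χ)) P
      exact ⟨f, hf, m, n, hmn, h⟩
  refine ⟨n, q, hspan, hpair, ?_⟩
  intro A1 _ _ _ _ e he
  let B1 := A1 ⊗[A] B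
  let j : B →ₐ[A] B1 := Algebra.TensorProduct.includeRight
  haveI : IsScalarTower R A B1 := inferInstance
  haveI : IsScalarTower R A1 B1 := inferInstance
  have hpB : (p : B1) = 0 := by rw [← map_natCast (algebraMap A B1) p, hpA, map_zero]
  let m1 : B1 := ∑ i, algebraMap A1 B1 (e i) * j (m i)
  have hm1 : j (g : B) * m1 ^ p = algebraMap A1 B1 (∑ i, e i ^ p * algebraMap A A1 (q i)) := by
    rw [sum_pow_of_zero hpB, Finset.mul_sum, map_sum]
    refine Finset.sum_congr rfl fun i _ => ?_
    rw [mul_pow, ← map_pow j, mul_left_comm, ← map_mul j, ← hq, AlgHom.commutes, map_mul, map_pow,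
      ← IsScalarTower.algebraMap_apply A A1 B1]
  have hunit : IsUnit m1 := by
    have h := he.map (algebraMap A1 B1)
    rw [← hm1] at h
    exact (isUnit_pow_iff hp.out.ne_zero).1 (isUnit_of_mul_isUnit_right h)
  let s' : BigSite.sect Scheme.fppfPrecoverage E (O R B1) :=
    res E (Omap (j.restrictScalars R)) sB + app fE (U R B1 hunit.unit)
  let T := B1 ⊗[A1] B1
  let l1 : B1 →ₐ[A1] T := Algebra.TensorProduct.includeLeft
  let r1 : B1 →ₐ[A1] T := Algebra.TensorProduct.includeRight
  haveI : IsScalarTower R A T := inferInstance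
  let φ : B →ₐ[A] T := (l1.restrictScalars A).comp j
  let ψ : B →ₐ[A] T := (r1.restrictScalars A).comp j
  let f2 : B2 →ₐ[A] T := Algebra.TensorProduct.lift φ ψ fun _ _ => Commute.all _ _
  have hf2 : (w T φ ψ : T) = f2 (w B2 l r) := by
    have h := wnat B2 T f2 l r
    rw [show f2.comp l = φ from Algebra.TensorProduct.lift_comp_includeLeft _ _ fun _ _ => Commute.all _ _,
      show f2.comp r = ψ from Algebra.TensorProduct.lift_comp_includeRight _ _ fun _ _ => Commute.all _ _] at h
    exact congrArg Units.val h.symm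
  have he1 : w T φ ψ * Units.map l1.toRingHom.toMonoidHom hunit.unit = Units.map r1.toRingHom.toMonoidHom hunit.unit := by
    refine Units.ext ?_
    show (w T φ ψ : T) * l1 m1 = r1 m1
    simp only [m1, map_sum, map_mul, AlgHom.commutes]
    rw [Finset.mul_sum (f := fun i => algebraMap A1 T (e i) * l1 (j (m i)))]
    refine Finset.sum_congr rfl fun i _ => ?_
    rw [mul_left_comm]
    congr 1
    have h := congrArg f2 (hm i)
    rw [map_mul, Algebra.TensorProduct.lift_tmul, Algebra.TensorProduct.lift_tmul, map_one, map_one, mul_one,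
      one_mul] at h
    rw [hf2]
    exact h
  have hl : res E (Omap (l1.restrictScalars R)) s' = res E (Omap (r1.restrictScalars R)) s' := by
    have e' := congrArg (fun v => app fE (U R T v)) he1
    simp only [U_mul] at e'
    rw [app, map_add] at e'
    change app fE _ + app fE _ = app fE _ at e'
    rw [wspec, show Units.map r1.toRingHom.toMonoidHom hunit.unit =
        Units.map (r1.restrictScalars R).toRingHom.toMonoidHom hunit.unit from rfl,
      show Units.map l1.toRingHom.toMonoidHom hunit.unit =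
        Units.map (l1.restrictScalars R).toRingHom.toMonoidHom hunit.unit from rfl,
      ← U_res, ← U_res, app_res, app_res] at e'
    show (E.obj.map _).hom (_ + _) = (E.obj.map _).hom (_ + _)
    rw [map_add, map_add]
    show res E _ (res E _ sB) + res E _ _ = res E _ (res E _ sB) + res E _ _
    rw [res_res, res_res, Omap_comp, Omap_comp]
    show res E (Omap (φ.restrictScalars R)) sB + _ = res E (Omap (ψ.restrictScalars R)) sB + _
    rw [← e']
    abel
  obtain ⟨x, hx⟩ := exists_descend A1 B1 s' hl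
  refine ⟨x, res_injective A1 B1 _ _ ?_⟩
  rw [← app_res, hx]
  show (π.hom.app _).hom (_ + _) = _
  rw [map_add]
  show app π (res E _ sB) + app π (app fE _) = _
  rw [show app π (app fE (U R B1 hunit.unit)) = 0 from
    ConcreteCategory.congr_hom (congrArg (fun q => q.hom.app (op (O R B1))) z) _, add_zero, app_res, hsB, res_res,
    res_res, Omap_comp, Omap_comp]
  congr 2
  exact AlgHom.ext fun a => (j.commutes a).trans (IsScalarTower.algebraMap_apply A A1 B1 a)

end Groth.Agent.GaExt
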