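import Groth.Agent.GaExt.GaMain
import Groth.Agent.GaSplit.Trunc
import Groth.Prelude.Def_AlphaPn

/-!
`Ext¹(α_{p^n}, G_m) = 0` over rings of characteristic `p` with surjective Frobenius.
-/

set_option autoImplicit false
set_option backward.isDefEq.respectTransparency false
set_option backward.isDefEq.respectTransparency.types false
set_option linter.style.haveILetI false
set_option synthInstance.maxHeartbeats 400000

universe u

open CategoryTheory CategoryTheory.Limits CategoryTheory.Abelian AlgebraicGeometry Opposite WithConv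
open MonoidalCategory CartesianMonoidalCategory MonObj
open scoped TensorProduct
open Groth.Agent.GaSplit (xT xT_pow mkT ev2)

noncomputable section

namespace Groth.Agent.GaExt

variable (p : ℕ) [hp : Fact p.Prime] (R : Type u) [CommRing R] [CharP R p] (n : ℕ)

/-- The group scheme `α_{p^n}`. -/
abbrev Al : Over (Spec (CommRingCat.of R)) :=
  (Spec (CommRingCat.of (AlphaPn.A p n R))).asOver (Spec (CommRingCat.of R))

variable {p R n}

/-- The point with a given coordinate. -/
def apt {C : Type u} [CommRing C] [Algebra R C] (f : AlphaPn.A p n R →ₐ[R] C) : O R C ⟶ Al p R n := Omap f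

theorem apt_eq {C : Type u} [CommRing C] [Algebra R C] (f : AlphaPn.A p n R →ₐ[R] C) :
    apt f = Spec.mapMulEquiv (toConv f) := rfl

theorem apt_mul {C : Type u} [CommRing C] [Algebra R C] (f g h : AlphaPn.A p n R →ₐ[R] C)
    (e : h (AlphaPn.x p n R) = f (AlphaPn.x p n R) + g (AlphaPn.x p n R)) : apt h = apt f * apt g := by
  rw [apt_eq, apt_eq, apt_eq]
  refine Eq.trans ?_ (map_mul Spec.mapMulEquiv (toConv f) (toConv g))
  congr 1
  refine WithConv.ofConv_injective (AlphaPn.algHom_ext ?_)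
  rw [AlgHom.convMul_apply, AlphaPn.comul_x, ofConv_toConv, e]
  simp

theorem apt_one {C : Type u} [CommRing C] [Algebra R C] (h : AlphaPn.A p n R →ₐ[R] C)
    (e : h (AlphaPn.x p n R) = 0) : apt h = 1 := by
  have h2 := apt_mul h h h (by rw [e, add_zero])
  exact left_eq_mul.mp h2

theorem apt_pow {C : Type u} [CommRing C] [Algebra R C] (f : AlphaPn.A p n R →ₐ[R] C) : apt f ^ p = 1 := by
  have key : ∀ k : ℕ, ∃ g : AlphaPn.A p n R →ₐ[R] C,
      apt f ^ k = apt g ∧ g (AlphaPn.x p n R) = (k : C) * f (AlphaPn.x p n R) := fun k => by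
    induction k with
    | zero =>
      refine ⟨AlphaPn.lift p n R 0 (zero_pow (pow_ne_zero _ hp.out.ne_zero)), ?_, by simp⟩
      rw [pow_zero, apt_one _ (AlphaPn.lift_x _ _)]
    | succ k ih =>
      obtain ⟨g, hg, hgx⟩ := ih
      refine ⟨AlphaPn.lift p n R ((k + 1 : ℕ) * f (AlphaPn.x p n R)) ?_, ?_, AlphaPn.lift_x _ _⟩
      · rw [mul_pow, ← map_pow, AlphaPn.x_pow, map_zero, mul_zero]
      · rw [pow_succ, hg]
        refine (apt_mul g f _ ?_).symm
        rw [AlphaPn.lift_x, hgx, Nat.cast_succ, add_mul, _root_.one_mul]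
  obtain ⟨g, hg, hgx⟩ := key p
  rw [hg, apt_one g (by rw [hgx, AlphaPn.natCast_eq_zero p R C, zero_mul])]

variable {E : BigSite.Ab Scheme.fppfPrecoverage (Spec (CommRingCat.of R))} {fE : Mm R ⟶ E}
  {π : E ⟶ CGrpSh.pts Scheme.fppfPrecoverage (Al p R n)} {z : fE ≫ π = 0}

/-- Extensions of `α_{p^n}` by the multiplicative group split. -/
theorem exists_splitting_alpha (hF : Function.Surjective (frobenius R p))
    (hS : (ShortComplex.mk fE π z).ShortExact) :
    ∃ φ : CGrpSh.pts Scheme.fppfPrecoverage (Al p R n) ⟶ E, φ ≫ π = 𝟙 _ := by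
  classical
  haveI := charP_quot_nilradical p R
  haveI : _root_.IsReduced (R ⧸ nilradical R) :=
    (Ideal.isRadical_iff_quotient_reduced _).1 (Ideal.radical_isRadical _)
  have hq0 : p ^ n ≠ 0 := pow_ne_zero _ hp.out.ne_zero
  let cz : ZMod p →+* R := ZMod.castHom dvd_rfl R
  let hadd := GaSplit.addQ (n := n) cz
  let A := AlphaPn.A p n R
  let x : A := AlphaPn.x p n R
  let z0 : A →ₐ[R] R := AlphaPn.lift p n R 0 (zero_pow hq0)
  have hkey : RootKey p (R ⧸ nilradical R) := rootKey_of_surjective fun a => by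
    obtain ⟨a, rfl⟩ := Ideal.Quotient.mk_surjective a
    obtain ⟨b, hb⟩ := hF a
    exact ⟨Ideal.Quotient.mk _ b, by rw [← map_pow, ← hb, frobenius_def]⟩
  obtain ⟨s, hs⟩ := exists_section (A := A) hS ((Ideal.Quotient.mk (nilradical R)).comp z0.toRingHom)
    (fun c => by
      obtain ⟨r, rfl⟩ := Ideal.Quotient.mk_surjective c
      exact ⟨algebraMap R A r, congrArg _ (z0.commutes r)⟩)
    (fun a ha => by
      obtain ⟨f, rfl⟩ := AlphaPn.mk_surjective p n R a
      have h0 : z0 (AlphaPn.mk p n R f) = f.coeff 0 := by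
        rw [← AlphaPn.aeval_x, ← Polynomial.aeval_algHom_apply, AlphaPn.lift_x, Polynomial.coeff_zero_eq_aeval_zero]
      have hc : IsNilpotent (f.coeff 0) := mem_nilradical.1 (Ideal.Quotient.eq_zero_iff_mem.1 (h0 ▸ ha))
      rw [show f = Polynomial.X * f.divX + Polynomial.C (f.coeff 0) from (Polynomial.X_mul_divX_add f).symm,
        map_add, map_mul, AlphaPn.mk_X, ← Polynomial.algebraMap_eq, AlgHom.commutes]
      exact (Commute.all _ _).isNilpotent_add ((Commute.all _ _).isNilpotent_mul_right ⟨p ^ n, AlphaPn.x_pow p n R⟩)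
        (hc.map _)) hkey (apt (AlgHom.id R A)) (apt_pow _)
  let G := CGrpSh.pts Scheme.fppfPrecoverage (Al p R n)
  let tg : ∀ (C : Type u) [CommRing C] [Algebra R C] (f : A →ₐ[R] C),
      BigSite.sect Scheme.fppfPrecoverage G (O R C) := fun C _ _ f => ULift.up (Additive.ofMul (apt f))
  have tg_res : ∀ {C D : Type u} [CommRing C] [Algebra R C] [CommRing D] [Algebra R D] (g : C →ₐ[R] D)
      (f : A →ₐ[R] C), res G (Omap g) (tg C f) = tg D (g.comp f) :=
    fun g f => ULift.ext _ _ (congrArg Additive.ofMul (Omap_comp f g))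
  have hres : ∀ {C : Type u} [CommRing C] [Algebra R C] (f : A →ₐ[R] C),
      app π (res E (Omap f) s) = tg C f := fun f => by
    rw [app_res, hs]
    exact (tg_res f (AlgHom.id R A)).trans (congrArg (tg _) (AlgHom.comp_id f))
  let s1 : BigSite.sect Scheme.fppfPrecoverage E (O R A) :=
    s - res E (Omap (Algebra.ofId R A)) (res E (Omap z0) s)
  have hs1 : app π s1 = tg A (AlgHom.id R A) := by
    show (π.hom.app _).hom (_ - _) = _
    rw [map_sub]
    show app π s - app π (res E _ (res E _ s)) = _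
    rw [res_res, Omap_comp, hres, hs]
    show tg A _ - tg A ((Algebra.ofId R A).comp z0) = _
    have e : tg A ((Algebra.ofId R A).comp z0) = 0 :=
      ULift.ext _ _ (congrArg Additive.ofMul (apt_one _ (by simp [z0])))
    rw [e, sub_zero]
  have hs1z : res E (Omap z0) s1 = 0 := by
    show (E.obj.map _).hom (_ - _) = _
    rw [map_sub]
    show res E _ s - res E _ (res E _ (res E _ s)) = 0
    rw [res_res E (Omap (Algebra.ofId R A)) (Omap z0), Omap_comp,
      show z0.comp (Algebra.ofId R A) = AlgHom.id R R from Subsingleton.elim _ _, Omap_id, res_id, sub_self]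
  let ev : ∀ (s : BigSite.sect Scheme.fppfPrecoverage E (O R A)) (C : Type u) [CommRing C] [Algebra R C] (c : C)
      (hc : c ^ (p ^ n) = 0), BigSite.sect Scheme.fppfPrecoverage E (O R C) :=
    fun s C _ _ c hc => res E (Omap (AlphaPn.lift p n R c hc)) s
  have ev_congr : ∀ (s : BigSite.sect Scheme.fppfPrecoverage E (O R A)) {C : Type u} [CommRing C] [Algebra R C]
      {c c' : C} (hc : c ^ (p ^ n) = 0) (hc' : c' ^ (p ^ n) = 0), c = c' → ev s C c hc = ev s C c' hc' := by
    intro s C _ _ c c' hc hc' e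
    subst e
    rfl
  let dl : ∀ (s : BigSite.sect Scheme.fppfPrecoverage E (O R A)) (C : Type u) [CommRing C] [Algebra R C] (a b : C)
      (ha : a ^ (p ^ n) = 0) (hb : b ^ (p ^ n) = 0), BigSite.sect Scheme.fppfPrecoverage E (O R C) :=
    fun s C _ _ a b ha hb => ev s C (a + b) (hadd C a b ha hb) - ev s C a ha - ev s C b hb
  let T2 := GaSplit.T R (Fin 2) (p ^ n)
  let X0 : T2 := xT R (Fin 2) (p ^ n) 0
  let X1 : T2 := xT R (Fin 2) (p ^ n) 1
  have ev_res : ∀ (s : BigSite.sect Scheme.fppfPrecoverage E (O R A)) {C D : Type u} [CommRing C] [Algebra R C]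
      [CommRing D] [Algebra R D] (g : C →ₐ[R] D) (c : C) (hc : c ^ (p ^ n) = 0),
      res E (Omap g) (ev s C c hc) = ev s D (g c) (by rw [← map_pow, hc, map_zero]) := by
    intro s C D _ _ _ _ g c hc
    rw [res_res, Omap_comp]
    exact congrArg (fun h => res E (Omap h) s) (AlphaPn.algHom_ext (by simp))
  have dl_res : ∀ (s : BigSite.sect Scheme.fppfPrecoverage E (O R A)) {C : Type u} [CommRing C] [Algebra R C]
      (a b : C) (ha : a ^ (p ^ n) = 0) (hb : b ^ (p ^ n) = 0),
      res E (Omap (ev2 a b ha hb)) (dl s T2 X0 X1 (xT_pow 0) (xT_pow 1)) = dl s C a b ha hb := by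
    intro s C _ _ a b ha hb
    have e0 : ev2 a b ha hb X0 = a := (GaSplit.ev2_mk a b ha hb _).trans (by simp [GaSplit.at2])
    have e1 : ev2 a b ha hb X1 = b := (GaSplit.ev2_mk a b ha hb _).trans (by simp [GaSplit.at2])
    show (E.obj.map _).hom (_ - _ - _) = _
    rw [map_sub, map_sub]
    show res E _ (ev s T2 _ _) - res E _ (ev s T2 _ _) - res E _ (ev s T2 _ _) = _
    rw [ev_res, ev_res, ev_res]
    exact congrArg₂ (· - ·) (congrArg₂ (· - ·) (ev_congr s _ _ (by rw [map_add, e0, e1])) (ev_congr s _ _ e0))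
      (ev_congr s _ _ e1)
  obtain ⟨t, ht⟩ := exact_sect hS _ (dl s1 T2 X0 X1 (xT_pow 0) (xT_pow 1)) (by
    show (π.hom.app _).hom (_ - _ - _) = 0
    rw [map_sub, map_sub]
    show app π (res E _ s1) - app π (res E _ s1) - app π (res E _ s1) = 0
    rw [app_res, app_res, app_res, hs1, tg_res, tg_res, tg_res, AlgHom.comp_id, AlgHom.comp_id, AlgHom.comp_id]
    apply ULift.ext
    show Additive.ofMul (apt _) - Additive.ofMul (apt _) - Additive.ofMul (apt _) = 0
    rw [apt_mul (AlphaPn.lift p n R X0 (xT_pow 0)) (AlphaPn.lift p n R X1 (xT_pow 1)) _ (by simp), ofMul_mul]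
    abel)
  obtain ⟨h, rfl⟩ := U_surjective t
  have hD : ∀ {C : Type u} [CommRing C] [Algebra R C] (a b : C) (ha : a ^ (p ^ n) = 0) (hb : b ^ (p ^ n) = 0),
      app fE (U R C (Units.map (ev2 a b ha hb).toRingHom.toMonoidHom h)) = dl s1 C a b ha hb := by
    intro C _ _ a b ha hb
    rw [← U_res, app_res, ← dl_res s1 a b ha hb]
    exact congrArg (res E _) ht
  have hinj : ∀ {C : Type u} [CommRing C] [Algebra R C] {v w : Cˣ},
      app fE (U R C v) = app fE (U R C w) → (v : C) = w :=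
    fun e => congrArg Units.val (U_injective (fE_injective hS _ _ _ e))
  have hgood : GaSplit.GoodT hadd (h : T2) := by
    refine ⟨fun h0 => ?_, ?_, ?_⟩
    · refine hinj (w := 1) ?_ (v := Units.map (ev2 X0 0 (xT_pow 0) h0).toRingHom.toMonoidHom h)
      rw [hD, U_one]
      refine Eq.trans ?_ (map_zero _).symm
      show ev s1 T2 (X0 + 0) _ - ev s1 T2 X0 _ - ev s1 T2 0 h0 = 0
      rw [ev_congr s1 _ (xT_pow 0) (add_zero X0), sub_self, zero_sub, neg_eq_zero]
      show res E (Omap (AlphaPn.lift p n R (0 : T2) h0)) s1 = 0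
      rw [show AlphaPn.lift p n R (0 : T2) h0 = (Algebra.ofId R T2).comp z0 from AlphaPn.algHom_ext (by simp [z0]),
        ← Omap_comp, ← res_res, hs1z]
      exact map_zero _
    · refine hinj (w := h) ?_ (v := Units.map (ev2 X1 X0 (xT_pow 1) (xT_pow 0)).toRingHom.toMonoidHom h)
      rw [hD, ht]
      show ev s1 T2 (X1 + X0) _ - ev s1 T2 X1 _ - ev s1 T2 X0 _ = ev s1 T2 (X0 + X1) _ - ev s1 T2 X0 _ - ev s1 T2 X1 _
      rw [ev_congr s1 _ (hadd _ _ _ (xT_pow 0) (xT_pow 1)) (add_comm X1 X0)]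
      abel
    · let T3 := GaSplit.T R (Fin 3) (p ^ n)
      let Y : Fin 3 → T3 := xT R (Fin 3) (p ^ n)
      let m : ∀ a b : T3, a ^ (p ^ n) = 0 → b ^ (p ^ n) = 0 → T3ˣ :=
        fun a b ha hb => Units.map (ev2 a b ha hb).toRingHom.toMonoidHom h
      refine hinj (v := m (Y 1) (Y 2) (xT_pow 1) (xT_pow 2) *
          m (Y 0) (Y 1 + Y 2) (xT_pow 0) (hadd _ _ _ (xT_pow 1) (xT_pow 2)))
        (w := m (Y 0 + Y 1) (Y 2) (hadd _ _ _ (xT_pow 0) (xT_pow 1)) (xT_pow 2) *
          m (Y 0) (Y 1) (xT_pow 0) (xT_pow 1)) ?_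
      rw [U_mul, U_mul]
      refine (map_add _ _ _).trans (Eq.trans ?_ (map_add _ _ _).symm)
      show app fE _ + app fE _ = app fE _ + app fE _
      rw [hD, hD, hD, hD]
      simp only [dl]
      rw [ev_congr s1 (hadd _ _ _ (hadd _ _ _ (xT_pow 0) (xT_pow 1)) (xT_pow 2))
        (hadd _ _ _ (xT_pow 0) (hadd _ _ _ (xT_pow 1) (xT_pow 2))) (add_assoc (Y 0) (Y 1) (Y 2))]
      abel
  obtain ⟨f, g, hfg, -, hh⟩ := GaSplit.solvableT (n := n) cz (fun a => hF a) hgood
  have hfu := GaSplit.aeval_unit hfg (AlphaPn.x_pow p n R)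
  let fu : Aˣ := Units.mkOfMulEqOne _ _ hfu
  let s2 : BigSite.sect Scheme.fppfPrecoverage E (O R A) := s1 - app fE (U R A fu)
  have hs2 : app π s2 = tg A (AlgHom.id R A) := by
    show (π.hom.app _).hom (_ - _) = _
    rw [map_sub]
    show app π s1 - app π (app fE _) = _
    rw [app_π_fE fE π z, sub_zero, hs1]
  let fa : ∀ (c : T2), c ^ (p ^ n) = 0 → T2ˣ := fun c hc => Units.map (AlphaPn.lift p n R c hc).toRingHom.toMonoidHom fu
  have fa_val : ∀ (c : T2) (hc : c ^ (p ^ n) = 0), (fa c hc : T2) = Polynomial.aeval c f := fun c hc =>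
    (Polynomial.aeval_algHom_apply (AlphaPn.lift p n R c hc) (AlphaPn.x p n R) f).symm.trans (by rw [AlphaPn.lift_x])
  have hd2 : dl s2 T2 X0 X1 (xT_pow 0) (xT_pow 1) = 0 := by
    have hev : ∀ (c : T2) (hc : c ^ (p ^ n) = 0), ev s2 T2 c hc = ev s1 T2 c hc - app fE (U R T2 (fa c hc)) := by
      intro c hc
      show (E.obj.map _).hom (_ - _) = _
      rw [map_sub]
      show res E _ s1 - res E _ (app fE _) = _
      rw [← app_res, U_res]
    show ev s2 T2 _ _ - ev s2 T2 _ _ - ev s2 T2 _ _ = 0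
    rw [hev, hev, hev]
    have e : fa (X0 + X1) (hadd _ _ _ (xT_pow 0) (xT_pow 1)) = fa X0 (xT_pow 0) * fa X1 (xT_pow 1) * h := by
      refine Units.ext ?_
      rw [Units.val_mul, Units.val_mul, fa_val, fa_val, fa_val, hh, GaSplit.dlt]
      simp only [map_mul, ← Polynomial.aeval_algHom_apply, map_add]
      linear_combination -(Polynomial.aeval (X0 + X1) f *
          (Polynomial.aeval X0 f * Polynomial.aeval X0 g)) * GaSplit.aeval_unit hfg (xT_pow (Q := R) (q := p ^ n) (1 : Fin 2)) -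
        Polynomial.aeval (X0 + X1) f * GaSplit.aeval_unit hfg (xT_pow (Q := R) (q := p ^ n) (0 : Fin 2))
    rw [e, U_mul, U_mul, app, map_add, map_add]
    show ev s1 T2 (X0 + X1) _ - (app fE _ + app fE _ + app fE (U R T2 h)) - (ev s1 T2 X0 _ - app fE _) -
      (ev s1 T2 X1 _ - app fE _) = 0
    rw [ht]
    show _ - (_ + _ + (ev s1 T2 _ _ - ev s1 T2 _ _ - ev s1 T2 _ _)) - _ - _ =
      (0 : BigSite.sect _ E (O R T2))
    abel
  have hadd2 : ∀ {Y : Over (Spec (CommRingCat.of R))} (a b : Y ⟶ Al p R n),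
      res E (Y := O R A) (a * b : Y ⟶ Al p R n) s2 = res E (Y := O R A) a s2 + res E (Y := O R A) b s2 := by
    intro Y a b
    letI : Algebra R Γ(Y.left, ⊤) := (strOf Y).toAlgebra
    let φ : (Y ⟶ Al p R n) → (A →ₐ[R] Γ(Y.left, ⊤)) := fun c =>
      { (c.left.appTop.hom.comp (fn R A) : A →+* Γ(Y.left, ⊤)) with
        commutes' := fun r => RingHom.congr_fun (str_comp (A := A) c) r }
    have hφ : ∀ c, φ c x ^ (p ^ n) = 0 := fun c => by rw [← map_pow, AlphaPn.x_pow, map_zero]
    let y2 : Y ⟶ O R T2 := toO (ev2 (φ a x) (φ b x) (hφ a) (hφ b)).toRingHom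
      (RingHom.ext fun r => (ev2 (φ a x) (φ b x) (hφ a) (hφ b)).commutes r)
    have hy : ∀ (c : T2) (hc : c ^ (p ^ n) = 0) (q : Y ⟶ Al p R n), ev2 (φ a x) (φ b x) (hφ a) (hφ b) c = φ q x →
        y2 ≫ apt (AlphaPn.lift p n R c hc) = q := fun c hc q hq => by
      refine hom_ext_fn fun w => ?_
      show (y2 ≫ Omap _).left.appTop _ = φ q w
      rw [Over.comp_left, Scheme.Hom.comp_appTop, CommRingCat.comp_apply, fn_map, toO_fn]
      exact AlgHom.congr_fun (AlphaPn.algHom_ext (f := (ev2 (φ a x) (φ b x) (hφ a) (hφ b)).comp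
        (AlphaPn.lift p n R c hc)) (g := φ q) (by simpa using hq)) w
    have ha : y2 ≫ apt (AlphaPn.lift p n R X0 (xT_pow 0)) = a :=
      hy _ _ _ ((GaSplit.ev2_mk _ _ _ _ _).trans (by simp [GaSplit.at2]))
    have hb : y2 ≫ apt (AlphaPn.lift p n R X1 (xT_pow 1)) = b :=
      hy _ _ _ ((GaSplit.ev2_mk _ _ _ _ _).trans (by simp [GaSplit.at2]))
    have hab : y2 ≫ apt (AlphaPn.lift p n R (X0 + X1) (hadd _ _ _ (xT_pow 0) (xT_pow 1))) = a * b := by
      rw [apt_mul (AlphaPn.lift p n R X0 (xT_pow 0)) (AlphaPn.lift p n R X1 (xT_pow 1)) _ (by simp),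
        MonObj.comp_mul, ha, hb]
    have h0 := congrArg (res E y2) hd2
    change (E.obj.map _).hom (_ - _ - _) = (E.obj.map _).hom 0 at h0
    rw [map_sub, map_sub, map_zero] at h0
    change res E y2 (res E (Omap _) s2) - res E y2 (res E (Omap _) s2) - res E y2 (res E (Omap _) s2) = 0 at h0
    rw [res_res, res_res, res_res] at h0
    change res E (Y := O R A) (y2 ≫ apt _) s2 - res E (Y := O R A) (y2 ≫ apt _) s2 -
      res E (Y := O R A) (y2 ≫ apt _) s2 = 0 at h0
    rw [hab, ha, hb, sub_sub, sub_eq_zero] at h0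
    exact h0
  refine ⟨⟨{
      app := fun T => AddCommGrpCat.ofHom (AddMonoidHom.mk'
          (fun a : ULift.{u + 1} (Additive (unop T ⟶ Al p R n)) => res E (Y := O R A) a.down.toMul s2)
          (fun a b => hadd2 a.down.toMul b.down.toMul))
      naturality := fun T T' k => AddCommGrpCat.ext fun a => (res_res E (Y := O R A) a.down.toMul k.unop s2).symm }⟩, ?_⟩
  apply Sheaf.hom_ext
  ext T a
  show app π (res E (Y := O R A) a.down.toMul s2) = a
  rw [app_res, hs2]
  refine ULift.ext _ _ (congrArg Additive.ofMul ?_)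
  show a.down.toMul ≫ Omap (AlgHom.id R A) = a.down.toMul
  rw [Omap_id]
  exact Category.comp_id _

theorem subsingleton_ext_alpha (hF : Function.Surjective (frobenius R p)) :
    Subsingleton (CGrpSh.ExtS Scheme.fppfPrecoverage (Al p R n) (Red.Gm (Spec (CommRingCat.of R))) 1) :=
  subsingleton_of_split _ _ fun _ _ _ _ hS => exists_splitting_alpha hF hS

end Groth.Agent.GaExt
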