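import Groth.Agent.GaChar.Basic
import Mathlib.Algebra.DualNumber
import Mathlib.RingTheory.AdjoinRoot

/-!
Natural multiplicative functionals on characters of the additive group in characteristic `p` are evaluations.
-/

set_option autoImplicit false
set_option linter.style.haveILetI false

universe u

open Polynomial
open Groth.Agent.GaChar

noncomputable section

namespace Groth.Agent.GaExt

variable (p : ℕ) [hp : Fact p.Prime]

theorem charP_of_nontrivial {A : Type u} [CommRing A] [CharP A p] (C : Type u) [CommRing C] [Algebra A C]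
    [Nontrivial C] : CharP C p :=
  (CharP.charP_iff_prime_eq_zero hp.out).2 (by
    rw [← map_natCast (algebraMap A C) p, CharP.cast_eq_zero, map_zero])

theorem map_E {A B : Type u} [CommRing A] [CharP A p] [CommRing B] (σ : A →+* B) (t : A) (n : ℕ) :
    (E p t n).map σ = E p (σ t) n := by
  simp only [E, Polynomial.map_sum, Polynomial.map_mul, Polynomial.map_pow, map_C, map_X, map_mul, map_pow]
  refine Finset.sum_congr rfl fun j hj => ?_
  obtain ⟨w, hw⟩ := isUnit_factorial (A := A) p (Finset.mem_range.1 hj)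
  have e : σ (Ring.inverse (j.factorial : A)) = Ring.inverse (j.factorial : B) := by
    have h : ((Units.map σ.toMonoidHom w : Bˣ) : B) = (j.factorial : B) := by simp [hw]
    rw [← hw, ← h, Ring.inverse_unit, Ring.inverse_unit]
    rfl
  rw [e]

theorem eval_E_zero {A : Type u} [CommRing A] [CharP A p] (t v : A) :
    (E p t 0).eval v = texp p (A := A) (t * v) := by
  rw [← coe_aeval_eq_eval, aeval_E_zero]
  rfl

theorem texp_sq_zero {A R : Type u} [CommRing A] [CharP A p] [CommRing R] [Algebra A R] (u' : R) (hu : u' * u' = 0) :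
    texp p (A := A) u' = 1 + u' := by
  rw [texp, ← Finset.sum_range_add_sum_Ico _ hp.out.two_le]
  rw [Finset.sum_eq_zero (s := Finset.Ico 2 p) fun j hj => ?_, add_zero, Finset.sum_range_succ,
    Finset.sum_range_one]
  · simp
  · obtain ⟨hj, -⟩ := Finset.mem_Ico.1 hj
    rw [pow_eq_zero_of_le hj (by rw [sq, hu]), mul_zero]

theorem E_mul_carry {A : Type u} [CommRing A] [CharP A p] (e b : A) (he : e * e = 0) (hb : b ^ p = 0) :
    E p e 0 * E p b 0 =
      E p (e + b) 0 * E p (e * b ^ (p - 1) * Ring.inverse ((p - 1).factorial : A)) 1 := by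
  set r := Ring.inverse ((p - 1).factorial : A) with hr
  set c := e * b ^ (p - 1) * r with hc
  have hp1 : p - 1 + 1 = p := Nat.sub_add_cancel hp.out.one_le
  have hpos : 0 < p - 1 := by have := hp.out.two_le; omega
  have hcc : c * c = 0 := by rw [hc]; linear_combination (b ^ (p - 1) * r) ^ 2 * he
  have hcs : c * (e + b) = 0 := by
    have h1 : b ^ (p - 1) * b = 0 := by rw [← pow_succ, hp1, hb]
    rw [hc]
    linear_combination b ^ (p - 1) * r * he + e * r * h1
  have hE1 : E p c 1 = 1 + C c * X ^ p := by
    rw [E_succ, E_zero, texp_sq_zero p (C c * X) (by linear_combination X ^ 2 * (congrArg C hcc).trans C_0 + X ^ 2 * (C_mul (a := c) (b := c)).symm)]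
    simp
  have hu : (C e * X) * (C e * X) = (0 : A[X]) := by
    rw [mul_mul_mul_comm, ← C_mul, he, C_0, zero_mul]
  have hsucc : ∀ j, (C b * X + C e * X) ^ (j + 1) =
      (C b * X) ^ (j + 1) + ((j + 1 : ℕ) : A[X]) * (C e * X) * (C b * X) ^ j := by
    intro j
    induction j with
    | zero => simp
    | succ j ih =>
      rw [pow_succ, ih]
      push_cast
      linear_combination ((j : A[X]) + 1) * (C b * X) ^ j * hu
  have hinv : ∀ j, j + 1 < p → Ring.inverse ((j + 1).factorial : A) * ((j + 1 : ℕ) : A) = Ring.inverse (j.factorial : A) :=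
    fun j hj => by
      have h := inv_mul_choose (A := A) p hj (Nat.le_succ j)
      simpa [Nat.choose_succ_self_right] using h
  -- expand the truncated exponential of the sum
  have hsum : texp p (A := A) (C e * X + C b * X) + C e * X * (C r * (C b * X) ^ (p - 1)) =
      (1 + C e * X) * texp p (A := A) (C b * X) := by
    rw [add_comm (C e * X)]
    simp only [texp, algebraMap_eq]
    conv_rhs => rw [add_mul, one_mul, Finset.mul_sum]
    have h1 : ∑ j ∈ Finset.range p, C (Ring.inverse (j.factorial : A)) * (C b * X + C e * X) ^ j =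
        ∑ j ∈ Finset.range p, C (Ring.inverse (j.factorial : A)) * (C b * X) ^ j +
          ∑ j ∈ Finset.range (p - 1), C e * X * (C (Ring.inverse (j.factorial : A)) * (C b * X) ^ j) := by
      conv_lhs => rw [← hp1, Finset.sum_range_succ']
      conv_rhs => arg 1; rw [← hp1, Finset.sum_range_succ']
      simp only [pow_zero, add_assoc]
      rw [add_comm (C _ * 1), ← add_assoc, ← Finset.sum_add_distrib]
      refine congrArg (· + _) (Finset.sum_congr rfl fun j hj => ?_)
      rw [hsucc, mul_add]
      congr 1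
      rw [← hinv j (by have := Finset.mem_range.1 hj; omega), C_mul, C_eq_natCast]
      ring
    rw [h1, add_assoc]
    refine congrArg (_ + ·) ?_
    conv_rhs => rw [← hp1, Finset.sum_range_succ]
  obtain ⟨S, hS⟩ : ∃ S : A[X], texp p (A := A) (C e * X + C b * X) = 1 + C (e + b) * S := by
    refine ⟨∑ j ∈ Finset.range (p - 1), C (Ring.inverse ((j + 1).factorial : A)) * (X * (C (e + b) * X) ^ j), ?_⟩
    rw [texp, ← hp1, Finset.sum_range_succ', Finset.mul_sum, add_comm]
    simp only [algebraMap_eq, pow_zero, mul_one, Nat.factorial_zero, Nat.cast_one, Ring.inverse_one, C_1]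
    refine congrArg (_ + ·) (Finset.sum_congr rfl fun j _ => ?_)
    rw [pow_succ, ← add_mul, ← C_add]
    ring
  rw [hE1, E_zero, E_zero, E_zero, C_add, add_mul, texp_sq_zero p (C e * X) hu, ← hsum]
  have h2 : C e * X * (C r * (C b * X) ^ (p - 1)) = C c * X ^ p := by
    conv_rhs => rw [← hp1, pow_succ]
    simp only [hc, C_mul, C_pow, mul_pow]
    ring
  have h3 : C c * C (e + b) = 0 := by rw [← C_mul, hcs, C_0]
  rw [h2, hS]
  linear_combination -(X ^ p * S) * h3

open DualNumber in
theorem aeval_inl_add_eps {A : Type u} [CommRing A] {B : Type u} [CommRing B] [Algebra A B] (b : B) (P : A[X]) :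
    aeval (TrivSqZeroExt.inl b + (ε : DualNumber B)) P =
      TrivSqZeroExt.inl (aeval b P) + TrivSqZeroExt.inr (aeval b (derivative P)) := by
  induction P using Polynomial.induction_on' with
  | add P Q hP hQ =>
    simp only [map_add, hP, hQ, TrivSqZeroExt.inl_add, TrivSqZeroExt.inr_add]
    abel
  | monomial n r =>
    refine TrivSqZeroExt.ext ?_ ?_
    · simp [aeval_monomial, TrivSqZeroExt.algebraMap_eq_inl']
    · simp [aeval_monomial, derivative_monomial, TrivSqZeroExt.algebraMap_eq_inl', TrivSqZeroExt.snd_pow]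
      ring

variable {A : Type u} [CommRing A] [CharP A p]

/-- The hypotheses on a functional of characters. -/
structure IsNatural (v : ∀ (C : Type u) [CommRing C] [Algebra A C], C[X] → C) : Prop where
  one : ∀ (C : Type u) [CommRing C] [Algebra A C], v C 1 = 1
  mul : ∀ (C : Type u) [CommRing C] [Algebra A C] (f g : C[X]), IsChar f → IsChar g → v C (f * g) = v C f * v C g
  nat : ∀ (C D : Type u) [CommRing C] [Algebra A C] [CommRing D] [Algebra A D] (σ : C →ₐ[A] D) (f : C[X]),
    IsChar f → v D (f.map σ.toRingHom) = σ (v C f)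

/-- Precomposition with the expansion. -/
theorem IsNatural.expand {v : ∀ (C : Type u) [CommRing C] [Algebra A C], C[X] → C}
    (hv : IsNatural (A := A) v) : IsNatural (A := A) (fun C _ _ f => v C (Polynomial.expand C p f)) := by
  have hc : ∀ (C : Type u) [CommRing C] [Algebra A C] (f : C[X]), IsChar f → IsChar (Polynomial.expand C p f) :=
    fun C _ _ f hf => by
      rcases subsingleton_or_nontrivial C with hC | hC
      · exact ⟨Subsingleton.elim _ _, Subsingleton.elim _ _⟩
      · haveI := charP_of_nontrivial p (A := A) C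
        exact isChar_expand p hf
  exact
    { one := fun C _ _ => by rw [map_one, hv.one]
      mul := fun C _ _ f g hf hg => by rw [map_mul, hv.mul C _ _ (hc C f hf) (hc C g hg)]
      nat := fun C D _ _ _ _ σ f hf => by rw [← Polynomial.map_expand, hv.nat C D σ _ (hc C f hf)] }

open DualNumber in
theorem exists_coord {v : ∀ (C : Type u) [CommRing C] [Algebra A C], C[X] → C} (hv : IsNatural (A := A) v) :
    ∃ x y : A, y = x ^ p ∧
      (v (DualNumber A) (E p (ε : DualNumber A) 0) = 1 + algebraMap A (DualNumber A) x * ε) ∧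
      (v (DualNumber A) (E p (ε : DualNumber A) 1) = 1 + algebraMap A (DualNumber A) y * ε) ∧
      ∀ (C : Type u) [CommRing C] [Algebra A C] (t : C), t ^ p = 0 →
        v C (E p t 0) = (E p t 0).eval (algebraMap A C x) := by
  classical
  haveI : Nontrivial A := CharP.nontrivial_of_char_ne_one (R := A) hp.out.ne_one
  haveI : CharP (DualNumber A) p := charP_of_injective_algebraMap
    (fun (a b : A) (h : algebraMap A (DualNumber A) a = algebraMap A (DualNumber A) b) =>
      show a = b from congrArg (TrivSqZeroExt.fst (R := A) (M := A)) h) p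
  have hεp : (ε : DualNumber A) ^ p = 0 := pow_eq_zero_of_le hp.out.two_le (by rw [sq, eps_mul_eps])
  have hE0 : ∀ n (R : Type u) [CommRing R] [CharP R p], E p (0 : R) n = 1 := fun n R _ _ => by
    rw [E, Finset.sum_eq_single_of_mem 0 (Finset.mem_range.2 hp.out.pos)
      (fun j _ hj => by rw [zero_pow hj, mul_zero, C_0, zero_mul])]
    simp
  have hlin : ∀ n, v (DualNumber A) (E p (ε : DualNumber A) n) =
      1 + algebraMap A _ (TrivSqZeroExt.snd (v (DualNumber A) (E p (ε : DualNumber A) n))) * ε := fun n => by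
    have h := hv.nat (DualNumber A) A (TrivSqZeroExt.fstHom A A A) _ (isChar_E p hεp n)
    rw [map_E, show (TrivSqZeroExt.fstHom A A A).toRingHom (ε : DualNumber A) = 0 from fst_eps, hE0, hv.one] at h
    refine TrivSqZeroExt.ext ?_ ?_
    · simpa [TrivSqZeroExt.algebraMap_eq_inl] using h.symm
    · simp [TrivSqZeroExt.algebraMap_eq_inl]
  set x := TrivSqZeroExt.snd (v (DualNumber A) (E p (ε : DualNumber A) 0)) with hxdef
  set y := TrivSqZeroExt.snd (v (DualNumber A) (E p (ε : DualNumber A) 1)) with hydef
  let B := AdjoinRoot (X ^ p : A[X])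
  let b : B := AdjoinRoot.root _
  have hb : b ^ p = 0 := by
    show AdjoinRoot.mk (X ^ p : A[X]) X ^ p = 0
    rw [← map_pow, AdjoinRoot.mk_self]
  let z : B →ₐ[A] A := AdjoinRoot.liftAlgHom _ (AlgHom.id A A) 0 (by simp [zero_pow hp.out.ne_zero])
  haveI : Nontrivial B := z.toRingHom.domain_nontrivial
  haveI : CharP B p := charP_of_nontrivial p (A := A) B
  haveI : CharP (DualNumber B) p := charP_of_nontrivial p (A := A) (DualNumber B)
  have hdeg : ∀ {P : A[X]} {k : ℕ}, aeval b P = 0 → k < p → P.coeff k = 0 := fun {P k} h hk => by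
    rw [AdjoinRoot.aeval_eq, AdjoinRoot.mk_eq_zero] at h
    exact X_pow_dvd_iff.1 h k hk
  obtain ⟨P, hP⟩ : ∃ P : A[X], aeval b P = v B (E p b 0) := by
    obtain ⟨P, hP⟩ := AdjoinRoot.mk_surjective (v B (E p b 0))
    exact ⟨P, (AdjoinRoot.aeval_eq P).trans hP⟩
  have hP0 : P.coeff 0 = 1 := by
    have h := hv.nat B A z _ (isChar_E p hb 0)
    rw [map_E, show z.toRingHom b = 0 from AdjoinRoot.liftAlgHom_root .., hE0, hv.one, ← hP, ← aeval_algHom_apply,
      show z b = 0 from AdjoinRoot.liftAlgHom_root ..] at h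
    rw [coeff_zero_eq_aeval_zero]
    exact h.symm
  -- the three maps
  let d0 : DualNumber A →ₐ[A] (DualNumber B) := DualNumber.lift ⟨⟨Algebra.ofId A (DualNumber B), (ε : (DualNumber B))⟩, eps_mul_eps,
    fun _ => Commute.all _ _⟩
  let il : B →ₐ[A] (DualNumber B) := TrivSqZeroExt.inlAlgHom A B B
  have hibp : (TrivSqZeroExt.inl b : (DualNumber B)) ^ p = 0 := by
    show il b ^ p = 0
    rw [← map_pow, hb, map_zero]
  have hσ : (TrivSqZeroExt.inl b + (ε : (DualNumber B))) ^ p = 0 := by
    rw [add_pow_char, hibp, zero_add,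
      pow_eq_zero_of_le hp.out.two_le (by rw [sq, eps_mul_eps])]
  let σ : B →ₐ[A] (DualNumber B) := AdjoinRoot.liftAlgHom _ (Algebra.ofId A (DualNumber B)) (TrivSqZeroExt.inl b + ε) (by simpa using hσ)
  let r : (DualNumber B) := Ring.inverse ((p - 1).factorial : (DualNumber B))
  let c : (DualNumber B) := ε * TrivSqZeroExt.inl b ^ (p - 1) * r
  have hcc : c * c = 0 := by
    simp only [c]
    linear_combination (TrivSqZeroExt.inl b ^ (p - 1) * r) ^ 2 * (eps_mul_eps : (ε : (DualNumber B)) * ε = 0)
  let dc : DualNumber A →ₐ[A] (DualNumber B) := DualNumber.lift ⟨⟨Algebra.ofId A (DualNumber B), c⟩, hcc, fun _ => Commute.all _ _⟩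
  have hd0 : d0 ε = ε := DualNumber.lift_apply_eps _
  have hdc : dc ε = c := DualNumber.lift_apply_eps _
  have hilb : il b = TrivSqZeroExt.inl b := rfl
  have hσb : σ b = TrivSqZeroExt.inl b + ε := AdjoinRoot.liftAlgHom_root ..
  have key : v (DualNumber B) (E p (ε : (DualNumber B)) 0 * E p (TrivSqZeroExt.inl b) 0) = v (DualNumber B) (E p ((ε : (DualNumber B)) + TrivSqZeroExt.inl b) 0 * E p c 1) :=
    congrArg (v (DualNumber B)) (E_mul_carry p _ _ eps_mul_eps hibp)
  have c0 : IsChar (E p (ε : (DualNumber B)) 0) := isChar_E p (pow_eq_zero_of_le hp.out.two_le (by rw [sq, eps_mul_eps])) 0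
  have c1 : IsChar (E p (TrivSqZeroExt.inl b : (DualNumber B)) 0) :=
    isChar_E p hibp 0
  have c2 : IsChar (E p ((ε : (DualNumber B)) + TrivSqZeroExt.inl b) 0) := isChar_E p (by rw [add_comm, hσ]) 0
  have c3 : IsChar (E p c 1) := isChar_E p (pow_eq_zero_of_le hp.out.two_le (by rw [sq, hcc])) 1
  rw [hv.mul (DualNumber B) _ _ c0 c1, hv.mul (DualNumber B) _ _ c2 c3] at key
  rw [show v (DualNumber B) (E p (ε : (DualNumber B)) 0) = d0 (v _ (E p (ε : DualNumber A) 0)) by
      rw [← hv.nat _ (DualNumber B) d0 _ (isChar_E p hεp 0), map_E]; exact congrArg (fun t => v (DualNumber B) (E p t 0)) hd0.symm,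
    show v (DualNumber B) (E p (TrivSqZeroExt.inl b : (DualNumber B)) 0) = il (v B (E p b 0)) by
      rw [← hv.nat B (DualNumber B) il _ (isChar_E p hb 0), map_E]; rfl,
    show v (DualNumber B) (E p ((ε : (DualNumber B)) + TrivSqZeroExt.inl b) 0) = σ (v B (E p b 0)) by
      rw [← hv.nat B (DualNumber B) σ _ (isChar_E p hb 0), map_E]
      exact congrArg (fun t => v (DualNumber B) (E p t 0)) ((add_comm _ _).trans hσb.symm),
    show v (DualNumber B) (E p c 1) = dc (v _ (E p (ε : DualNumber A) 1)) by
      rw [← hv.nat _ (DualNumber B) dc _ (isChar_E p hεp 1), map_E]; exact congrArg (fun t => v (DualNumber B) (E p t 1)) hdc.symm,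
    hlin 0, hlin 1, map_add, map_mul, map_one, AlgHom.commutes, hd0, map_add, map_mul, map_one, AlgHom.commutes, hdc,
    ← hP, ← aeval_algHom_apply, ← aeval_algHom_apply, hσb, hilb, aeval_inl_add_eps] at key
  have hy : TrivSqZeroExt.fst r = algebraMap A B (Ring.inverse ((p - 1).factorial : A)) := by
    obtain ⟨w, hw⟩ := isUnit_factorial (A := A) p (show p - 1 < p by have := hp.out.pos; omega)
    have h : ((Units.map (algebraMap A (DualNumber B)).toMonoidHom w : (DualNumber B)ˣ) : (DualNumber B)) = ((p - 1).factorial : (DualNumber B)) := by simp [hw]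
    show TrivSqZeroExt.fst (Ring.inverse ((p - 1).factorial : (DualNumber B))) = _
    rw [← h, Ring.inverse_unit, ← hw, Ring.inverse_unit]
    rfl
  rw [← hxdef, ← hydef] at key
  have haD : ∀ a : A, algebraMap A (DualNumber B) a = TrivSqZeroExt.inl (algebraMap A B a) := fun _ => rfl
  have h2 := congrArg TrivSqZeroExt.snd key
  have hfst : TrivSqZeroExt.fst (aeval (TrivSqZeroExt.inl b : (DualNumber B)) P) = aeval b P := by
    rw [show (TrivSqZeroExt.inl b : (DualNumber B)) = il b from rfl, aeval_algHom_apply]; rfl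
  have hsnd : TrivSqZeroExt.snd (aeval (TrivSqZeroExt.inl b : (DualNumber B)) P) = 0 := by
    rw [show (TrivSqZeroExt.inl b : (DualNumber B)) = il b from rfl, aeval_algHom_apply]; rfl
  simp [c, haD, DualNumber.snd_mul, TrivSqZeroExt.fst_mul, TrivSqZeroExt.snd_pow, TrivSqZeroExt.fst_pow, hfst, hsnd, hy] at h2
  set iv := Ring.inverse ((p - 1).factorial : A)
  have h3 : aeval b (Polynomial.C x * P - (derivative P + Polynomial.C (y * iv) * (P * X ^ (p - 1)))) = 0 := by
    simp only [map_sub, map_add, map_mul, aeval_C, aeval_X_pow]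
    linear_combination h2
  have hrec : ∀ k, k + 1 < p → P.coeff (k + 1) * (k + 1 : A) = x * P.coeff k := fun k hk => by
    have := hdeg h3 (show k < p by omega)
    rw [coeff_sub, coeff_add, coeff_C_mul, coeff_C_mul, coeff_mul_X_pow', if_neg (by omega), mul_zero, add_zero,
      coeff_derivative, sub_eq_zero] at this
    exact this.symm
  have hform : ∀ k, k < p → P.coeff k = Ring.inverse (k.factorial : A) * x ^ k := fun k => by
    induction k with
    | zero => simp [hP0]
    | succ k ih =>
      intro hk
      have hu := isUnit_cast (A := A) p (k := k + 1) fun h => absurd (Nat.le_of_dvd (Nat.succ_pos k) h) (by omega)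
      refine hu.mul_right_cancel ?_
      have h := inv_mul_choose (A := A) p hk (Nat.le_succ k)
      simp [Nat.choose_succ_self_right] at h
      have h' := hrec k hk
      rw [ih (by omega)] at h'
      push_cast
      linear_combination h' - x ^ (k + 1) * h
  have hyx : y = x ^ p := by
    have := hdeg h3 (show p - 1 < p by have := hp.out.pos; omega)
    rw [coeff_sub, coeff_add, coeff_C_mul, coeff_C_mul, coeff_mul_X_pow', if_pos le_rfl, Nat.sub_self, hP0,
      coeff_derivative, Nat.sub_add_cancel hp.out.one_le, hform _ (show p - 1 < p by have := hp.out.pos; omega)] at this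
    have hpz : ((p - 1 : ℕ) : A) + 1 = 0 := by
      rw [← Nat.cast_add_one, Nat.sub_add_cancel hp.out.one_le, CharP.cast_eq_zero]
    have hu := (isUnit_factorial (A := A) p (show p - 1 < p by have := hp.out.pos; omega)).ringInverse
    refine hu.mul_left_cancel ?_
    have hxp : x * x ^ (p - 1) = x ^ p := by rw [← pow_succ', Nat.sub_add_cancel hp.out.one_le]
    linear_combination -this + iv * hxp - P.coeff p * hpz
  refine ⟨x, y, hyx, hlin 0, hlin 1, fun R _ _ t ht => ?_⟩
  rcases subsingleton_or_nontrivial R with hR | hR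
  · exact Subsingleton.elim _ _
  haveI := charP_of_nontrivial p (A := A) R
  let τ : B →ₐ[A] R := AdjoinRoot.liftAlgHom _ (Algebra.ofId A R) t (by simpa using ht)
  have hτ : τ b = t := AdjoinRoot.liftAlgHom_root ..
  have hg : v B (E p b 0) = (E p b 0).eval (algebraMap A B x) := by
    rw [← hP, eval_E_zero, texp]
    have h4 : aeval b (P - ∑ j ∈ Finset.range p, Polynomial.C (Ring.inverse (j.factorial : A) * x ^ j) * X ^ j) = 0 := by
      rw [AdjoinRoot.aeval_eq, AdjoinRoot.mk_eq_zero, X_pow_dvd_iff]
      intro k hk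
      rw [coeff_sub, finsetSum_coeff, Finset.sum_eq_single_of_mem k (Finset.mem_range.2 hk)
        (fun j _ hj => by rw [coeff_C_mul, coeff_X_pow, if_neg (Ne.symm hj), mul_zero]), coeff_C_mul, coeff_X_pow,
        if_pos rfl, mul_one, hform k hk, sub_self]
    rw [map_sub, sub_eq_zero] at h4
    rw [h4, map_sum]
    refine Finset.sum_congr rfl fun j hj => ?_
    obtain ⟨w, hw⟩ := isUnit_factorial (A := A) p (Finset.mem_range.1 hj)
    have e : ((Units.map (algebraMap A B).toMonoidHom w : Bˣ) : B) = (j.factorial : B) := by simp [hw]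
    rw [← e, Ring.inverse_unit, ← hw, Ring.inverse_unit]
    simp [mul_pow]
    ring
  have h := hv.nat B R τ _ (isChar_E p hb 0)
  rw [map_E, show τ.toRingHom b = t from hτ, hg] at h
  rw [h, ← coe_aeval_eq_eval, aeval_def, ← coe_aeval_eq_eval, aeval_def]
  refine ((Polynomial.hom_eval₂ (E p b 0) _ τ.toRingHom _).trans ?_)
  rw [show τ.toRingHom (algebraMap A B x) = algebraMap A R x from τ.commutes x, ← hτ]
  show _ = eval₂ (algebraMap R R) _ (E p (τ.toRingHom b) 0)
  rw [← map_E p τ.toRingHom, eval₂_map]
  rfl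

open DualNumber in
include p hp in
/-- Natural multiplicative functionals on characters are evaluations. -/
theorem exists_eval {v : ∀ (C : Type u) [CommRing C] [Algebra A C], C[X] → C} (hv : IsNatural (A := A) v) :
    ∃ x : A, ∀ (C : Type u) [CommRing C] [Algebra A C] (f : C[X]), IsChar f → v C f = f.eval (algebraMap A C x) := by
  classical
  let vs : ℕ → ∀ (C : Type u) [CommRing C] [Algebra A C], C[X] → C := fun n =>
    Nat.rec v (fun _ w C _ _ f => w C (Polynomial.expand C p f)) n
  have hvs : ∀ n, IsNatural (A := A) (vs n) := fun n => by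
    induction n with
    | zero => exact hv
    | succ n ih => exact ih.expand p
  choose x y hxy hx hy hev using fun n => exists_coord p (hvs n)
  haveI : Nontrivial A := CharP.nontrivial_of_char_ne_one (R := A) hp.out.ne_one
  haveI : CharP (DualNumber A) p := charP_of_injective_algebraMap
    (fun (a b : A) (h : algebraMap A (DualNumber A) a = algebraMap A (DualNumber A) b) =>
      show a = b from congrArg (TrivSqZeroExt.fst (R := A) (M := A)) h) p
  have hshift : ∀ (k : ℕ) (C : Type u) [CommRing C] [Algebra A C] [CharP C p] (t : C) (n : ℕ),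
      vs k C (E p t n) = vs (k + n) C (E p t 0) := by
    intro k C _ _ _ t n
    induction n generalizing k with
    | zero => rfl
    | succ n ih => rw [E_succ]; exact (ih (k + 1)).trans (by rw [Nat.succ_add k n]; rfl)
  have hinj : ∀ a b : A, (1 : DualNumber A) + algebraMap A _ a * ε = 1 + algebraMap A _ b * ε → a = b := fun a b h => by
    simpa [TrivSqZeroExt.algebraMap_eq_inl] using congrArg TrivSqZeroExt.snd h
  have hstep : ∀ n, x (n + 1) = y n := fun n => hinj _ _ ((hx (n + 1)).symm.trans
    (((hshift n (DualNumber A) (ε : DualNumber A) 1).symm).trans (hy n)))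
  have hxn : ∀ n, x n = x 0 ^ p ^ n := fun n => by
    induction n with
    | zero => rw [pow_zero, pow_one]
    | succ n ih => rw [hstep, hxy, ih, ← pow_mul, pow_succ]
  refine ⟨x 0, fun C _ _ f hf => ?_⟩
  rcases subsingleton_or_nontrivial C with hC | hC
  · exact Subsingleton.elim _ _
  haveI := charP_of_nontrivial p (A := A) C
  obtain ⟨N, t, ht, rfl⟩ := (isChar_iff p f).1 hf
  have hexp : ∀ (a : C) (n : ℕ) (z : C), (E p a n).eval z = (E p a 0).eval (z ^ p ^ n) := fun a n z => by
    induction n generalizing z with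
    | zero => rw [pow_zero, pow_one]
    | succ n ih => rw [E_succ, expand_eval, ih, ← pow_mul, ← pow_succ']
  have hE : ∀ n, v C (E p (t n) n) = (E p (t n) n).eval (algebraMap A C (x 0)) := fun n => by
    refine (hshift 0 C (t n) n).trans ?_
    rw [Nat.zero_add, hev n C (t n) (ht n), hxn, map_pow]
    exact (hexp _ _ _).symm
  clear hf
  induction N with
  | zero => simp [hv.one]
  | succ N ih =>
    rw [Finset.prod_range_succ, hv.mul _ _ _
      (Finset.prod_induction _ _ (fun _ _ => IsChar.mul) isChar_one fun n _ => isChar_E p (ht n) n) (isChar_E p (ht N) N),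
      ih, hE, eval_mul]

end Groth.Agent.GaExt
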