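import Groth.Agent.GaExt.Aff
import Groth.Agent.GaSplit.Main

/-!
`Ext¹(G_a, G_m) = 0` over rings of characteristic `p` with surjective Frobenius.
-/

set_option autoImplicit false
set_option backward.isDefEq.respectTransparency false
set_option backward.isDefEq.respectTransparency.types false
set_option linter.style.haveILetI false
set_option synthInstance.maxHeartbeats 400000

universe u

open CategoryTheory CategoryTheory.Limits CategoryTheory.Abelian AlgebraicGeometry Opposite
open MonoidalCategory CartesianMonoidalCategory MonObj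

noncomputable section

namespace Groth.Agent.GaExt

/-- If all extensions of `G` by `H` split, the first `Ext` group vanishes. -/
theorem subsingleton_of_split {X : Scheme.{u}} (G H : Over X) [GrpObj G] [IsCommMonObj G] [GrpObj H]
    [IsCommMonObj H]
    (h : ∀ (E : BigSite.Ab Scheme.fppfPrecoverage X) (fE : CGrpSh.pts Scheme.fppfPrecoverage H ⟶ E)
      (π : E ⟶ CGrpSh.pts Scheme.fppfPrecoverage G) (z : fE ≫ π = 0), (ShortComplex.mk fE π z).ShortExact →
      ∃ φ : CGrpSh.pts Scheme.fppfPrecoverage G ⟶ E, φ ≫ π = 𝟙 _) :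
    Subsingleton (CGrpSh.ExtS Scheme.fppfPrecoverage G H 1) := by
  refine subsingleton_of_forall_eq 0 fun x => ?_
  let M := CGrpSh.pts Scheme.fppfPrecoverage H
  let i := Injective.ι M
  let S₀ := ShortComplex.mk i (cokernel.π i) (cokernel.condition i)
  have hS₀ : S₀.ShortExact := { exact := ShortComplex.exact_cokernel i }
  obtain ⟨c, hc⟩ := Ext.covariant_sequence_exact₁ _ hS₀ x
    (haveI : Injective S₀.X₂ := inferInstanceAs (Injective (Injective.under M)); Ext.eq_zero_of_injective _) (zero_add 1)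
  obtain ⟨c, rfl⟩ := (Ext.mk₀_bijective _ _).2 c
  obtain ⟨E, fE, π, pr, z, hT, -, -, hcl⟩ := GalNorm.exists_pullback_ext hS₀ c
  rw [← hc, ← hcl]
  clear hc hcl
  obtain ⟨φ, hφ⟩ := h E fE π z hT
  have h0 := congrArg (fun q => (Ext.mk₀ q).comp hT.extClass (zero_add 1)) hφ
  rw [← Ext.mk₀_comp_mk₀, Ext.comp_assoc_of_second_deg_zero] at h0
  erw [hT.comp_extClass] at h0
  rw [Ext.comp_zero] at h0
  exact (h0.trans (Ext.mk₀_id_comp _)).symm

theorem charP_quot_nilradical (p : ℕ) [Fact p.Prime] (R : Type u) [CommRing R] [CharP R p] :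
    CharP (R ⧸ nilradical R) p :=
  CharP.quotient' p _ fun n hn => by
    by_contra hne
    have hpn : ¬ p ∣ n := fun h => hne ((CharP.cast_eq_zero_iff R p n).2 h)
    obtain ⟨k, hk⟩ := (mem_nilradical.1 hn)
    haveI : Nontrivial R := CharP.nontrivial_of_char_ne_one (R := R) (Fact.out : p.Prime).ne_one
    exact not_isUnit_zero (hk ▸ ((CharP.isUnit_natCast_iff (Fact.out : p.Prime)).2 hpn).pow k)

variable {R : Type u} [CommRing R]

/-- The point of the affine line with given coordinate. -/
def toLine {Y : Over (Spec (CommRingCat.of R))} (a : Y ⟶ Red.Ga (Spec (CommRingCat.of R))) :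
    Y ⟶ O R (Polynomial R) :=
  toO (Polynomial.eval₂RingHom (strOf Y) (Red.gaFn a)) (RingHom.ext fun r => by simp [Polynomial.algebraMap_eq])

theorem toLine_fn {Y : Over (Spec (CommRingCat.of R))} (a : Y ⟶ Red.Ga (Spec (CommRingCat.of R)))
    (f : Polynomial R) :
    (toLine a).left.appTop (fn R (Polynomial R) f) = Polynomial.eval₂ (strOf Y) (Red.gaFn a) f :=
  toO_fn _ _ f

theorem line_hom_ext {Y : Over (Spec (CommRingCat.of R))} {x y : Y ⟶ O R (Polynomial R)}
    (h : x.left.appTop (fn R (Polynomial R) Polynomial.X) = y.left.appTop (fn R (Polynomial R) Polynomial.X)) :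
    x = y := hom_ext_fn fun f => by
  refine RingHom.congr_fun (f := x.left.appTop.hom.comp (fn R (Polynomial R)))
    (g := y.left.appTop.hom.comp (fn R (Polynomial R))) (Polynomial.ringHom_ext (fun r => ?_) h) f
  exact (RingHom.congr_fun (str_comp x) r).trans (RingHom.congr_fun (str_comp y) r).symm

theorem toLine_comp {Y Z : Over (Spec (CommRingCat.of R))} (k : Z ⟶ Y)
    (a : Y ⟶ Red.Ga (Spec (CommRingCat.of R))) : k ≫ toLine a = toLine (k ≫ a) :=
  line_hom_ext (by
    rw [Over.comp_left, Scheme.Hom.comp_appTop, CommRingCat.comp_apply, toLine_fn, toLine_fn,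
      Polynomial.eval₂_X, Polynomial.eval₂_X, BGaNotS.gaFn_comp])

variable {E : BigSite.Ab Scheme.fppfPrecoverage (Spec (CommRingCat.of R))} {fE : Mm R ⟶ E}
  {π : E ⟶ CGrpSh.pts Scheme.fppfPrecoverage (Red.Ga (Spec (CommRingCat.of R)))} {z : fE ≫ π = 0}

/-- Extensions of the additive group by the multiplicative group split. -/
theorem exists_splitting {p : ℕ} [Fact p.Prime] [CharP R p] (hF : Function.Surjective (frobenius R p))
    (hS : (ShortComplex.mk fE π z).ShortExact) :
    ∃ φ : CGrpSh.pts Scheme.fppfPrecoverage (Red.Ga (Spec (CommRingCat.of R))) ⟶ E, φ ≫ π = 𝟙 _ := by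
  classical
  haveI := charP_quot_nilradical p R
  haveI : _root_.IsReduced (R ⧸ nilradical R) :=
    (Ideal.isRadical_iff_quotient_reduced _).1 (Ideal.radical_isRadical _)
  haveI := isReduced_polynomial (R := R ⧸ nilradical R)
  have hkey : RootKey p (Polynomial (R ⧸ nilradical R)) := rootKey_polynomial fun a => by
    obtain ⟨a, rfl⟩ := Ideal.Quotient.mk_surjective a
    obtain ⟨b, hb⟩ := hF a
    exact ⟨Ideal.Quotient.mk _ b, by rw [← map_pow, ← hb, frobenius_def]⟩
  obtain ⟨s, hs⟩ := exists_section (A := Polynomial R) hS (Polynomial.mapRingHom (Ideal.Quotient.mk (nilradical R)))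
    (Polynomial.map_surjective _ Ideal.Quotient.mk_surjective) (fun f hf => Polynomial.isNilpotent_iff.2 fun n => by
      have := congrArg (fun q => Polynomial.coeff q n) hf
      simpa [Polynomial.coeff_map, Ideal.Quotient.eq_zero_iff_mem, mem_nilradical] using this) hkey (pt R (Polynomial R) Polynomial.X) (pt_pow_eq_one (p := p) Polynomial.X)
  let G := CGrpSh.pts Scheme.fppfPrecoverage (Red.Ga (Spec (CommRingCat.of R)))
  let tg : ∀ (A : Type u) [CommRing A] [Algebra R A] (a : A), BigSite.sect Scheme.fppfPrecoverage G (O R A) :=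
    fun A _ _ a => ULift.up (Additive.ofMul (pt R A a))
  have tg_res : ∀ {A B : Type u} [CommRing A] [Algebra R A] [CommRing B] [Algebra R B] (f : A →ₐ[R] B) (a : A),
      res G (Omap f) (tg A a) = tg B (f a) :=
    fun f a => ULift.ext _ _ (congrArg Additive.ofMul (pt_map f a))
  have tg_zero : ∀ (A : Type u) [CommRing A] [Algebra R A], tg A 0 = 0 :=
    fun A _ _ => ULift.ext _ _ (congrArg Additive.ofMul pt_zero)
  let z0 : Polynomial R →ₐ[R] R := Polynomial.aeval 0
  let η' : R →ₐ[R] Polynomial R := Algebra.ofId R _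
  let s1 : BigSite.sect Scheme.fppfPrecoverage E (O R (Polynomial R)) :=
    s - res E (Omap η') (res E (Omap z0) s)
  have hs1 : app π s1 = tg _ Polynomial.X := by
    show (π.hom.app _).hom (_ - _) = _
    rw [map_sub]
    show app π s - app π (res E _ (res E _ s)) = _
    rw [res_res, Omap_comp, app_res, hs]
    show tg _ Polynomial.X - res G _ (tg _ Polynomial.X) = _
    rw [tg_res, show η'.comp z0 Polynomial.X = 0 from by simp [η', z0], tg_zero, sub_zero]
  have hs1z : res E (Omap z0) s1 = 0 := by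
    show (E.obj.map _).hom (_ - _) = _
    rw [map_sub]
    show res E _ s - res E _ (res E _ (res E _ s)) = 0
    rw [res_res E (Omap η') (Omap z0), Omap_comp, show z0.comp η' = AlgHom.id R R from Subsingleton.elim _ _,
      Omap_id, res_id, sub_self]
  let ev : ∀ (s : BigSite.sect Scheme.fppfPrecoverage E (O R (Polynomial R))) (A : Type u) [CommRing A]
      [Algebra R A] (a : A), BigSite.sect Scheme.fppfPrecoverage E (O R A) :=
    fun s A _ _ a => res E (Omap (Polynomial.aeval a)) s
  have ev_res : ∀ (s : BigSite.sect Scheme.fppfPrecoverage E (O R (Polynomial R))) {A B : Type u} [CommRing A]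
      [Algebra R A] [CommRing B] [Algebra R B] (f : A →ₐ[R] B) (a : A), res E (Omap f) (ev s A a) = ev s B (f a) :=
    fun s A B _ _ _ _ f a => by
      rw [res_res, Omap_comp]
      exact congrArg (fun g => res E (Omap g) s) (Polynomial.aeval_algHom f a).symm
  let A2 := MvPolynomial (Fin 2) R
  let X0 : A2 := MvPolynomial.X 0
  let X1 : A2 := MvPolynomial.X 1
  let dl : ∀ (s : BigSite.sect Scheme.fppfPrecoverage E (O R (Polynomial R))) (A : Type u) [CommRing A]
      [Algebra R A] (a b : A), BigSite.sect Scheme.fppfPrecoverage E (O R A) :=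
    fun s A _ _ a b => ev s A (a + b) - ev s A a - ev s A b
  have dl_res : ∀ (s : BigSite.sect Scheme.fppfPrecoverage E (O R (Polynomial R))) {A : Type u} [CommRing A]
      [Algebra R A] (a b : A), res E (Omap (GaSplit.at2 a b)) (dl s A2 X0 X1) = dl s A a b := by
    intro s A _ _ a b
    show (E.obj.map _).hom (_ - _ - _) = _
    rw [map_sub, map_sub]
    show res E _ (ev s A2 _) - res E _ (ev s A2 _) - res E _ (ev s A2 _) = _
    rw [ev_res, ev_res, ev_res, map_add]
    simp [GaSplit.at2, X0, X1, dl]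
  obtain ⟨t, ht⟩ := exact_sect hS _ (dl s1 A2 X0 X1) (by
    show (π.hom.app _).hom (_ - _ - _) = 0
    rw [map_sub, map_sub]
    show app π (res E _ s1) - app π (res E _ s1) - app π (res E _ s1) = 0
    rw [app_res, app_res, app_res, hs1, tg_res, tg_res, tg_res, Polynomial.aeval_X, Polynomial.aeval_X,
      Polynomial.aeval_X]
    apply ULift.ext
    show Additive.ofMul (pt R A2 (X0 + X1)) - Additive.ofMul (pt R A2 X0) - Additive.ofMul (pt R A2 X1) = 0
    rw [pt_add, ofMul_mul]
    abel)
  obtain ⟨h, rfl⟩ := U_surjective t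
  have hD : ∀ {A : Type u} [CommRing A] [Algebra R A] (a b : A),
      app fE (U R A (Units.map (GaSplit.at2 a b).toRingHom.toMonoidHom h)) = dl s1 A a b := by
    intro A _ _ a b
    rw [← U_res, app_res, ← dl_res]
    exact congrArg (res E _) ht
  have hinj : ∀ {A : Type u} [CommRing A] [Algebra R A] {v w : Aˣ},
      app fE (U R A v) = app fE (U R A w) → (v : A) = w :=
    fun e => congrArg Units.val (U_injective (fE_injective hS _ _ _ e))
  have hgood : GaSplit.Good (h : A2) := by
    refine ⟨?_, ?_, ?_⟩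
    · refine hinj (w := 1) ?_ (v := Units.map (GaSplit.at2 (MvPolynomial.X 0 : A2) 0).toRingHom.toMonoidHom h)
      rw [hD, U_one]
      refine Eq.trans ?_ (map_zero _).symm
      show ev s1 A2 (_ + 0) - ev s1 A2 _ - ev s1 A2 0 = 0
      rw [add_zero, sub_self, zero_sub, neg_eq_zero]
      have e : (Polynomial.aeval (0 : A2)) = (Algebra.ofId R A2).comp z0 := Polynomial.algHom_ext (by simp [z0])
      show res E (Omap (Polynomial.aeval (0 : A2))) s1 = 0
      rw [e, ← Omap_comp, ← res_res, hs1z]
      exact map_zero _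
    · refine hinj (w := h) ?_ (v := Units.map (GaSplit.at2 (MvPolynomial.X 1 : A2) (MvPolynomial.X 0)).toRingHom.toMonoidHom h)
      rw [hD, ht]
      show ev s1 A2 _ - ev s1 A2 _ - ev s1 A2 _ = ev s1 A2 _ - ev s1 A2 _ - ev s1 A2 _
      rw [add_comm]
      abel
    · let A3 := MvPolynomial (Fin 3) R
      let m : A3 → A3 → A3ˣ := fun a b => Units.map (GaSplit.at2 a b).toRingHom.toMonoidHom h
      let Y : Fin 3 → A3 := MvPolynomial.X
      refine hinj (v := m (Y 1) (Y 2) * m (Y 0) (Y 1 + Y 2)) (w := m (Y 0 + Y 1) (Y 2) * m (Y 0) (Y 1)) ?_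
      rw [U_mul, U_mul]
      refine (map_add _ _ _).trans (Eq.trans ?_ (map_add _ _ _).symm)
      show app fE _ + app fE _ = app fE _ + app fE _
      rw [hD, hD, hD, hD]
      simp only [dl, add_assoc]
      abel
  obtain ⟨f, hf, hfh⟩ := GaSplit.exists_split p R hF (h : A2) h.isUnit hgood
  obtain ⟨f, rfl⟩ := hf
  let s2 : BigSite.sect Scheme.fppfPrecoverage E (O R (Polynomial R)) := s1 - app fE (U R (Polynomial R) f)
  have hs2 : app π s2 = tg _ Polynomial.X := by
    show (π.hom.app _).hom (_ - _) = _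
    rw [map_sub]
    show app π s1 - app π (app fE _) = _
    rw [app_π_fE fE π z, sub_zero, hs1]
  let fu : ∀ a : A2, A2ˣ := fun a => Units.map (Polynomial.aeval a).toRingHom.toMonoidHom f
  have hd2 : dl s2 A2 X0 X1 = 0 := by
    have hev : ∀ a : A2, ev s2 A2 a = ev s1 A2 a - app fE (U R A2 (fu a)) := by
      intro a
      show (E.obj.map _).hom (_ - _) = _
      rw [map_sub]
      show res E _ s1 - res E _ (app fE _) = _
      rw [← app_res, U_res]
    show ev s2 A2 _ - ev s2 A2 _ - ev s2 A2 _ = 0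
    rw [hev, hev, hev]
    have e : fu (X0 + X1) = fu X0 * fu X1 * h := Units.ext hfh
    rw [e, U_mul, U_mul, app, map_add, map_add]
    show ev s1 A2 (X0 + X1) - (app fE _ + app fE _ + app fE (U R A2 h)) - (ev s1 A2 X0 - app fE _) -
      (ev s1 A2 X1 - app fE _) = 0
    rw [ht]
    show _ - (_ + _ + (ev s1 A2 _ - ev s1 A2 _ - ev s1 A2 _)) - _ - _ = (0 : BigSite.sect _ E (O R A2))
    abel
  let sec : ∀ {Y : Over (Spec (CommRingCat.of R))}, (Y ⟶ Red.Ga (Spec (CommRingCat.of R))) →
      BigSite.sect Scheme.fppfPrecoverage E Y := fun {Y} a => res E (toLine a) s2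
  have hadd : ∀ {Y : Over (Spec (CommRingCat.of R))} (a b : Y ⟶ Red.Ga (Spec (CommRingCat.of R))),
      sec (a * b) = sec a + sec b := by
    intro Y a b
    let y2 : Y ⟶ O R A2 := toO (MvPolynomial.eval₂Hom (strOf Y) ![Red.gaFn a, Red.gaFn b])
      (RingHom.ext fun r => by simp [MvPolynomial.algebraMap_eq, A2])
    have hy : ∀ (c : A2) (q : Y ⟶ Red.Ga (Spec (CommRingCat.of R))),
        MvPolynomial.eval₂Hom (strOf Y) ![Red.gaFn a, Red.gaFn b] c = Red.gaFn q →
        res E y2 (ev s2 A2 c) = sec q := fun c q hq => by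
      rw [res_res]
      refine congrArg (fun g => res E g s2) (line_hom_ext ?_)
      rw [Over.comp_left, Scheme.Hom.comp_appTop, CommRingCat.comp_apply, fn_map, toO_fn, Polynomial.aeval_X,
        toLine_fn, Polynomial.eval₂_X, hq]
    have h0 := congrArg (res E y2) hd2
    change (E.obj.map _).hom (_ - _ - _) = (E.obj.map _).hom 0 at h0
    rw [map_sub, map_sub, map_zero] at h0
    change res E y2 (ev s2 A2 _) - res E y2 (ev s2 A2 _) - res E y2 (ev s2 A2 _) = 0 at h0
    rw [hy _ (a * b) ((map_add (MvPolynomial.eval₂Hom (strOf Y) _) X0 X1).trans ((congrArg₂ (· + ·) (MvPolynomial.eval₂Hom_X' _ _ _) (MvPolynomial.eval₂Hom_X' _ _ _)).trans (BGaNotS.gaFn_mul a b).symm)), hy _ a (by simp [X0]), hy _ b (by simp [X1]),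
      sub_sub, sub_eq_zero] at h0
    exact h0
  refine ⟨⟨{
      app := fun T => AddCommGrpCat.ofHom (AddMonoidHom.mk'
          (fun a : ULift.{u + 1} (Additive (unop T ⟶ Red.Ga (Spec (CommRingCat.of R)))) => sec a.down.toMul)
          (fun a b => hadd a.down.toMul b.down.toMul))
      naturality := fun T T' k => AddCommGrpCat.ext fun a =>
          (congrArg (fun g => res E g s2) (toLine_comp k.unop a.down.toMul).symm).trans
            (res_res E (toLine a.down.toMul) k.unop s2).symm }⟩, ?_⟩
  apply Sheaf.hom_ext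
  ext T a
  show app π (res E (toLine a.down.toMul) s2) = a
  rw [app_res, hs2]
  refine ULift.ext _ _ (congrArg Additive.ofMul ?_)
  show toLine a.down.toMul ≫ pt R _ Polynomial.X = a.down.toMul
  refine BGaNotS.gaPt_ext ?_
  rw [BGaNotS.gaFn_comp, pt, BGaNotS.gaFn_gaPt, toLine_fn, Polynomial.eval₂_X]

theorem subsingleton_ext_Ga {p : ℕ} [Fact p.Prime] [CharP R p] (hF : Function.Surjective (frobenius R p)) :
    Subsingleton (CGrpSh.ExtS Scheme.fppfPrecoverage (Red.Ga (Spec (CommRingCat.of R)))
      (Red.Gm (Spec (CommRingCat.of R))) 1) :=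
  subsingleton_of_split _ _ fun _ _ _ _ hS => exists_splitting hF hS

end Groth.Agent.GaExt
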