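import Groth.Agent.GaExt.AffB
import Groth.Agent.GaExt.GaMain
import Groth.Agent.GaSplit.Roots

/-!
Extensions of the additive group by `G_m` split after a finite free extension in characteristic `p`.
-/

set_option autoImplicit false
set_option backward.isDefEq.respectTransparency false
set_option backward.isDefEq.respectTransparency.types false
set_option linter.style.haveILetI false
set_option synthInstance.maxHeartbeats 400000

universe u

open CategoryTheory CategoryTheory.Limits AlgebraicGeometry Opposite

noncomputable section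

namespace Groth.Agent.GaExt

variable {R : Type u} [CommRing R] {E F : BigSite.Ab Scheme.fppfPrecoverage (Spec (CommRingCat.of R))}

/-- The evaluation of a section over the affine line at an element. -/
def evp {R1 : Type u} [CommRing R1] [Algebra R R1]
    (s : BigSite.sect Scheme.fppfPrecoverage E (O R (Polynomial R1))) (C : Type u) [CommRing C] [Algebra R1 C]
    [Algebra R C] [IsScalarTower R R1 C] (c : C) : BigSite.sect Scheme.fppfPrecoverage E (O R C) :=
  res E (Omap ((Polynomial.aeval (R := R1) c).restrictScalars R)) s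

variable {fE : Mm R ⟶ E} {π : E ⟶ F} {z : fE ≫ π = 0}

/-- An additive family of points of `F` lifts additively after a finite free extension. -/
theorem exists_local_split {p : ℕ} [hp : Fact p.Prime] [CharP R p] (hS : (ShortComplex.mk fE π z).ShortExact)
    (b : ∀ (C : Type u) [CommRing C] [Algebra R C], C → BigSite.sect Scheme.fppfPrecoverage F (O R C))
    (b_res : ∀ {C D : Type u} [CommRing C] [Algebra R C] [CommRing D] [Algebra R D] (f : C →ₐ[R] D) (c : C),
      res F (Omap f) (b C c) = b D (f c))
    (b_add : ∀ {C : Type u} [CommRing C] [Algebra R C] (c c' : C), b C (c + c') = b C c + b C c') :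
    ∃ (R' : Type u) (_ : CommRing R') (_ : Algebra R R'),
      Module.Free R R' ∧ Module.Finite R R' ∧ Nontrivial R' ∧ Algebra.FinitePresentation R R' ∧
      ∃ s : BigSite.sect Scheme.fppfPrecoverage E (O R (Polynomial R')),
        app π s = b (Polynomial R') Polynomial.X ∧
        evp s (MvPolynomial (Fin 2) R') (MvPolynomial.X 0 + MvPolynomial.X 1) =
          evp s (MvPolynomial (Fin 2) R') (MvPolynomial.X 0) + evp s (MvPolynomial (Fin 2) R') (MvPolynomial.X 1) := by
  classical
  haveI : Nontrivial R := CharP.nontrivial_of_char_ne_one (R := R) hp.out.ne_one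
  have b_zero : ∀ {C : Type u} [CommRing C] [Algebra R C], b C (0 : C) = 0 := fun {C} _ _ =>
    left_eq_add.mp ((congrArg (b C) (add_zero (0 : C))).symm.trans (b_add 0 0))
  have hpX : p • b (Polynomial R) Polynomial.X = 0 := by
    have key : ∀ k : ℕ, k • b (Polynomial R) Polynomial.X = b (Polynomial R) ((k : Polynomial R) * Polynomial.X) :=
      fun k => by
        induction k with
        | zero => rw [zero_smul, Nat.cast_zero, zero_mul, b_zero]
        | succ k ih => rw [succ_nsmul, ih, Nat.cast_succ, add_mul, one_mul, b_add]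
    rw [key, CharP.cast_eq_zero (Polynomial R) p, zero_mul, b_zero]
  obtain ⟨n, q, hspan, hpair, hsolve⟩ := exists_solve (A := Polynomial R) (CharP.cast_eq_zero (Polynomial R) p) hS
    (b (Polynomial R) Polynomial.X) hpX
  -- modulo nilpotents the family lies in `R[X ^ p]`
  haveI := charP_quot_nilradical p R
  haveI : _root_.IsReduced (R ⧸ nilradical R) :=
    (Ideal.isRadical_iff_quotient_reduced _).1 (Ideal.radical_isRadical _)
  let π0 : Polynomial R →+* Polynomial (R ⧸ nilradical R) := Polynomial.mapRingHom (Ideal.Quotient.mk _)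
  have hder : ∀ l, Polynomial.derivative (π0 (q l)) = 0 := fun l => by
    refine derivative_eq_zero (π0 '' Set.range q) (by rw [← Ideal.map_span, hspan, Ideal.map_top]) ?_ _
      ⟨_, ⟨l, rfl⟩, rfl⟩
    rintro _ ⟨_, ⟨i, rfl⟩, rfl⟩ _ ⟨_, ⟨j, rfl⟩, rfl⟩
    obtain ⟨w, hw⟩ := hpair j i
    exact ⟨π0 w, by rw [← map_pow, ← map_mul, hw, map_pow]⟩
  have hcoef : ∀ l m, ¬ p ∣ m → IsNilpotent ((q l).coeff m) := fun l m hm => by
    obtain ⟨m', rfl⟩ : ∃ m', m = m' + 1 := ⟨m - 1, by
      rcases m with _ | m
      · exact absurd (dvd_zero p) hm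
      · rfl⟩
    have h := congrArg (fun e => Polynomial.coeff e m') (hder l)
    simp only [Polynomial.coeff_derivative, Polynomial.coeff_zero] at h
    have hu : IsUnit ((m' + 1 : ℕ) : R ⧸ nilradical R) := (CharP.isUnit_natCast_iff hp.out).2 hm
    have h0 : (π0 (q l)).coeff (m' + 1) = 0 := hu.mul_left_eq_zero.1 (by exact_mod_cast h)
    rw [Polynomial.coe_mapRingHom, Polynomial.coeff_map, Ideal.Quotient.eq_zero_iff_mem] at h0
    exact mem_nilradical.1 h0
  -- adjoin the needed roots
  let D := Finset.univ.sup (fun l => (q l).natDegree) + 1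
  let e : Fin (n * D) → R := fun i => (q (finProdFinEquiv.symm i).1).coeff (p * ((finProdFinEquiv.symm i).2 : ℕ))
  obtain ⟨R1, _, _, _, _, _, _, hroot⟩ := GaSplit.exists_roots R hp.out.pos (n * D) e
  choose root hroot using hroot
  haveI : CharP R1 p := charP_of_injective_algebraMap (FaithfulSMul.algebraMap_injective R R1) p
  letI : Algebra (Polynomial R) (Polynomial R1) := (Polynomial.mapRingHom (algebraMap R R1)).toAlgebra
  haveI : IsScalarTower R (Polynomial R) (Polynomial R1) := IsScalarTower.of_algebraMap_eq fun r => by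
    show _ = Polynomial.map (algebraMap R R1) (Polynomial.C r)
    rw [Polynomial.map_C]
    rfl
  let w : Fin n → Polynomial R1 := fun l =>
    ∑ k : Fin D, Polynomial.monomial (k : ℕ) (root (finProdFinEquiv (l, k)))
  have hw : ∀ l, IsNilpotent (algebraMap (Polynomial R) (Polynomial R1) (q l) - w l ^ p) := fun l => by
    refine Polynomial.isNilpotent_iff.2 fun m => ?_
    rw [Polynomial.coeff_sub, sum_pow_char, Polynomial.finset_sum_coeff]
    show IsNilpotent ((Polynomial.map (algebraMap R R1) (q l)).coeff m - _)
    rw [Polynomial.coeff_map]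
    simp only [Polynomial.monomial_pow, Polynomial.coeff_monomial, hroot, e, Equiv.symm_apply_apply]
    by_cases hm : p ∣ m
    · obtain ⟨k, rfl⟩ := hm
      have hz : IsNilpotent (0 : R1) := IsNilpotent.zero
      convert hz using 1
      rw [sub_eq_zero]
      by_cases hk : k < D
      · rw [Finset.sum_eq_single ⟨k, hk⟩]
        · rw [if_pos (by rw [mul_comm])]
        · intro j _ hj
          rw [if_neg]
          intro h
          exact hj (Fin.ext (Nat.eq_of_mul_eq_mul_left hp.out.pos ((mul_comm p j.1).trans h)))
        · intro h; exact absurd (Finset.mem_univ _) h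
      · rw [Finset.sum_eq_zero, Polynomial.coeff_eq_zero_of_natDegree_lt, map_zero]
        · have h1 : (q l).natDegree ≤ Finset.univ.sup (fun l => (q l).natDegree) := Finset.le_sup (f := fun l => (q l).natDegree) (Finset.mem_univ l)
          have h2 : k ≤ p * k := Nat.le_mul_of_pos_left _ hp.out.pos
          omega
        · intro j _
          rw [if_neg]
          intro h
          exact hk (by rw [← Nat.eq_of_mul_eq_mul_left hp.out.pos ((mul_comm p j.1).trans h)]; exact j.2)
    · rw [Finset.sum_eq_zero fun (j : Fin D) _ => if_neg fun h : (j : ℕ) * p = m => hm ⟨j, by rw [← h, mul_comm]⟩, sub_zero]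
      exact (hcoef l m hm).map _
  -- a combination becomes a unit
  let K : Ideal (Polynomial R1) := nilradical _
  have hwspan : Ideal.span (Set.range w) = ⊤ := by
    by_contra hne
    obtain ⟨P, hP, hle⟩ := Ideal.exists_le_maximal _ hne
    refine hP.ne_top (top_unique ?_)
    have h1 := congrArg (Ideal.map (algebraMap (Polynomial R) (Polynomial R1))) hspan
    rw [Ideal.map_span, Ideal.map_top] at h1
    rw [← h1, Ideal.span_le]
    rintro _ ⟨_, ⟨l, rfl⟩, rfl⟩
    rw [← sub_add_cancel (algebraMap (Polynomial R) (Polynomial R1) (q l)) (w l ^ p)]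
    refine P.add_mem ?_ (P.pow_mem_of_mem (hle (Ideal.subset_span ⟨l, rfl⟩)) p hp.out.pos)
    obtain ⟨N, hN⟩ := hw l
    exact hP.isPrime.mem_of_pow_mem N (by rw [hN]; exact P.zero_mem)
  obtain ⟨e1, he1⟩ := Ideal.mem_span_range_iff_exists_fun.1 ((Ideal.eq_top_iff_one _).1 hwspan)
  obtain ⟨s0, hs0⟩ := hsolve (Polynomial R1) e1 (by
    have h : IsNilpotent (∑ l, e1 l ^ p * algebraMap (Polynomial R) (Polynomial R1) (q l) - 1) := by
      rw [show (1 : Polynomial R1) = ∑ l, e1 l ^ p * w l ^ p by
        rw [← one_pow p, ← he1, sum_pow_char]; exact Finset.sum_congr rfl fun l _ => mul_pow _ _ _,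
        ← Finset.sum_sub_distrib]
      exact isNilpotent_sum fun l _ => by
        rw [← mul_sub]; exact (Commute.all _ _).isNilpotent_mul_left (hw l)
    simpa using h.isUnit_one_add)
  have hs0' : app π s0 = b (Polynomial R1) Polynomial.X := by
    rw [hs0, b_res]
    congr 1
    exact Polynomial.map_X (algebraMap R R1)
  -- normalise at the origin
  let z0 : Polynomial R1 →ₐ[R] R1 := (Polynomial.aeval (R := R1) (0 : R1)).restrictScalars R
  let η' : R1 →ₐ[R] Polynomial R1 := (Algebra.ofId R1 (Polynomial R1)).restrictScalars R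
  let s1 : BigSite.sect Scheme.fppfPrecoverage E (O R (Polynomial R1)) :=
    s0 - res E (Omap η') (res E (Omap z0) s0)
  have hs1 : app π s1 = b (Polynomial R1) Polynomial.X := by
    show (π.hom.app _).hom (_ - _) = _
    rw [map_sub]
    show app π s0 - app π (res E _ (res E _ s0)) = _
    rw [res_res, Omap_comp, app_res, hs0', b_res, show η'.comp z0 Polynomial.X = 0 from by simp [η', z0], b_zero,
      sub_zero]
  have hs1z : res E (Omap z0) s1 = 0 := by
    show (E.obj.map _).hom (_ - _) = _
    rw [map_sub]
    show res E _ s0 - res E _ (res E _ (res E _ s0)) = 0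
    rw [res_res E (Omap η') (Omap z0), Omap_comp,
      show z0.comp η' = AlgHom.id R R1 from AlgHom.ext fun x => by simp [z0, η'], Omap_id, res_id, sub_self]
  let A2 := MvPolynomial (Fin 2) R1
  let X0 : A2 := MvPolynomial.X 0
  let X1 : A2 := MvPolynomial.X 1
  have ev_res : ∀ {C D : Type u} [CommRing C] [Algebra R1 C] [Algebra R C] [IsScalarTower R R1 C] [CommRing D]
      [Algebra R1 D] [Algebra R D] [IsScalarTower R R1 D] (f : C →ₐ[R1] D) (c : C),
      res E (Omap (f.restrictScalars R)) (evp s1 C c) = evp s1 D (f c) := by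
    intro C D _ _ _ _ _ _ _ _ f c
    rw [evp, evp, res_res, Omap_comp]
    exact congrArg (fun g => res E (Omap g) s1)
      (AlgHom.ext fun e => (Polynomial.aeval_algHom_apply f c e).symm)
  let dl : ∀ (C : Type u) [CommRing C] [Algebra R1 C] [Algebra R C] [IsScalarTower R R1 C] (a b : C),
      BigSite.sect Scheme.fppfPrecoverage E (O R C) :=
    fun C _ _ _ _ a b => evp s1 C (a + b) - evp s1 C a - evp s1 C b
  have dl_res : ∀ {C : Type u} [CommRing C] [Algebra R1 C] [Algebra R C] [IsScalarTower R R1 C] (a b : C),
      res E (Omap ((GaSplit.at2 a b).restrictScalars R)) (dl A2 X0 X1) = dl C a b := by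
    intro C _ _ _ _ a b
    show (E.obj.map _).hom (_ - _ - _) = _
    rw [map_sub, map_sub]
    show res E _ (evp s1 A2 _) - res E _ (evp s1 A2 _) - res E _ (evp s1 A2 _) = _
    rw [ev_res, ev_res, ev_res, map_add]
    simp [GaSplit.at2, X0, X1, dl]
  have hevπ : ∀ {C : Type u} [CommRing C] [Algebra R1 C] [Algebra R C] [IsScalarTower R R1 C] (c : C),
      app π (evp s1 C c) = b C c := by
    intro C _ _ _ _ c
    rw [evp, app_res, hs1, b_res]
    exact congrArg (b C) (Polynomial.aeval_X c)
  obtain ⟨t, ht⟩ := exact_sect hS _ (dl A2 X0 X1) (by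
    show (π.hom.app _).hom (_ - _ - _) = 0
    rw [map_sub, map_sub]
    show app π (evp s1 A2 _) - app π (evp s1 A2 _) - app π (evp s1 A2 _) = 0
    rw [hevπ, hevπ, hevπ, b_add]
    abel)
  obtain ⟨h, rfl⟩ := U_surjective t
  have hD : ∀ {C : Type u} [CommRing C] [Algebra R1 C] [Algebra R C] [IsScalarTower R R1 C] (a b : C),
      app fE (U R C (Units.map (GaSplit.at2 a b).toRingHom.toMonoidHom h)) = dl C a b := by
    intro C _ _ _ _ a b
    rw [show Units.map (GaSplit.at2 a b).toRingHom.toMonoidHom h =
        Units.map ((GaSplit.at2 a b).restrictScalars R).toRingHom.toMonoidHom h from rfl, ← U_res, app_res, ← dl_res]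
    exact congrArg (res E _) ht
  have hinj : ∀ {C : Type u} [CommRing C] [Algebra R C] {v w : Cˣ},
      app fE (U R C v) = app fE (U R C w) → (v : C) = w :=
    fun e => congrArg Units.val (U_injective (fE_inj hS _ _ _ e))
  have hgood : GaSplit.Good (h : A2) := by
    refine ⟨?_, ?_, ?_⟩
    · refine hinj (w := 1) ?_ (v := Units.map (GaSplit.at2 (MvPolynomial.X 0 : A2) 0).toRingHom.toMonoidHom h)
      rw [hD, U_one]
      refine Eq.trans ?_ (map_zero _).symm
      show evp s1 A2 (_ + 0) - evp s1 A2 _ - evp s1 A2 0 = 0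
      rw [add_zero, sub_self, zero_sub, neg_eq_zero]
      show res E (Omap ((Polynomial.aeval (R := R1) (0 : A2)).restrictScalars R)) s1 = 0
      rw [show (Polynomial.aeval (R := R1) (0 : A2)).restrictScalars R =
          ((Algebra.ofId R1 A2).restrictScalars R).comp z0 from AlgHom.ext fun e => by
            simp [z0, ← Polynomial.coeff_zero_eq_aeval_zero', Polynomial.coeff_zero_eq_eval_zero],
        ← Omap_comp, ← res_res, hs1z]
      exact map_zero _
    · refine hinj (w := h) ?_ (v := Units.map (GaSplit.at2 (MvPolynomial.X 1 : A2) (MvPolynomial.X 0)).toRingHom.toMonoidHom h)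
      rw [hD, ht]
      show evp s1 A2 _ - evp s1 A2 _ - evp s1 A2 _ = evp s1 A2 _ - evp s1 A2 _ - evp s1 A2 _
      rw [add_comm]
      abel
    · let A3 := MvPolynomial (Fin 3) R1
      let m : A3 → A3 → A3ˣ := fun a b => Units.map (GaSplit.at2 a b).toRingHom.toMonoidHom h
      let Y : Fin 3 → A3 := MvPolynomial.X
      refine hinj (v := m (Y 1) (Y 2) * m (Y 0) (Y 1 + Y 2)) (w := m (Y 0 + Y 1) (Y 2) * m (Y 0) (Y 1)) ?_
      rw [U_mul, U_mul]
      refine (map_add _ _ _).trans (Eq.trans ?_ (map_add _ _ _).symm)
      show app fE _ + app fE _ = app fE _ + app fE _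
      rw [hD, hD, hD, hD]
      simp only [dl, add_assoc]
      abel
  obtain ⟨R2, _, _, _, _, _, _, f, hf, hfh⟩ := GaSplit.exists_split_after_roots p R1 (h : A2) h.isUnit hgood
  obtain ⟨f, rfl⟩ := hf
  letI : Algebra R R2 := ((algebraMap R1 R2).comp (algebraMap R R1)).toAlgebra
  haveI : IsScalarTower R R1 R2 := IsScalarTower.of_algebraMap_eq fun _ => rfl
  haveI : Module.Free R R2 := Module.Free.trans (S := R1)
  haveI : Module.Finite R R2 := Module.Finite.trans R1 R2
  haveI : Module.FinitePresentation R R2 := Module.finitePresentation_of_projective R _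
  let κ : Polynomial R1 →ₐ[R] Polynomial R2 :=
    (Polynomial.aeval (R := R1) (Polynomial.X : Polynomial R2)).restrictScalars R
  let A2' := MvPolynomial (Fin 2) R2
  let μ : A2 →ₐ[R1] A2' := GaSplit.at2 (MvPolynomial.X 0 : A2') (MvPolynomial.X 1)
  let s2 : BigSite.sect Scheme.fppfPrecoverage E (O R (Polynomial R2)) :=
    res E (Omap κ) s1 - app fE (U R (Polynomial R2) f)
  refine ⟨R2, inferInstance, inferInstance, inferInstance, inferInstance, inferInstance, inferInstance, s2, ?_, ?_⟩
  · show (π.hom.app _).hom (_ - _) = _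
    rw [map_sub]
    show app π (res E _ s1) - app π (app fE _) = _
    rw [show app π (app fE (U R (Polynomial R2) f)) = 0 from
      ConcreteCategory.congr_hom (congrArg (fun q => q.hom.app (op (O R (Polynomial R2)))) z) _, sub_zero, app_res,
      hs1, b_res]
    exact congrArg (b _) (Polynomial.aeval_X _)
  · let fu : A2' → A2'ˣ := fun a => Units.map (Polynomial.aeval (R := R2) a).toRingHom.toMonoidHom f
    have hev : ∀ a : A2', evp s2 A2' a = evp s1 A2' a - app fE (U R A2' (fu a)) := by
      intro a
      show (E.obj.map _).hom (_ - _) = _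
      rw [map_sub]
      show res E _ (res E _ s1) - res E _ (app fE _) = _
      rw [← app_res, U_res, res_res, Omap_comp]
      congr 1
      exact congrArg (fun g => res E (Omap g) s1) (AlgHom.ext fun e => by
        show Polynomial.aeval a (Polynomial.aeval (Polynomial.X : Polynomial R2) e) = Polynomial.aeval a e
        induction e using Polynomial.induction_on' with
        | add x y hx hy => simp only [map_add, hx, hy]
        | monomial k r => simp [Polynomial.aeval_monomial, ← IsScalarTower.algebraMap_apply R1 R2 A2'])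
    have hmap : MvPolynomial.map (algebraMap R1 R2) (h : A2) = μ (h : A2) := by
      induction (h : A2) using MvPolynomial.induction_on with
      | C r =>
        rw [MvPolynomial.map_C]
        exact (MvPolynomial.aeval_C _ r).symm
      | add x y hx hy => simp only [map_add, hx, hy]
      | mul_X x i hx =>
        rw [map_mul, map_mul, hx, MvPolynomial.map_X]
        refine congrArg (_ * ·) ?_
        exact (by fin_cases i <;> rfl : (MvPolynomial.X i : A2') = ![MvPolynomial.X 0, MvPolynomial.X 1] i).trans
          (MvPolynomial.aeval_X _ i).symm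
    have e : fu (MvPolynomial.X 0 + MvPolynomial.X 1) =
        fu (MvPolynomial.X 0) * fu (MvPolynomial.X 1) * Units.map μ.toRingHom.toMonoidHom h := by
      refine Units.ext ?_
      show Polynomial.aeval _ (f : Polynomial R2) = Polynomial.aeval _ (f : Polynomial R2) *
        Polynomial.aeval _ (f : Polynomial R2) * μ (h : A2)
      rw [hfh, hmap]
    rw [hev, hev, hev, e, U_mul, U_mul, app, map_add, map_add]
    show evp s1 A2' _ - (app fE _ + app fE _ + app fE (U R A2' (Units.map μ.toRingHom.toMonoidHom h))) =
      evp s1 A2' _ - app fE _ + (evp s1 A2' _ - app fE _)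
    rw [hD]
    show _ - (_ + _ + (evp s1 A2' _ - evp s1 A2' _ - evp s1 A2' _)) = _
    abel

end Groth.Agent.GaExt
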