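import Groth.Agent.BigSiteLib.GmAcyclic
import Groth.Agent.BigSiteLib.AcycCompareH
import Groth.Agent.S0236
import Groth.Prelude.Def_GmPts2
import Groth.Prelude.Def_CGrpSh2
import Groth.Prelude.Def_EtFppf
import Groth.Prelude.Def_EtDlF
import Groth.Prelude.Def_EtGm

/-!
Lifting sections along epimorphisms of fppf sheaves with kernel `G_m` when the Picard group is trivial.
-/

set_option autoImplicit false
set_option backward.isDefEq.respectTransparency false
set_option backward.isDefEq.respectTransparency.types false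
set_option backward.defeqAttrib.useBackward true
set_option linter.style.haveILetI false

universe u

open CategoryTheory CategoryTheory.Limits CategoryTheory.Abelian AlgebraicGeometry Opposite

noncomputable section

namespace Groth.Agent.GaExt

local notation "K" => Scheme.fppfPrecoverage

/-- The inverse image of the sheaf of units is the sheaf of units. -/
def pullUnitsIso {X T : Scheme.{u}} (f : T ⟶ X) :
    (BigSite.pullBig Scheme.fppfPrecoverage f AddCommGrpCat.{u + 1}).obj (EtDl.GmF X) ≅ EtDl.GmF T where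
  hom := ⟨𝟙 _⟩
  inv := ⟨𝟙 _⟩
  hom_inv_id := Sheaf.hom_ext (Category.id_comp _)
  inv_hom_id := Sheaf.hom_ext (Category.id_comp _)

/-- The restriction of the sheaf of units to the small etale site. -/
def aPushUnitsIso (T : Scheme.{u}) [EtFppf.ACont T] : (EtFppf.aPush T).obj (EtDl.GmF T) ≅ EtCoh.Gm T where
  hom := ⟨𝟙 _⟩
  inv := ⟨𝟙 _⟩
  hom_inv_id := Sheaf.hom_ext (Category.id_comp _)
  inv_hom_id := Sheaf.hom_ext (Category.id_comp _)

theorem subsingleton_H1_units (T : Scheme.{u})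
    (hPic : ∀ L : T.Modules, PicF.IsInvertible L → Nonempty (L ≅ Coh.structureModule T)) :
    Subsingleton (EtFppf.HF T (EtDl.GmF T) 1) := by
  haveI : EtFppf.ACont T := inferInstance
  obtain ⟨e⟩ := BigSiteLib.nonempty_H_of_acyc (S := T) _ (BigSiteLib.acyc_GmF T) 1
  haveI := (Groth.Agent.S0236.result T).2 hPic
  let i := aPushUnitsIso T
  haveI : Subsingleton (EtCoh.H T ((EtFppf.aPush T).obj (EtDl.GmF T)) 1) := by
    refine subsingleton_of_forall_eq 0 fun x => ?_
    have h : x.comp (Ext.mk₀ i.hom) (add_zero 1) = 0 := Subsingleton.elim (α := EtCoh.H T (EtCoh.Gm T) 1) _ _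
    have h' := congrArg (fun w => Ext.comp w (Ext.mk₀ i.inv) (add_zero 1)) h
    rwa [Ext.zero_comp, Ext.comp_assoc_of_third_deg_zero, Ext.mk₀_comp_mk₀, i.hom_inv_id, Ext.comp_mk₀_id] at h'
  exact e.toEquiv.symm.subsingleton

theorem ext_subsingleton_of_iso {C : Type*} [Category C] [Abelian C] [HasExt C] {Z A B : C} {n : ℕ} (j : A ≅ B)
    (h : Subsingleton (Ext Z B n)) : Subsingleton (Ext Z A n) := by
  refine subsingleton_of_forall_eq 0 fun x => ?_
  have h' := congrArg (fun w => Ext.comp w (Ext.mk₀ j.inv) (add_zero n))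
    (Subsingleton.elim (x.comp (Ext.mk₀ j.hom) (add_zero n)) 0)
  rwa [Ext.zero_comp, Ext.comp_assoc_of_third_deg_zero, Ext.mk₀_comp_mk₀, j.hom_inv_id, Ext.comp_mk₀_id] at h'

theorem exists_lift_top {T : Scheme.{u}}
    {S : ShortComplex (BigSite.Ab Scheme.fppfPrecoverage T)} (hS : S.ShortExact)
    (h : Subsingleton (BigSite.H Scheme.fppfPrecoverage T S.X₁ 1))
    (g : BigSite.sect Scheme.fppfPrecoverage S.X₃ (Over.mk (𝟙 T))) :
    ∃ s : BigSite.sect Scheme.fppfPrecoverage S.X₂ (Over.mk (𝟙 T)), (S.g.hom.app (op (Over.mk (𝟙 T)))).hom s = g := by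
  have hT : IsTerminal (Over.mk (𝟙 T)) := Over.mkIdTerminal
  obtain ⟨y, hy⟩ := Ext.covariant_sequence_exact₃ _ hS ((Sheaf.H.equiv₀ S.X₃ hT).symm g) (zero_add 1)
    (Subsingleton.elim _ _)
  refine ⟨Sheaf.H.equiv₀ S.X₂ hT y, ?_⟩
  rw [Sheaf.H.equiv₀_naturality]
  exact (congrArg (Sheaf.H.equiv₀ S.X₃ hT) hy).trans ((Sheaf.H.equiv₀ S.X₃ hT).apply_symm_apply g)

/-- A section of the quotient of an extension by `G_m` lifts over a scheme with trivial Picard group. -/
theorem exists_lift {X : Scheme.{u}} {S : ShortComplex (BigSite.Ab Scheme.fppfPrecoverage X)} (hS : S.ShortExact)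
    (i : S.X₁ ≅ CGrpSh2.Gm Scheme.fppfPrecoverage X) (Y : Over X)
    (hPic : ∀ L : Y.left.Modules, PicF.IsInvertible L → Nonempty (L ≅ Coh.structureModule Y.left))
    (g : BigSite.sect Scheme.fppfPrecoverage S.X₃ Y) :
    ∃ s : BigSite.sect Scheme.fppfPrecoverage S.X₂ Y, (S.g.hom.app (op Y)).hom s = g := by
  let P := BigSite.pullBig Scheme.fppfPrecoverage Y.hom AddCommGrpCat.{u + 1}
  haveI : P.IsLeftAdjoint := (BigSite.bigAdj Scheme.fppfPrecoverage Y.hom AddCommGrpCat.{u + 1}).isLeftAdjoint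
  haveI : P.IsRightAdjoint := (BigSite.shriekAbAdj Scheme.fppfPrecoverage Y.hom).isRightAdjoint
  haveI : PreservesFiniteLimits P := inferInstance
  haveI : PreservesFiniteColimits P := inferInstance
  haveI : Subsingleton (BigSite.H Scheme.fppfPrecoverage Y.left (S.map P).X₁ 1) := by
    haveI := subsingleton_H1_units Y.left hPic
    let j : P.obj S.X₁ ≅ EtDl.GmF Y.left := P.mapIso (i ≪≫ GmPts.gmFIso X) ≪≫ pullUnitsIso Y.hom
    exact ext_subsingleton_of_iso j ‹_›
  let κ : Y ⟶ (Over.map Y.hom).obj (Over.mk (𝟙 Y.left)) := Over.homMk (𝟙 _) (by simp)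
  let κ' : (Over.map Y.hom).obj (Over.mk (𝟙 Y.left)) ⟶ Y := Over.homMk (𝟙 _) (by simp)
  have hκ : κ ≫ κ' = 𝟙 Y := Over.OverMorphism.ext (by simp [κ, κ'])
  obtain ⟨s, hs⟩ := exists_lift_top (hS.map_of_exact P) ‹_› ((S.X₃.obj.map κ'.op).hom g)
  refine ⟨(S.X₂.obj.map κ.op).hom s, ?_⟩
  have hn := ConcreteCategory.congr_hom (S.g.hom.naturality κ.op) s
  refine hn.trans ?_
  refine (congrArg (S.X₃.obj.map κ.op).hom hs).trans ?_
  rw [← ConcreteCategory.comp_apply, ← S.X₃.obj.map_comp, ← op_comp, hκ, op_id, S.X₃.obj.map_id]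
  rfl

end Groth.Agent.GaExt
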