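import Groth.Agent.GaExt.ExtShVanish
import Groth.Agent.GaExt.GaLocal
import Groth.Agent.GaExt.Lift

/-!
The first Ext sheaf of `G_a` by `G_m` vanishes in characteristic `p`.
-/

set_option autoImplicit false
set_option backward.isDefEq.respectTransparency false
set_option backward.isDefEq.respectTransparency.types false
set_option linter.style.haveILetI false
set_option synthInstance.maxHeartbeats 400000

universe u

open CategoryTheory CategoryTheory.Limits AlgebraicGeometry Opposite
open MonoidalCategory CartesianMonoidalCategory MonObj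

noncomputable section

namespace Groth.Agent.GaExt

variable {S : Scheme.{u}} {R : Type u} [CommRing R] {R' : Type u} [CommRing R'] [Algebra R R']
  {A : Type u} [CommRing A] [Algebra R A]
  {a : Spec (CommRingCat.of R) ⟶ S}

theorem gaPt_map {W W' : Over S} (t : W' ⟶ W) (c : Γ(W.left, ⊤)) :
    t ≫ BGaNotS.gaPt c = BGaNotS.gaPt (t.left.appTop c) :=
  BGaNotS.gaPt_ext (by rw [BGaNotS.gaFn_comp, BGaNotS.gaFn_gaPt, BGaNotS.gaFn_gaPt])

theorem gaPt_add {W : Over S} (c c' : Γ(W.left, ⊤)) :
    BGaNotS.gaPt (c + c') = BGaNotS.gaPt c * BGaNotS.gaPt c' :=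
  BGaNotS.gaPt_ext (by rw [BGaNotS.gaFn_mul, BGaNotS.gaFn_gaPt, BGaNotS.gaFn_gaPt, BGaNotS.gaFn_gaPt])

/-- Morphisms into an affine object over `S` are determined by functions. -/
theorem map_hom_ext {Z : Over S} {x y : Z ⟶ (Over.map a).obj (O R A)}
    (h : ∀ c, x.left.appTop (fn R A c) = y.left.appTop (fn R A c)) : x = y := by
  apply Over.OverMorphism.ext
  haveI : IsAffine ((Over.map a).obj (O R A)).left := inferInstanceAs (IsAffine (Spec (CommRingCat.of A)))
  apply ext_of_isAffine
  rw [← cancel_epi (Scheme.ΓSpecIso (CommRingCat.of A)).inv]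
  exact CommRingCat.hom_ext (RingHom.ext h)

/-- The `R'`-structure on functions of an object over `Spec R'`. -/
abbrev φV (V : Over ((Over.map a).obj (O R R'))) : R' →+* Γ(V.left.left, ⊤) :=
  V.hom.left.appTop.hom.comp (fn R R')

variable [Algebra R' A] [IsScalarTower R R' A]

/-- Morphisms into an affine object from objects over `Spec R'`. -/
def kk (V : Over ((Over.map a).obj (O R R'))) (φ : A →+* Γ(V.left.left, ⊤))
    (h : φ.comp (algebraMap R' A) = φV V) : V.left ⟶ (Over.map a).obj (O R A) :=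
  Over.homMk (toO (Y := Over.mk (V.hom.left ≫ (O R R').hom)) φ (by
    rw [IsScalarTower.algebraMap_eq R R' A, ← RingHom.comp_assoc, h]
    exact str_comp (Over.homMk V.hom.left : Over.mk (V.hom.left ≫ (O R R').hom) ⟶ O R R'))).left (by
    show _ ≫ (O R A).hom ≫ a = _
    rw [← Category.assoc, Over.w]
    exact (Category.assoc _ _ _).trans (Over.w V.hom))

theorem kk_fn (V : Over ((Over.map a).obj (O R R'))) (φ : A →+* Γ(V.left.left, ⊤))
    (h : φ.comp (algebraMap R' A) = φV V) (c : A) : (kk V φ h).left.appTop (fn R A c) = φ c :=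
  toO_fn (Y := Over.mk (V.hom.left ≫ (O R R').hom)) φ (by
    rw [IsScalarTower.algebraMap_eq R R' A, ← RingHom.comp_assoc, h]
    exact str_comp (Over.homMk V.hom.left : Over.mk (V.hom.left ≫ (O R R').hom) ⟶ O R R')) c

theorem kk_struct (V : Over ((Over.map a).obj (O R R'))) (φ : A →+* Γ(V.left.left, ⊤))
    (h : φ.comp (algebraMap R' A) = φV V) : (kk V φ h).left ≫ (O R A).hom = V.hom.left ≫ (O R R').hom :=
  Over.w (toO (Y := Over.mk (V.hom.left ≫ (O R R').hom)) φ (by
    rw [IsScalarTower.algebraMap_eq R R' A, ← RingHom.comp_assoc, h]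
    exact str_comp (Over.homMk V.hom.left : Over.mk (V.hom.left ≫ (O R R').hom) ⟶ O R R')))

/-- The map to the affine line over `Spec R'` with given coordinate. -/
def linePt (V : Over ((Over.map a).obj (O R R'))) (g : V.left ⟶ Red.Ga S) :
    V.left ⟶ (Over.map a).obj (O R (Polynomial R')) :=
  kk V (Polynomial.eval₂RingHom (φV V) (Red.gaFn g)) (RingHom.ext fun r => by simp)

theorem linePt_fn (V : Over ((Over.map a).obj (O R R'))) (g : V.left ⟶ Red.Ga S) (f : Polynomial R') :
    (linePt V g).left.appTop (fn R _ f) = Polynomial.eval₂ (φV V) (Red.gaFn g) f :=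
  kk_fn _ _ _ _

theorem linePt_comp {V V' : Over ((Over.map a).obj (O R R'))} (t : V' ⟶ V) (g : V.left ⟶ Red.Ga S) :
    t.left ≫ linePt V g = linePt V' (t.left ≫ g) := by
  refine map_hom_ext fun f => ?_
  rw [Over.comp_left, Scheme.Hom.comp_appTop, CommRingCat.comp_apply, linePt_fn, linePt_fn, Polynomial.hom_eval₂,
    BGaNotS.gaFn_comp]
  refine congrArg (fun ψ => Polynomial.eval₂ ψ _ f) (RingHom.ext fun r => ?_)
  show t.left.left.appTop (V.hom.left.appTop (fn R R' r)) = V'.hom.left.appTop (fn R R' r)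
  rw [← CommRingCat.comp_apply, ← Scheme.Hom.comp_appTop, ← Over.comp_left, Over.w t]

theorem linePt_gaPt (V : Over ((Over.map a).obj (O R R'))) (g : V.left ⟶ Red.Ga S) :
    linePt V g ≫ BGaNotS.gaPt (W := (Over.map a).obj (O R (Polynomial R'))) (fn R _ Polynomial.X) = g :=
  BGaNotS.gaPt_ext (by rw [BGaNotS.gaFn_comp, BGaNotS.gaFn_gaPt, linePt_fn, Polynomial.eval₂_X])

/-- The map to the affine plane over `Spec R'` with given coordinates. -/
def planePt (V : Over ((Over.map a).obj (O R R'))) (g g' : V.left ⟶ Red.Ga S) :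
    V.left ⟶ (Over.map a).obj (O R (MvPolynomial (Fin 2) R')) :=
  kk V (MvPolynomial.eval₂Hom (φV V) ![Red.gaFn g, Red.gaFn g'])
    (RingHom.ext fun r => by simp [MvPolynomial.algebraMap_eq])

theorem planePt_comp (V : Over ((Over.map a).obj (O R R'))) (g g' q : V.left ⟶ Red.Ga S)
    (c : MvPolynomial (Fin 2) R') (hc : MvPolynomial.eval₂Hom (φV V) ![Red.gaFn g, Red.gaFn g'] c = Red.gaFn q) :
    planePt V g g' ≫ (Over.map a).map (Omap ((Polynomial.aeval (R := R') c).restrictScalars R)) = linePt V q := by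
  refine map_hom_ext fun f => ?_
  rw [Over.comp_left, Scheme.Hom.comp_appTop, CommRingCat.comp_apply, linePt_fn]
  refine (congrArg (planePt V g g').left.appTop (fn_map _ f)).trans ((kk_fn _ _ _ _).trans ?_)
  refine RingHom.congr_fun (f := (MvPolynomial.eval₂Hom (φV V) ![Red.gaFn g, Red.gaFn g']).comp
    (Polynomial.aeval c).toRingHom) (g := Polynomial.eval₂RingHom (φV V) (Red.gaFn q))
    (Polynomial.ringHom_ext (fun r => ?_) ?_) f
  · simp [MvPolynomial.algebraMap_eq]
  · simpa using hc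

/-- Local lifting of morphisms out of `G_a`. -/
theorem exists_lift_Ga {p : ℕ} [Fact p.Prime] (hp : (p : Γ(S, ⊤)) = 0)
    (I K : BigSite.Ab Scheme.fppfPrecoverage S) (incl : CGrpSh2.Gm Scheme.fppfPrecoverage S ⟶ I) (π : I ⟶ K)
    (w : incl ≫ π = 0) (hS : (ShortComplex.mk incl π w).ShortExact) (a : Spec (CommRingCat.of R) ⟶ S)
    (x : (HomSh.homSh (QuotSh.J Scheme.fppfPrecoverage S) (CGrpSh2.Ga Scheme.fppfPrecoverage S) K).obj.obj
      (op (Over.mk a))) :
    ∃ (R' : Type u) (_ : CommRing R') (_ : Algebra R R'),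
      Module.FaithfullyFlat R R' ∧ Algebra.FinitePresentation R R' ∧
      ∃ θ : (HomSh.homSh (QuotSh.J Scheme.fppfPrecoverage S) (CGrpSh2.Ga Scheme.fppfPrecoverage S) I).obj.obj
          (op ((Over.map a).obj (O R R'))),
        ((HomSh.homShFunctor (QuotSh.J Scheme.fppfPrecoverage S) (CGrpSh2.Ga Scheme.fppfPrecoverage S)).map π).hom.app
            (op ((Over.map a).obj (O R R'))) θ =
          (HomSh.homSh (QuotSh.J Scheme.fppfPrecoverage S) (CGrpSh2.Ga Scheme.fppfPrecoverage S) K).obj.map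
            (Over.homMk (O R R').hom : (Over.map a).obj (O R R') ⟶ Over.mk a).op x := by
  let φ : (CGrpSh2.Ga Scheme.fppfPrecoverage S).over (Over.mk a) ⟶ K.over (Over.mk a) := x
  rcases subsingleton_or_nontrivial R with hR | hR
  · refine ⟨R, inferInstance, Algebra.id R, inferInstance, inferInstance, 0,
      Sheaf.hom_ext (NatTrans.ext (funext fun V => AddCommGrpCat.ext fun q => sect_eq_of_trivial K ?_ _ _))⟩
    exact ((map_one (φV V.unop)).symm.trans (congrArg (φV V.unop) (Subsingleton.elim 1 0))).trans (map_zero _)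
  haveI : CharP R p := (CharP.charP_iff_prime_eq_zero Fact.out).2 (by
    have h := congrArg (a.appTop ≫ (Scheme.ΓSpecIso (CommRingCat.of R)).hom).hom hp
    rwa [map_natCast, map_zero] at h)
  let P := BigSite.pullBig Scheme.fppfPrecoverage a AddCommGrpCat.{u + 1}
  haveI : P.IsLeftAdjoint := (BigSite.bigAdj Scheme.fppfPrecoverage a AddCommGrpCat.{u + 1}).isLeftAdjoint
  haveI : P.IsRightAdjoint := (BigSite.shriekAbAdj Scheme.fppfPrecoverage a).isRightAdjoint
  haveI : PreservesFiniteLimits P := inferInstance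
  haveI : PreservesFiniteColimits P := inferInstance
  let e : Mm R ≅ P.obj (CGrpSh2.Gm Scheme.fppfPrecoverage S) :=
    GmPts.gmFIso (Spec (CommRingCat.of R)) ≪≫ (pullUnitsIso a).symm ≪≫ (P.mapIso (GmPts.gmFIso S)).symm
  have hz : (e.hom ≫ P.map incl) ≫ P.map π = 0 := by
    rw [Category.assoc, ← P.map_comp, w, P.map_zero, comp_zero]
  have hS' : (ShortComplex.mk (e.hom ≫ P.map incl) (P.map π) hz).ShortExact :=
    ShortComplex.shortExact_of_iso
      (ShortComplex.isoMk (S₁ := (ShortComplex.mk incl π w).map P) (S₂ := ShortComplex.mk (e.hom ≫ P.map incl) (P.map π) hz)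
        e.symm (Iso.refl _) (Iso.refl _) (by simp) (by simp)) (hS.map_of_exact P)
  let str : ∀ V : Over (Spec (CommRingCat.of R)), (Over.map a).obj V ⟶ Over.mk a := fun V => Over.homMk V.hom
  let b : ∀ (C : Type u) [CommRing C] [Algebra R C], C →
      BigSite.sect Scheme.fppfPrecoverage (P.obj K) (O R C) := fun C _ _ c =>
    φ.hom.app (op (Over.mk (str (O R C))))
      (ULift.up (Additive.ofMul (BGaNotS.gaPt (W := (Over.map a).obj (O R C)) (fn R C c))))
  have b_res : ∀ {C D : Type u} [CommRing C] [Algebra R C] [CommRing D] [Algebra R D] (f : C →ₐ[R] D) (c : C),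
      res (P.obj K) (Omap f) (b C c) = b D (f c) := by
    intro C D _ _ _ _ f c
    let t : Over.mk (str (O R D)) ⟶ Over.mk (str (O R C)) :=
      Over.homMk ((Over.map a).map (Omap f)) (Over.OverMorphism.ext (Over.w (Omap f)))
    refine (NatTrans.naturality_apply φ.hom t.op _).symm.trans (congrArg (φ.hom.app _) ?_)
    exact ULift.ext _ _ (congrArg Additive.ofMul
      ((gaPt_map ((Over.map a).map (Omap f)) (fn R C c)).trans (congrArg BGaNotS.gaPt (fn_map f c))))
  have b_add : ∀ {C : Type u} [CommRing C] [Algebra R C] (c c' : C), b C (c + c') = b C c + b C c' := by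
    intro C _ _ c c'
    refine (congrArg (φ.hom.app _) ?_).trans (map_add (φ.hom.app (op (Over.mk (str (O R C))))).hom _ _)
    exact ULift.ext _ _ (congrArg Additive.ofMul
      ((congrArg (BGaNotS.gaPt (W := (Over.map a).obj (O R C))) (map_add (fn R C) c c')).trans (gaPt_add _ _)))
  obtain ⟨R', _, _, _, _, _, _, s, hs, hadd⟩ :=
    exists_local_split (p := p) hS' b b_res b_add
  let ev : ∀ V : Over ((Over.map a).obj (O R R')), (V.left ⟶ Red.Ga S) → I.obj.obj (op V.left) :=
    fun V g => I.obj.map (linePt V g).op s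
  have ev_add : ∀ (V : Over ((Over.map a).obj (O R R'))) (g g' : V.left ⟶ Red.Ga S),
      ev V (g * g') = ev V g + ev V g' := by
    intro V g g'
    have hy : ∀ (c : MvPolynomial (Fin 2) R') (q : V.left ⟶ Red.Ga S),
        MvPolynomial.eval₂Hom (φV V) ![Red.gaFn g, Red.gaFn g'] c = Red.gaFn q →
        I.obj.map (planePt V g g').op (evp s (MvPolynomial (Fin 2) R') c) = ev V q := fun c q hq => by
      show I.obj.map _ (I.obj.map ((Over.map a).map _).op s) = _
      refine (ConcreteCategory.congr_hom (I.obj.map_comp _ _) s).symm.trans ?_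
      exact congrArg (fun m => I.obj.map (Quiver.Hom.op m) s) (planePt_comp V g g' q c hq)
    have h := congrArg (I.obj.map (planePt V g g').op).hom hadd
    rw [map_add] at h
    have e0 : MvPolynomial.eval₂Hom (φV V) ![Red.gaFn g, Red.gaFn g'] (MvPolynomial.X 0) = Red.gaFn g := by simp
    have e1 : MvPolynomial.eval₂Hom (φV V) ![Red.gaFn g, Red.gaFn g'] (MvPolynomial.X 1) = Red.gaFn g' := by simp
    exact ((hy (MvPolynomial.X 0 + MvPolynomial.X 1) (g * g') (by rw [map_add, e0, e1, BGaNotS.gaFn_mul])).symm.trans h).trans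
        (congrArg₂ (· + ·) (hy _ g e0) (hy _ g' e1))
  have ev_res : ∀ {V V' : Over ((Over.map a).obj (O R R'))} (t : V' ⟶ V) (g : V.left ⟶ Red.Ga S),
      ev V' (t.left ≫ g) = I.obj.map t.left.op (ev V g) := fun {V V'} t g => by
    refine Eq.trans ?_ (ConcreteCategory.congr_hom (I.obj.map_comp _ _) s)
    exact congrArg (fun m => I.obj.map (Quiver.Hom.op m) s) (linePt_comp t g).symm
  refine ⟨R', inferInstance, inferInstance, inferInstance, inferInstance,
    ⟨{ app := fun V => AddCommGrpCat.ofHom (AddMonoidHom.mk'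
          (fun q : ULift.{u + 1} (Additive (V.unop.left ⟶ Red.Ga S)) => ev V.unop q.down.toMul)
          (fun q q' => ev_add V.unop q.down.toMul q'.down.toMul))
       naturality := fun V V' t => AddCommGrpCat.ext fun q => ev_res t.unop q.down.toMul }⟩,
    Sheaf.hom_ext (NatTrans.ext (funext fun V => AddCommGrpCat.ext fun q => ?_))⟩
  obtain ⟨gq⟩ := q
  change Additive (V.unop.left ⟶ Red.Ga S) at gq
  obtain ⟨g, rfl⟩ : ∃ g, Additive.ofMul g = gq := ⟨gq.toMul, rfl⟩
  show π.hom.app (op V.unop.left) (I.obj.map (linePt V.unop g).op s) =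
    φ.hom.app (op (Over.mk (V.unop.hom ≫ str (O R R')))) (ULift.up (Additive.ofMul g))
  rw [NatTrans.naturality_apply π.hom]
  refine (congrArg (K.obj.map (linePt V.unop g).op) hs).trans ?_
  let t : Over.mk (V.unop.hom ≫ str (O R R')) ⟶ Over.mk (str (O R (Polynomial R'))) :=
    Over.homMk (linePt V.unop g) (Over.OverMorphism.ext (by
      show _ ≫ (O R (Polynomial R')).hom = V.unop.hom.left ≫ (O R R').hom
      exact kk_struct _ _ _))
  refine (NatTrans.naturality_apply φ.hom t.op _).symm.trans (congrArg (φ.hom.app _) ?_)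
  exact ULift.ext _ _ (congrArg Additive.ofMul (linePt_gaPt V.unop g))

/-- The first Ext sheaf of `G_a` by `G_m` vanishes over schemes with `p = 0`. -/
theorem isZero_extSh_Ga {p : ℕ} [Fact p.Prime] (hp : (p : Γ(S, ⊤)) = 0) :
    IsZero ((HomSh.extSh (QuotSh.J Scheme.fppfPrecoverage S) (CGrpSh2.Ga Scheme.fppfPrecoverage S) 1).obj
      (CGrpSh2.Gm Scheme.fppfPrecoverage S)) := by
  refine isZero_extSh_one _ _ _ fun I K incl π w hS T x => ?_
  let aU : ∀ U : T.left.affineOpens, Spec (CommRingCat.of Γ(T.left, U.1)) ⟶ S := fun U => U.2.fromSpec ≫ T.hom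
  let h2 : ∀ U : T.left.affineOpens, Over.mk (aU U) ⟶ T := fun U => Over.homMk U.2.fromSpec
  choose B hB hBalg hBff hBfp θ hθ using fun U : T.left.affineOpens =>
    exists_lift_Ga hp I K incl π w hS (aU U)
      ((HomSh.homSh (QuotSh.J Scheme.fppfPrecoverage S) (CGrpSh2.Ga Scheme.fppfPrecoverage S) K).obj.map (h2 U).op x)
  let g : ∀ U : T.left.affineOpens, (Over.map (aU U)).obj (O Γ(T.left, U.1) (B U)) ⟶ T :=
    fun U => (Over.homMk (O Γ(T.left, U.1) (B U)).hom :
      (Over.map (aU U)).obj (O Γ(T.left, U.1) (B U)) ⟶ Over.mk (aU U)) ≫ h2 U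
  refine ⟨Sieve.generate (Presieve.ofArrows _ g), ?_, ?_⟩
  · refine (GrothendieckTopology.mem_over_iff _ _).2
      (Scheme.fppfPrecoverage.toGrothendieck.superset_covering ?_ (Precoverage.generate_mem_toGrothendieck
        (R := Presieve.ofArrows (fun U => ((Over.map (aU U)).obj (O Γ(T.left, U.1) (B U))).left) fun U => (g U).left) ?_))
    · rintro Z h ⟨W, c, _, ⟨U⟩, rfl⟩
      rw [Sieve.overEquiv_iff]
      exact ⟨_, Over.homMk c (by simp), g U, Presieve.ofArrows.mk U, by ext; simp⟩
    · refine AdeqLib.fppf_ofArrows_iff.mpr ⟨fun z => ?_, fun U => ?_⟩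
      · obtain ⟨V, hV, hzV, -⟩ := TopologicalSpace.Opens.isBasis_iff_nbhd.mp T.left.isBasis_affineOpens
          (U := ⊤) (x := z) trivial
        obtain ⟨y, hy⟩ : z ∈ Set.range hV.fromSpec := by rw [IsAffineOpen.range_fromSpec]; exact hzV
        letI := hBalg ⟨V, hV⟩
        haveI := hBff ⟨V, hV⟩
        obtain ⟨y', hy'⟩ := PrimeSpectrum.comap_surjective_of_faithfullyFlat (A := Γ(T.left, V)) (B := B ⟨V, hV⟩) y
        refine ⟨⟨V, hV⟩, y', ?_⟩
        show hV.fromSpec (Spec.map (CommRingCat.ofHom (algebraMap Γ(T.left, V) (B ⟨V, hV⟩))) y') = z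
        rw [← hy, ← hy']
        rfl
      · letI := hBalg U
        haveI := hBff U
        haveI := hBfp U
        exact MorphismProperty.comp_mem _ _ _ (fppfP_of_ff Γ(T.left, U.1) (B U)) (AdeqLib.fppfP_imm U.2.fromSpec)
  · rintro T' f ⟨W, c, _, ⟨U⟩, rfl⟩
    let F := HomSh.homShFunctor (QuotSh.J Scheme.fppfPrecoverage S) (CGrpSh2.Ga Scheme.fppfPrecoverage S)
    refine ⟨(F.obj I).obj.map c.op (θ U), ?_⟩
    refine (NatTrans.naturality_apply (F.map π).hom c.op (θ U)).trans
      ((congrArg ((F.obj K).obj.map c.op) (hθ U)).trans ?_)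
    simp only [g, op_comp, Functor.map_comp]
    rfl

end Groth.Agent.GaExt
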