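import Groth.Agent.GaExt.DDAlg
import Groth.Agent.GaExt.GaExtSh
import Groth.Agent.GaExt.H1Ext

/-!
The double dual of the additive group in characteristic `p`.
-/

set_option autoImplicit false
set_option backward.isDefEq.respectTransparency false
set_option backward.isDefEq.respectTransparency.types false
set_option linter.style.haveILetI false
set_option synthInstance.maxHeartbeats 400000

universe u

open CategoryTheory CategoryTheory.Limits AlgebraicGeometry Opposite
open MonoidalCategory CartesianMonoidalCategory MonObj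
open Groth.Agent.GaChar

noncomputable section

namespace Groth.Agent.GaExt

variable {X : Scheme.{u}}

/-- The unit of a section of `G_m`. -/
def uu {W : Over X} (s : BigSite.sect Scheme.fppfPrecoverage (CGrpSh2.Gm Scheme.fppfPrecoverage X) W) :
    (Γ(W.left, ⊤))ˣ :=
  GmPts.unitOfPt (Additive.toMul (ULift.down s))

/-- The section of `G_m` of a unit. -/
def ofUnit {W : Over X} (w : (Γ(W.left, ⊤))ˣ) :
    BigSite.sect Scheme.fppfPrecoverage (CGrpSh2.Gm Scheme.fppfPrecoverage X) W :=
  ULift.up (Additive.ofMul (GmPts.ptOfUnit w))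

theorem uu_ofUnit {W : Over X} (w : (Γ(W.left, ⊤))ˣ) : uu (ofUnit (W := W) w) = w := GmPts.unitOfPt_ptOfUnit w

theorem uu_injective {W : Over X} {s t : BigSite.sect Scheme.fppfPrecoverage (CGrpSh2.Gm Scheme.fppfPrecoverage X) W}
    (h : (uu s : Γ(W.left, ⊤)) = uu t) : s = t :=
  ULift.ext _ _ (congrArg Additive.ofMul ((GmPts.ptOfUnit_unitOfPt (Additive.toMul (ULift.down s))).symm.trans
    ((congrArg GmPts.ptOfUnit (Units.ext h)).trans (GmPts.ptOfUnit_unitOfPt (Additive.toMul (ULift.down t))))))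

theorem uu_add {W : Over X} (s t : BigSite.sect Scheme.fppfPrecoverage (CGrpSh2.Gm Scheme.fppfPrecoverage X) W) :
    (uu (s + t) : Γ(W.left, ⊤)) = uu s * uu t :=
  congrArg Units.val (GmPts.unitOfPt_mul (Additive.toMul (ULift.down s)) (Additive.toMul (ULift.down t)))

theorem uu_zero {W : Over X} :
    (uu (0 : BigSite.sect Scheme.fppfPrecoverage (CGrpSh2.Gm Scheme.fppfPrecoverage X) W) : Γ(W.left, ⊤)) = 1 :=
  congrArg Units.val (GmPts.unitOfPt_one)

theorem uu_res {W W' : Over X} (k : W' ⟶ W)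
    (s : BigSite.sect Scheme.fppfPrecoverage (CGrpSh2.Gm Scheme.fppfPrecoverage X) W) :
    (uu (res _ k s) : Γ(W'.left, ⊤)) = k.left.appTop (uu s : Γ(W.left, ⊤)) :=
  congrArg Units.val (GmPts.unitOfPt_comp k (Additive.toMul (ULift.down s)))

/-- A point of the additive group as a section. -/
def gaS {W : Over X} (g : W ⟶ Red.Ga X) :
    BigSite.sect Scheme.fppfPrecoverage (CGrpSh2.Ga Scheme.fppfPrecoverage X) W :=
  ULift.up (Additive.ofMul g)

variable {A : Type u} [CommRing A] (a : Spec (CommRingCat.of A) ⟶ X)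

/-- An affine object over `Spec A` as an object over `X`. -/
abbrev OC (C : Type u) [CommRing C] [Algebra A C] : Over X := (Over.map a).obj (O A C)

variable {a}

section

variable {C : Type u} [CommRing C] [Algebra A C]

theorem char_unit {W : Over (OC a C)} {f : Polynomial C} (hf : IsChar f) (g : Γ(W.left.left, ⊤)) :
    Polynomial.eval₂ (φV W) g f * Polynomial.eval₂ (φV W) (-g) f = 1 := by
  have h := congrArg (MvPolynomial.eval₂Hom (φV W) ![g, -g]) hf.2
  simp only [map_mul, Polynomial.aeval_def, Polynomial.hom_eval₂, map_add, MvPolynomial.eval₂Hom_X'] at h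
  rw [show (MvPolynomial.eval₂Hom (φV W) ![g, -g]).comp (algebraMap C (MvPolynomial (Fin 2) C)) = φV W from
    RingHom.ext fun r => MvPolynomial.eval₂Hom_C _ _ _] at h
  simp only [Matrix.cons_val_zero, Matrix.cons_val_one, add_neg_cancel] at h
  rw [← h, Polynomial.eval₂_at_zero, hf.1, map_one]

theorem char_add {W : Over (OC a C)} {f : Polynomial C} (hf : IsChar f) (g g' : Γ(W.left.left, ⊤)) :
    Polynomial.eval₂ (φV W) (g + g') f = Polynomial.eval₂ (φV W) g f * Polynomial.eval₂ (φV W) g' f := by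
  have h := congrArg (MvPolynomial.eval₂Hom (φV W) ![g, g']) hf.2
  simp only [map_mul, Polynomial.aeval_def, Polynomial.hom_eval₂, map_add, MvPolynomial.eval₂Hom_X'] at h
  rw [show (MvPolynomial.eval₂Hom (φV W) ![g, g']).comp (algebraMap C (MvPolynomial (Fin 2) C)) = φV W from
    RingHom.ext fun r => MvPolynomial.eval₂Hom_C _ _ _] at h
  simpa using h

theorem φV_comp {V V' : Over (OC a C)} (t : V' ⟶ V) :
    t.left.left.appTop.hom.comp (φV V) = φV V' := RingHom.ext fun r => by
  show t.left.left.appTop (V.hom.left.appTop (fn A C r)) = V'.hom.left.appTop (fn A C r)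
  rw [← CommRingCat.comp_apply, ← Scheme.Hom.comp_appTop, ← Over.comp_left, Over.w t]

/-- The value of the character of a polynomial at a point. -/
def charUnit (f : Polynomial C) (hf : IsChar f) (W : Over (OC a C)) (g : W.left ⟶ Red.Ga X) :
    BigSite.sect Scheme.fppfPrecoverage (CGrpSh2.Gm Scheme.fppfPrecoverage X) W.left :=
  ofUnit (W := W.left) (Units.mkOfMulEqOne (Polynomial.eval₂ (φV W) (Red.gaFn g) f)
    (Polynomial.eval₂ (φV W) (-Red.gaFn g) f) (char_unit hf _))

theorem uu_charUnit (f : Polynomial C) (hf : IsChar f) (W : Over (OC a C)) (g : W.left ⟶ Red.Ga X) :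
    (uu (charUnit f hf W g) : Γ(W.left.left, ⊤)) = Polynomial.eval₂ (φV W) (Red.gaFn g) f :=
  congrArg Units.val (uu_ofUnit (W := W.left) _)

theorem charUnit_add (f : Polynomial C) (hf : IsChar f) (W : Over (OC a C)) (g g' : W.left ⟶ Red.Ga X) :
    charUnit f hf W (g * g') = charUnit f hf W g + charUnit f hf W g' :=
  uu_injective (by rw [uu_add, uu_charUnit, uu_charUnit, uu_charUnit, BGaNotS.gaFn_mul, char_add hf])

theorem charUnit_res (f : Polynomial C) (hf : IsChar f) {W W' : Over (OC a C)} (t : W' ⟶ W)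
    (g : W.left ⟶ Red.Ga X) :
    charUnit f hf W' (t.left ≫ g) = res (CGrpSh2.Gm Scheme.fppfPrecoverage X) t.left (charUnit f hf W g) :=
  uu_injective (by
    rw [uu_res, uu_charUnit, uu_charUnit, Polynomial.hom_eval₂, φV_comp, BGaNotS.gaFn_comp])

/-- The character of `G_a` of a polynomial. -/
def charHom (f : Polynomial C) (hf : IsChar f) :
    (CGrpSh2.Ga Scheme.fppfPrecoverage X).over (OC a C) ⟶ (CGrpSh2.Gm Scheme.fppfPrecoverage X).over (OC a C) :=
  ⟨{
    app := fun V => AddCommGrpCat.ofHom (X := ULift.{u + 1} (Additive (V.unop.left ⟶ Red.Ga X)))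
      (Y := BigSite.sect Scheme.fppfPrecoverage (CGrpSh2.Gm Scheme.fppfPrecoverage X) V.unop.left) (AddMonoidHom.mk'
      (fun q => charUnit f hf V.unop (Additive.toMul q.down))
      (fun q q' => charUnit_add f hf V.unop (Additive.toMul q.down) (Additive.toMul q'.down)))
    naturality := fun V V' t => AddCommGrpCat.ext fun q =>
      charUnit_res f hf t.unop (Additive.toMul q.down) }⟩

theorem charHom_app (f : Polynomial C) (hf : IsChar f) {W : Over X} (c : W ⟶ OC a C) (g : W ⟶ Red.Ga X) :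
    (uu (ov (charHom f hf) c (gaS g)) : Γ(W.left, ⊤)) = Polynomial.eval₂ (φV (Over.mk c)) (Red.gaFn g) f :=
  uu_charUnit f hf (Over.mk c) g

/-- The universal point over `C`. -/
abbrev univ (C : Type u) [CommRing C] [Algebra A C] : OC a (Polynomial C) ⟶ OC a C :=
  (Over.map a).map (Omap (IsScalarTower.toAlgHom A C (Polynomial C)))

theorem exists_poly (d : (CGrpSh2.Ga Scheme.fppfPrecoverage X).over (OC a C) ⟶
      (CGrpSh2.Gm Scheme.fppfPrecoverage X).over (OC a C)) :
    ∃ (f : Polynomial C) (hf : IsChar f), d = charHom f hf := by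
  let g0 : OC a (Polynomial C) ⟶ Red.Ga X :=
    BGaNotS.gaPt (W := OC a (Polynomial C)) (fn A (Polynomial C) Polynomial.X)
  obtain ⟨f, hf⟩ := (fn_bijective (R := A) (A := Polynomial C)).2
    (uu (ov d (univ C) (gaS g0)) : Γ((OC a (Polynomial C)).left, ⊤))
  have hval : ∀ {W : Over X} (c : W ⟶ OC a C) (g : W ⟶ Red.Ga X),
      (uu (ov d c (gaS g)) : Γ(W.left, ⊤)) = Polynomial.eval₂ (φV (Over.mk c)) (Red.gaFn g) f := fun {W} c g => by
    let l : W ⟶ OC a (Polynomial C) := linePt (Over.mk c) g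
    have hl : l ≫ univ C = c := map_hom_ext fun r => by
      rw [Over.comp_left, Scheme.Hom.comp_appTop, CommRingCat.comp_apply]
      refine (congrArg l.left.appTop (fn_map _ r)).trans ((linePt_fn (Over.mk c) g _).trans ?_)
      exact Polynomial.eval₂_C _ _
    have hg : res (CGrpSh2.Ga Scheme.fppfPrecoverage X) l (gaS g0) = gaS g :=
      ULift.ext _ _ (congrArg Additive.ofMul (linePt_gaPt (Over.mk c) g))
    have h := over_app_res d l (univ C) (gaS g0)
    rw [hg, hl] at h
    rw [h, uu_res, ← hf]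
    exact linePt_fn (Over.mk c) g f
  have hchar : IsChar f := by
    constructor
    · have h := hval (𝟙 (OC a C)) (BGaNotS.gaPt (W := OC a C) (fn A C 0))
      have e0 : gaS (BGaNotS.gaPt (W := OC a C) (fn A C 0)) = 0 :=
        ULift.ext _ _ (congrArg Additive.ofMul (BGaNotS.gaPt_ext (by
          rw [BGaNotS.gaFn_gaPt, map_zero]
          exact (BGaNotS.gaFn_one (S := X) (W := OC a C)).symm)))
      rw [e0, map_zero, uu_zero, BGaNotS.gaFn_gaPt, map_zero, Polynomial.eval₂_at_zero] at h
      refine (fn_bijective (R := A) (A := C)).1 ?_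
      rw [map_one]
      refine Eq.trans ?_ h.symm
      show _ = (𝟙 (OC a C).left : (OC a C).left ⟶ (OC a C).left).appTop (fn A C (f.coeff 0))
      simp
    · let c2 : OC a (MvPolynomial (Fin 2) C) ⟶ OC a C :=
        (Over.map a).map (Omap (IsScalarTower.toAlgHom A C (MvPolynomial (Fin 2) C)))
      have hφ : φV (Over.mk c2) = (fn A (MvPolynomial (Fin 2) C)).comp (algebraMap C (MvPolynomial (Fin 2) C)) :=
        RingHom.ext fun r => fn_map (IsScalarTower.toAlgHom A C (MvPolynomial (Fin 2) C)) r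
      have hy : ∀ y : MvPolynomial (Fin 2) C,
          (uu (ov d c2 (gaS (BGaNotS.gaPt (W := OC a (MvPolynomial (Fin 2) C)) (fn A _ y)))) :
            Γ((OC a (MvPolynomial (Fin 2) C)).left, ⊤)) = fn A (MvPolynomial (Fin 2) C) (Polynomial.aeval y f) := fun y => by
        rw [hval, hφ, BGaNotS.gaFn_gaPt, Polynomial.aeval_def, Polynomial.hom_eval₂]
      refine (fn_bijective (R := A) (A := MvPolynomial (Fin 2) C)).1 ?_
      rw [map_mul, ← hy, ← hy, ← hy, ← uu_add, ← map_add]
      refine congrArg (fun s => (uu (ov d c2 s) : Γ((OC a (MvPolynomial (Fin 2) C)).left, ⊤))) ?_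
      exact ULift.ext _ _ (congrArg Additive.ofMul
        ((congrArg (BGaNotS.gaPt (W := OC a (MvPolynomial (Fin 2) C))) (map_add (fn A _) _ _)).trans (gaPt_add _ _)))
  refine ⟨f, hchar, over_hom_ext fun {W} c e => ?_⟩
  obtain ⟨e⟩ := e
  obtain ⟨g, rfl⟩ : ∃ g, Additive.ofMul g = e := ⟨Additive.toMul e, rfl⟩
  exact uu_injective ((hval c g).trans (charHom_app f hchar c g).symm)

theorem charHom_congr {f g : Polynomial C} (hf : IsChar f) (hg : IsChar g) (h : f = g) :
    (charHom f hf : (CGrpSh2.Ga Scheme.fppfPrecoverage X).over (OC a C) ⟶ _) = charHom g hg := by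
  subst h; rfl

theorem charHom_one : (charHom (1 : Polynomial C) isChar_one :
    (CGrpSh2.Ga Scheme.fppfPrecoverage X).over (OC a C) ⟶ _) = 0 :=
  over_hom_ext fun {W} c e => by
    obtain ⟨e⟩ := e
    obtain ⟨g, rfl⟩ : ∃ g, Additive.ofMul g = e := ⟨Additive.toMul e, rfl⟩
    exact uu_injective ((charHom_app _ _ c g).trans ((Polynomial.eval₂_one _ _).trans uu_zero.symm))

theorem charHom_mul {f g : Polynomial C} (hf : IsChar f) (hg : IsChar g) :
    (charHom (f * g) (hf.mul hg) : (CGrpSh2.Ga Scheme.fppfPrecoverage X).over (OC a C) ⟶ _) =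
      charHom f hf + charHom g hg :=
  over_hom_ext fun {W} c e => by
    obtain ⟨e⟩ := e
    obtain ⟨q, rfl⟩ : ∃ q, Additive.ofMul q = e := ⟨Additive.toMul e, rfl⟩
    refine uu_injective ((charHom_app _ _ c q).trans ?_)
    show _ = (uu (ov (charHom f hf) c (gaS q) + ov (charHom g hg) c (gaS q)) : Γ(W.left, ⊤))
    rw [uu_add, charHom_app, charHom_app, Polynomial.eval₂_mul]

theorem isChar_map {D : Type u} [CommRing D] {f : Polynomial C} (hf : IsChar f) (σ : C →+* D) :
    IsChar (f.map σ) := by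
  refine ⟨by rw [Polynomial.coeff_map, hf.1, map_one], ?_⟩
  have h := congrArg (MvPolynomial.map σ) hf.2
  simp only [map_mul, Polynomial.aeval_def, Polynomial.hom_eval₂, map_add, MvPolynomial.map_X] at h
  simp only [Polynomial.aeval_def, Polynomial.eval₂_map]
  rw [show (MvPolynomial.map σ).comp (algebraMap C (MvPolynomial (Fin 2) C)) =
    (algebraMap D (MvPolynomial (Fin 2) D)).comp σ from RingHom.ext fun r => MvPolynomial.map_C σ r] at h
  exact h

theorem charHom_map {D : Type u} [CommRing D] [Algebra A D] (σ : C →ₐ[A] D) {f : Polynomial C} (hf : IsChar f) :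
    (HomSh.homSh (QuotSh.J Scheme.fppfPrecoverage X) (CGrpSh2.Ga Scheme.fppfPrecoverage X)
      (CGrpSh2.Gm Scheme.fppfPrecoverage X)).obj.map ((Over.map a).map (Omap σ)).op (charHom f hf) =
      charHom (f.map σ.toRingHom) (isChar_map hf _) :=
  over_hom_ext fun {W} c e => by
    obtain ⟨e⟩ := e
    obtain ⟨q, rfl⟩ : ∃ q, Additive.ofMul q = e := ⟨Additive.toMul e, rfl⟩
    refine uu_injective ?_
    rw [ov_restrict']
    refine (charHom_app _ _ _ q).trans (Eq.trans ?_ (charHom_app _ _ c q).symm)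
    rw [Polynomial.eval₂_map]
    refine congrArg (fun ψ => Polynomial.eval₂ ψ (Red.gaFn q) f) (RingHom.ext fun r => ?_)
    show (c ≫ (Over.map a).map (Omap σ)).left.appTop (fn A C r) = c.left.appTop (fn A D (σ r))
    rw [Over.comp_left, Scheme.Hom.comp_appTop, CommRingCat.comp_apply]
    exact congrArg c.left.appTop (fn_map σ r)
  where
    ov_restrict' {E F : BigSite.Ab Scheme.fppfPrecoverage X} {Y Z W : Over X} {k : Z ⟶ Y} {r : E.over Y ⟶ F.over Y}
        {b : W ⟶ Z} {e : BigSite.sect Scheme.fppfPrecoverage E W} :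
        ov ((HomSh.homSh (QuotSh.J Scheme.fppfPrecoverage X) E F).obj.map k.op r) b e = ov r (b ≫ k) e := rfl

/-- The structure map of an affine object. -/
abbrev strC (a : Spec (CommRingCat.of A) ⟶ X) (C : Type u) [CommRing C] [Algebra A C] : OC a C ⟶ Over.mk a :=
  Over.homMk (O A C).hom

end

/-- The value of a morphism out of the dual on a polynomial. -/
def chiVal (χ : (CGrpSh2.dualSh Scheme.fppfPrecoverage (CGrpSh2.Ga Scheme.fppfPrecoverage X)).over (Over.mk a) ⟶
      (CGrpSh2.Gm Scheme.fppfPrecoverage X).over (Over.mk a))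
    (C : Type u) [CommRing C] [Algebra A C] (f : Polynomial C) : C :=
  open Classical in
  if hf : IsChar f then (RingEquiv.ofBijective (fn A C) (fn_bijective (R := A) (A := C))).symm
    (uu (ov χ (strC a C) (charHom f hf)) : Γ((OC a C).left, ⊤)) else 1

theorem fn_chiVal {χ : (CGrpSh2.dualSh Scheme.fppfPrecoverage (CGrpSh2.Ga Scheme.fppfPrecoverage X)).over (Over.mk a) ⟶
      (CGrpSh2.Gm Scheme.fppfPrecoverage X).over (Over.mk a)}
    {C : Type u} [CommRing C] [Algebra A C] {f : Polynomial C} (hf : IsChar f) :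
    fn A C (chiVal χ C f) = (uu (ov χ (strC a C) (charHom f hf)) : Γ((OC a C).left, ⊤)) := by
  rw [chiVal, dif_pos hf]
  exact (RingEquiv.ofBijective (fn A C) (fn_bijective (R := A) (A := C))).apply_symm_apply _

theorem isNatural_chiVal (χ : (CGrpSh2.dualSh Scheme.fppfPrecoverage (CGrpSh2.Ga Scheme.fppfPrecoverage X)).over (Over.mk a) ⟶
      (CGrpSh2.Gm Scheme.fppfPrecoverage X).over (Over.mk a)) : IsNatural (A := A) (chiVal χ) where
  one C _ _ := (fn_bijective (R := A) (A := C)).1 (by rw [fn_chiVal isChar_one, charHom_one, map_zero, uu_zero, map_one])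
  mul C _ _ f g hf hg := (fn_bijective (R := A) (A := C)).1 (by
    rw [fn_chiVal (hf.mul hg), charHom_mul hf hg, map_add, uu_add, map_mul, fn_chiVal hf, fn_chiVal hg])
  nat C D _ _ _ _ σ f hf := (fn_bijective (R := A) (A := D)).1 (by
    rw [fn_chiVal (isChar_map hf σ.toRingHom), ← charHom_map σ hf,
      show strC a D = (Over.map a).map (Omap σ) ≫ strC a C from Over.OverMorphism.ext (Over.w (Omap σ)).symm]
    refine (congrArg (fun s => (uu s : Γ((OC a D).left, ⊤)))
      (over_app_res χ ((Over.map a).map (Omap σ)) (strC a C) (charHom f hf))).trans ?_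
    rw [uu_res, ← fn_chiVal hf]
    exact fn_map σ _)

theorem eval_bidual (y : A) {C : Type u} [CommRing C] [Algebra A C] {f : Polynomial C} (hf : IsChar f) :
    (uu (ov (HomSh.evalSect (QuotSh.J Scheme.fppfPrecoverage X)
      (M := CGrpSh2.Gm Scheme.fppfPrecoverage X) (gaS (BGaNotS.gaPt (W := Over.mk a)
        ((Scheme.ΓSpecIso (CommRingCat.of A)).inv y)))) (strC a C) (charHom f hf)) : Γ((OC a C).left, ⊤)) =
      fn A C (f.eval (algebraMap A C y)) := by
  refine (charHom_app f hf (𝟙 (OC a C)) (strC a C ≫ BGaNotS.gaPt (W := Over.mk a) _)).trans ?_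
  rw [BGaNotS.gaFn_comp, BGaNotS.gaFn_gaPt, ← Polynomial.coe_aeval_eq_eval, Polynomial.aeval_def,
    Polynomial.hom_eval₂]
  have e : φV (Over.mk (𝟙 (OC a C))) = (fn A C).comp (algebraMap C C) := RingHom.ext fun r => by
    show (𝟙 (OC a C).left : (OC a C).left ⟶ (OC a C).left).appTop (fn A C r) = fn A C r
    simp
  rw [e]
  refine congrArg (fun z => Polynomial.eval₂ _ z f) ?_
  exact (ConcreteCategory.congr_hom (Scheme.ΓSpecIso_inv_naturality (CommRingCat.ofHom (algebraMap A C))) y).symm

/-- Sections of a sheaf agreeing on all affine opens are equal. -/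
theorem sect_ext_affine (F : BigSite.Ab Scheme.fppfPrecoverage X) {W : Over X}
    (s t : BigSite.sect Scheme.fppfPrecoverage F W)
    (h : ∀ (C : Type u) [CommRing C] (j : Spec (CommRingCat.of C) ⟶ W.left),
      res F (Over.homMk j : Over.mk (j ≫ W.hom) ⟶ W) s = res F (Over.homMk j : Over.mk (j ≫ W.hom) ⟶ W) t) :
    s = t := by
  let g : ∀ U : W.left.affineOpens, Over.mk (U.2.fromSpec ≫ W.hom) ⟶ W := fun U => Over.homMk U.2.fromSpec
  refine (glue F g (AdeqLib.fppf_ofArrows_iff.mpr ⟨fun z => ?_, fun U => AdeqLib.fppfP_imm U.2.fromSpec⟩)).1 s t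
    fun U => h _ U.2.fromSpec
  obtain ⟨V, hV, hzV, -⟩ := TopologicalSpace.Opens.isBasis_iff_nbhd.mp W.left.isBasis_affineOpens
    (U := ⊤) (x := z) trivial
  obtain ⟨y, hy⟩ : z ∈ Set.range hV.fromSpec := by rw [IsAffineOpen.range_fromSpec]; exact hzV
  exact ⟨⟨V, hV⟩, y, hy⟩

/-- A character that agrees with evaluation on all affine objects is evaluation. -/
theorem eq_evalSect {χ : (CGrpSh2.dualSh Scheme.fppfPrecoverage (CGrpSh2.Ga Scheme.fppfPrecoverage X)).over (Over.mk a) ⟶
      (CGrpSh2.Gm Scheme.fppfPrecoverage X).over (Over.mk a)} {y : A}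
    (h : ∀ (C : Type u) [CommRing C] [Algebra A C] (f : Polynomial C), IsChar f →
      chiVal χ C f = f.eval (algebraMap A C y)) :
    HomSh.evalSect (QuotSh.J Scheme.fppfPrecoverage X) (M := CGrpSh2.Gm Scheme.fppfPrecoverage X)
      (gaS (BGaNotS.gaPt (W := Over.mk a) ((Scheme.ΓSpecIso (CommRingCat.of A)).inv y))) = χ := by
  refine over_hom_ext fun {W} c d => sect_ext_affine _ _ _ fun C _ j => ?_
  letI : Algebra A C := (Spec.preimage (j ≫ c.left)).hom.toAlgebra
  let k : OC a C ⟶ W := Over.homMk j (by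
    show j ≫ W.hom = Spec.map (CommRingCat.ofHom (algebraMap A C)) ≫ a
    rw [show CommRingCat.ofHom (algebraMap A C) = Spec.preimage (j ≫ c.left) from rfl, Spec.map_preimage,
      Category.assoc]
    exact congrArg (j ≫ ·) (Over.w c).symm)
  have hk : k ≫ c = strC a C := Over.OverMorphism.ext (by
    show j ≫ c.left = Spec.map (Spec.preimage (j ≫ c.left))
    rw [Spec.map_preimage])
  have key : ∀ θ θ' : (CGrpSh2.dualSh Scheme.fppfPrecoverage (CGrpSh2.Ga Scheme.fppfPrecoverage X)).over (Over.mk a) ⟶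
      (CGrpSh2.Gm Scheme.fppfPrecoverage X).over (Over.mk a),
      (∀ d', ov θ (strC a C) d' = ov θ' (strC a C) d') → res _ k (ov θ c d) = res _ k (ov θ' c d) := by
    intro θ θ' hθ
    rw [← over_app_res, ← over_app_res, hk, hθ]
  have hres : res (CGrpSh2.Gm Scheme.fppfPrecoverage X) k
      (ov (HomSh.evalSect (QuotSh.J Scheme.fppfPrecoverage X) (M := CGrpSh2.Gm Scheme.fppfPrecoverage X)
        (gaS (BGaNotS.gaPt (W := Over.mk a) ((Scheme.ΓSpecIso (CommRingCat.of A)).inv y)))) c d) =
      res _ k (ov χ c d) := key _ _ fun d' => by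
    obtain ⟨f, hf, rfl⟩ := exists_poly d'
    exact uu_injective ((eval_bidual y hf).trans ((congrArg (fn A C) (h C f hf)).symm.trans (fn_chiVal hf)))
  let k' : Over.mk (j ≫ W.hom) ⟶ OC a C := Over.homMk (𝟙 _) ((Category.id_comp _).trans (Over.w k).symm)
  rw [show (Over.homMk j : Over.mk (j ≫ W.hom) ⟶ W) = k' ≫ k from
    Over.OverMorphism.ext (Category.id_comp j).symm, ← res_res, ← res_res, hres]

theorem bidual_injective {p : ℕ} [hp : Fact p.Prime] [CharP A p] (y : A)
    (h : HomSh.evalSect (QuotSh.J Scheme.fppfPrecoverage X) (M := CGrpSh2.Gm Scheme.fppfPrecoverage X)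
      (gaS (BGaNotS.gaPt (W := Over.mk a) ((Scheme.ΓSpecIso (CommRingCat.of A)).inv y))) = 0) : y = 0 := by
  haveI : CharP (DualNumber A) p := charP_of_injective_algebraMap
    (fun (r r' : A) (h : algebraMap A (DualNumber A) r = algebraMap A (DualNumber A) r') =>
      show r = r' from congrArg (TrivSqZeroExt.fst (R := A) (M := A)) h) p
  have hε : (DualNumber.eps : DualNumber A) * DualNumber.eps = 0 := DualNumber.eps_mul_eps
  have hf : IsChar (E p (DualNumber.eps : DualNumber A) 0) :=
    isChar_E p (pow_eq_zero_of_le hp.out.two_le (by rw [sq, hε])) 0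
  have e := eval_bidual (a := a) y hf
  rw [h] at e
  change (uu (0 : BigSite.sect Scheme.fppfPrecoverage (CGrpSh2.Gm Scheme.fppfPrecoverage X) (OC a (DualNumber A))) :
    Γ((OC a (DualNumber A)).left, ⊤)) = _ at e
  have e1 : (1 : DualNumber A) = (E p (DualNumber.eps : DualNumber A) 0).eval (algebraMap A (DualNumber A) y) :=
    (fn_bijective (R := A)).1 ((map_one (fn A (DualNumber A))).trans ((uu_zero (X := X) (W := OC a (DualNumber A))).symm.trans e))
  rw [eval_E_zero, texp_sq_zero p _ (by linear_combination (algebraMap A (DualNumber A) y) ^ 2 * hε)] at e1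
  simpa [TrivSqZeroExt.algebraMap_eq_inl, DualNumber.snd_mul] using (congrArg TrivSqZeroExt.snd e1).symm

/-- Every section is evaluation of a point of the additive group and of a unique one. -/
theorem bidual_bijective {p : ℕ} [hp : Fact p.Prime] (hpX : (p : Γ(X, ⊤)) = 0) :
    Function.Bijective ((CGrpSh2.toDoubleDual Scheme.fppfPrecoverage (CGrpSh2.Ga Scheme.fppfPrecoverage X)).hom.app
      (op (Over.mk a))) := by
  let β := (CGrpSh2.toDoubleDual Scheme.fppfPrecoverage (CGrpSh2.Ga Scheme.fppfPrecoverage X)).hom.app (op (Over.mk a))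
  rcases subsingleton_or_nontrivial A with hA | hA
  · have hΓ : (1 : Γ((Over.mk a).left, ⊤)) = 0 :=
      ((map_one (Scheme.ΓSpecIso (CommRingCat.of A)).inv.hom).symm.trans (congrArg _ (Subsingleton.elim 1 0))).trans
        (map_zero _)
    exact ⟨fun s t _ => sect_eq_of_trivial _ hΓ s t, fun χ => ⟨0, sect_eq_of_trivial _ hΓ _ χ⟩⟩
  haveI : CharP A p := (CharP.charP_iff_prime_eq_zero hp.out).2 (by
    have h := congrArg (a.appTop ≫ (Scheme.ΓSpecIso (CommRingCat.of A)).hom).hom hpX
    rwa [map_natCast, map_zero] at h)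
  have hsurjPt : ∀ s, ∃ y : A, gaS (BGaNotS.gaPt (W := Over.mk a) ((Scheme.ΓSpecIso (CommRingCat.of A)).inv y)) = s :=
    fun s => by
    obtain ⟨y, hy⟩ := (ConcreteCategory.bijective_of_isIso (Scheme.ΓSpecIso (CommRingCat.of A)).inv).2
      (Red.gaFn (Additive.toMul (ULift.down s)))
    exact ⟨y, ULift.ext _ _ (congrArg Additive.ofMul (BGaNotS.gaPt_ext ((BGaNotS.gaFn_gaPt _).trans hy)))⟩
  refine ⟨(injective_iff_map_eq_zero β.hom).2 fun s hs => ?_, fun χ => ?_⟩
  · obtain ⟨y, rfl⟩ := hsurjPt s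
    rw [bidual_injective (a := a) (p := p) y hs]
    exact ULift.ext _ _ (congrArg Additive.ofMul (BGaNotS.gaPt_ext (by
      rw [BGaNotS.gaFn_gaPt, map_zero]
      exact (BGaNotS.gaFn_one (S := X) (W := Over.mk a)).symm)))
  · obtain ⟨y, hy⟩ := exists_eval p (isNatural_chiVal χ)
    exact ⟨_, eq_evalSect hy⟩

/-- A morphism of sheaves bijective on affine objects is an isomorphism. -/
theorem isIso_of_affine {E F : BigSite.Ab Scheme.fppfPrecoverage X} (β : E ⟶ F)
    (hβ : ∀ {B : Type u} [CommRing B] (b : Spec (CommRingCat.of B) ⟶ X),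
      Function.Bijective (β.hom.app (op (Over.mk b)))) : IsIso β := by
  have hinj : ∀ T, Function.Injective (β.hom.app (op T)) := fun T s t h => by
    refine sect_ext_affine _ s t fun C _ j => (hβ (j ≫ T.hom)).1 ?_
    exact (app_res β _ s).trans ((congrArg (res _ _) h).trans (app_res β _ t).symm)
  have hsurj : ∀ T, Function.Surjective (β.hom.app (op T)) := fun T χ => by
    let g : ∀ U : T.left.affineOpens, Over.mk (U.2.fromSpec ≫ T.hom) ⟶ T := fun U => Over.homMk U.2.fromSpec
    have hcov : Presieve.ofArrows (fun U : T.left.affineOpens => (Over.mk (U.2.fromSpec ≫ T.hom)).left)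
        (fun U => (g U).left) ∈ Scheme.fppfPrecoverage.coverings T.left := by
      refine AdeqLib.fppf_ofArrows_iff.mpr ⟨fun z => ?_, fun U => AdeqLib.fppfP_imm U.2.fromSpec⟩
      obtain ⟨V, hV, hzV, -⟩ := TopologicalSpace.Opens.isBasis_iff_nbhd.mp T.left.isBasis_affineOpens
        (U := ⊤) (x := z) trivial
      obtain ⟨y, hy⟩ : z ∈ Set.range hV.fromSpec := by rw [IsAffineOpen.range_fromSpec]; exact hzV
      exact ⟨⟨V, hV⟩, y, hy⟩
    choose y hy using fun U : T.left.affineOpens =>
      (hβ (U.2.fromSpec ≫ T.hom)).2 (res _ (g U) χ)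
    obtain ⟨x, hx⟩ := (glue _ g hcov).2 y fun i j W gi gj e => hinj W (by
      refine (app_res β gi (y i)).trans ?_
      refine (congrArg (res _ gi) (hy i)).trans ?_
      refine ((res_res _ (g i) gi χ).trans (congrArg (fun q => res _ q χ) e)).trans ?_
      refine (res_res _ (g j) gj χ).symm.trans ?_
      exact (congrArg (res _ gj) (hy j)).symm.trans (app_res β gj (y j)).symm)
    refine ⟨x, (glue _ g hcov).1 _ _ fun U => ?_⟩
    exact (app_res β (g U) x).symm.trans ((congrArg (app β) (hx U)).trans (hy U))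
  haveI : ∀ T, IsIso (β.hom.app T) := fun T =>
    (ConcreteCategory.isIso_iff_bijective _).2 ⟨hinj T.unop, hsurj T.unop⟩
  haveI : IsIso β.hom := NatIso.isIso_of_isIso_app _
  haveI : IsIso ((sheafToPresheaf _ _).map β) := ‹_›
  exact isIso_of_fully_faithful (sheafToPresheaf _ _) _

/-- The additive group is reflexive in characteristic `p`. -/
theorem isIso_toDoubleDual_Ga {p : ℕ} [Fact p.Prime] (hp : (p : Γ(X, ⊤)) = 0) :
    IsIso (CGrpSh2.toDoubleDual Scheme.fppfPrecoverage (CGrpSh2.Ga Scheme.fppfPrecoverage X)) :=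
  isIso_of_affine _ fun b => bidual_bijective (a := b) hp

end Groth.Agent.GaExt
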