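import Groth.Agent.GaExt.DDMain
import Groth.Agent.S13356
import Mathlib.RingTheory.Nilpotent.Exp

/-!
The double dual of the additive group over the rationals.
-/

set_option autoImplicit false
set_option backward.isDefEq.respectTransparency false
set_option backward.isDefEq.respectTransparency.types false
set_option linter.style.haveILetI false

universe u

open Polynomial
open Groth.Agent.GaChar

noncomputable section

namespace Groth.Agent.GaExt

/-- The exponential polynomial. -/
def eN {C : Type u} [CommRing C] [Algebra ℚ C] (t : C) : C[X] := IsNilpotent.exp (Polynomial.C t * X)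

variable {C : Type u} [CommRing C] [Algebra ℚ C]

theorem isNilpotent_CX {t : C} (ht : IsNilpotent t) : IsNilpotent (Polynomial.C t * X) :=
  (Commute.all _ _).isNilpotent_mul_right (ht.map Polynomial.C)

theorem map_eN {D : Type u} [CommRing D] [Algebra ℚ D] (σ : C →+* D) {t : C} (ht : IsNilpotent t) :
    (eN t).map σ = eN (σ t) := by
  refine (IsNilpotent.map_exp (isNilpotent_CX ht) (Polynomial.mapRingHom σ)).trans ?_
  simp [eN]

theorem eval_eN {t : C} (ht : IsNilpotent t) (z : C) : (eN t).eval z = IsNilpotent.exp (t * z) := by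
  refine (IsNilpotent.map_exp (isNilpotent_CX ht) (Polynomial.evalRingHom z)).trans ?_
  simp

theorem eN_zero : eN (0 : C) = 1 := by simp [eN]

theorem eN_add {s t : C} (hs : IsNilpotent s) (ht : IsNilpotent t) : eN (s + t) = eN s * eN t := by
  rw [eN, C_add, add_mul, IsNilpotent.exp_add_of_commute (Commute.all _ _) (isNilpotent_CX hs) (isNilpotent_CX ht)]
  rfl

theorem isChar_eN {t : C} (ht : IsNilpotent t) : IsChar (eN t) := by
  refine ⟨by rw [coeff_zero_eq_eval_zero, eval_eN ht, mul_zero, IsNilpotent.exp_zero], ?_⟩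
  have h : ∀ z : MvPolynomial (Fin 2) C, aeval z (eN t) = IsNilpotent.exp (MvPolynomial.C t * z) := fun z => by
    refine (IsNilpotent.map_exp (isNilpotent_CX ht) (aeval z)).trans ?_
    simp
  have hn : ∀ z : MvPolynomial (Fin 2) C, IsNilpotent (MvPolynomial.C t * z) := fun z =>
    (Commute.all _ _).isNilpotent_mul_right (ht.map MvPolynomial.C)
  rw [h, h, h, mul_add, IsNilpotent.exp_add_of_commute (Commute.all _ _) (hn _) (hn _)]

theorem exp_sq_zero {t : C} (ht : t * t = 0) : IsNilpotent.exp t = 1 + t := by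
  rw [IsNilpotent.exp_eq_sum (show t ^ 2 = 0 by rw [sq, ht]), Finset.sum_range_succ, Finset.sum_range_one]
  simp

theorem coeff_eN {t : C} (ht : IsNilpotent t) (k : ℕ) :
    (eN t).coeff k = algebraMap ℚ C ((k.factorial : ℚ)⁻¹) * t ^ k := by
  obtain ⟨n, hn⟩ := ht
  rw [eN, IsNilpotent.exp_eq_sum (show (Polynomial.C t * X) ^ (n + k + 1) = 0 by
    rw [mul_pow, ← C_pow, pow_eq_zero_of_le (by omega) hn, C_0, zero_mul]), finsetSum_coeff,
    Finset.sum_eq_single_of_mem k (Finset.mem_range.2 (by omega)) (fun j _ hj => by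
      rw [coeff_smul, mul_pow, ← C_pow, coeff_C_mul, coeff_X_pow, if_neg (Ne.symm hj), mul_zero, smul_zero]),
    coeff_smul, mul_pow, ← C_pow, coeff_C_mul, coeff_X_pow, if_pos rfl, mul_one, Algebra.smul_def]

theorem exists_eN {f : C[X]} (hf : IsChar f) : ∃ t : C, IsNilpotent t ∧ f = eN t := by
  obtain ⟨t, ht, he⟩ := (Groth.Agent.S13356.result C f).1 ⟨by rw [← coeff_zero_eq_eval_zero]; exact hf.1, hf.2⟩
  refine ⟨t, ht, Polynomial.ext fun k => ?_⟩
  rw [← Polynomial.coeff_coe, he, PowerSeries.coeff_rescale, PowerSeries.coeff_exp, coeff_eN ht, mul_comm, one_div]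

variable {A : Type u} [CommRing A] [Algebra ℚ A]

/-- Natural multiplicative functionals on characters are evaluations. -/
theorem exists_eval_rat {v : ∀ (C : Type u) [CommRing C] [Algebra A C], C[X] → C} (hv : IsNatural (A := A) v) :
    ∃ x : A, ∀ (C : Type u) [CommRing C] [Algebra A C] (f : C[X]), IsChar f → v C f = f.eval (algebraMap A C x) := by
  classical
  open DualNumber in
  have hε : IsNilpotent (ε : DualNumber A) := ⟨2, by rw [sq, eps_mul_eps]⟩
  set x := TrivSqZeroExt.snd (v (DualNumber A) (eN (DualNumber.eps : DualNumber A))) with hxdef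
  have hx : v (DualNumber A) (eN (DualNumber.eps : DualNumber A)) =
      1 + algebraMap A (DualNumber A) x * DualNumber.eps := by
    have h := hv.nat (DualNumber A) A (TrivSqZeroExt.fstHom A A A) _ (isChar_eN hε)
    rw [map_eN _ hε, show (TrivSqZeroExt.fstHom A A A).toRingHom (DualNumber.eps : DualNumber A) = 0 from
      DualNumber.fst_eps, eN_zero, hv.one] at h
    refine TrivSqZeroExt.ext ?_ ?_
    · simpa [TrivSqZeroExt.algebraMap_eq_inl] using h.symm
    · simp [TrivSqZeroExt.algebraMap_eq_inl, hxdef]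
  let B : ℕ → Type u := fun n => AdjoinRoot (X ^ n : A[X])
  let b : ∀ n, B n := fun n => AdjoinRoot.root _
  have hb : ∀ n, b n ^ n = 0 := fun n => by
    show AdjoinRoot.mk (X ^ n : A[X]) X ^ n = 0
    rw [← map_pow, AdjoinRoot.mk_self]
  have hdeg : ∀ {n : ℕ} {P : A[X]} {k : ℕ}, aeval (b n) P = 0 → k < n → P.coeff k = 0 := fun {n P k} h hk => by
    rw [AdjoinRoot.aeval_eq, AdjoinRoot.mk_eq_zero] at h
    exact X_pow_dvd_iff.1 h k hk
  have main : ∀ n, v (B (n + 1)) (eN (b (n + 1))) = (eN (b (n + 1))).eval (algebraMap A (B (n + 1)) x) := by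
    intro n
    obtain ⟨P, hP⟩ : ∃ P : A[X], aeval (b (n + 1)) P = v (B (n + 1)) (eN (b (n + 1))) := by
      obtain ⟨P, hP⟩ := AdjoinRoot.mk_surjective (v (B (n + 1)) (eN (b (n + 1))))
      exact ⟨P, (AdjoinRoot.aeval_eq P).trans hP⟩
    have hbn : IsNilpotent (b (n + 1)) := ⟨_, hb _⟩
    have hP0 : P.coeff 0 = 1 := by
      let z : B (n + 1) →ₐ[A] A := AdjoinRoot.liftAlgHom _ (AlgHom.id A A) 0 (by simp)
      have h := hv.nat (B (n + 1)) A z _ (isChar_eN hbn)
      rw [map_eN _ hbn, show z.toRingHom (b (n + 1)) = 0 from AdjoinRoot.liftAlgHom_root .., eN_zero, hv.one, ← hP,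
        ← aeval_algHom_apply, show z (b (n + 1)) = 0 from AdjoinRoot.liftAlgHom_root ..] at h
      rw [coeff_zero_eq_aeval_zero]
      exact h.symm
    let pr : B (n + 1) →ₐ[A] B n := AdjoinRoot.liftAlgHom _ (Algebra.ofId A (B n)) (b n) (by
      simp [pow_succ, hb n])
    let il : B n →ₐ[A] DualNumber (B n) := TrivSqZeroExt.inlAlgHom A (B n) (B n)
    have hibp : (TrivSqZeroExt.inl (b n) : DualNumber (B n)) ^ n = 0 := by
      show il (b n) ^ n = 0
      rw [← map_pow, hb, map_zero]
    have hσ : (TrivSqZeroExt.inl (b n) + DualNumber.eps : DualNumber (B n)) ^ (n + 1) = 0 := by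
      have h := aeval_inl_add_eps (A := A) (b n) (X ^ (n + 1) : A[X])
      rw [aeval_X_pow, aeval_X_pow, derivative_X_pow, map_mul, aeval_X_pow, pow_succ, pow_succ (b n), hb,
        Nat.add_sub_cancel, hb, zero_mul, mul_zero, TrivSqZeroExt.inl_zero, TrivSqZeroExt.inr_zero, add_zero] at h
      rw [pow_succ]
      exact h
    let σ : B (n + 1) →ₐ[A] DualNumber (B n) := AdjoinRoot.liftAlgHom _ (Algebra.ofId A _)
      (TrivSqZeroExt.inl (b n) + DualNumber.eps) (by simpa using hσ)
    let d0 : DualNumber A →ₐ[A] DualNumber (B n) := DualNumber.lift ⟨⟨Algebra.ofId A _, DualNumber.eps⟩,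
      DualNumber.eps_mul_eps, fun _ => Commute.all _ _⟩
    have hd0 : d0 DualNumber.eps = DualNumber.eps := DualNumber.lift_apply_eps _
    have hσb : σ (b (n + 1)) = TrivSqZeroExt.inl (b n) + DualNumber.eps := AdjoinRoot.liftAlgHom_root ..
    have hpb : pr (b (n + 1)) = b n := AdjoinRoot.liftAlgHom_root ..
    have hεn : IsNilpotent (DualNumber.eps : DualNumber (B n)) := ⟨2, by rw [sq, DualNumber.eps_mul_eps]⟩
    have key := congrArg (v (DualNumber (B n))) (eN_add hεn ⟨n, hibp⟩).symm
    rw [hv.mul _ _ _ (isChar_eN hεn) (isChar_eN ⟨n, hibp⟩),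
      show v (DualNumber (B n)) (eN (DualNumber.eps : DualNumber (B n))) = d0 (v _ (eN DualNumber.eps)) by
        rw [← hv.nat _ _ d0 _ (isChar_eN hε), map_eN _ hε]; exact congrArg (fun t => v _ (eN t)) hd0.symm,
      show v (DualNumber (B n)) (eN (TrivSqZeroExt.inl (b n) : DualNumber (B n))) =
          il.comp pr (v (B (n + 1)) (eN (b (n + 1)))) by
        rw [← hv.nat _ _ (il.comp pr) _ (isChar_eN hbn), map_eN _ hbn]
        exact congrArg (fun t => v _ (eN t)) (congrArg il hpb).symm,
      show v (DualNumber (B n)) (eN ((DualNumber.eps : DualNumber (B n)) + TrivSqZeroExt.inl (b n))) =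
          σ (v (B (n + 1)) (eN (b (n + 1)))) by
        rw [← hv.nat _ _ σ _ (isChar_eN hbn), map_eN _ hbn]
        exact congrArg (fun t => v _ (eN t)) ((add_comm _ _).trans hσb.symm),
      hx, map_add, map_mul, map_one, AlgHom.commutes, hd0, ← hP, ← aeval_algHom_apply, ← aeval_algHom_apply, hσb,
      show il.comp pr (b (n + 1)) = il (b n) from congrArg il hpb, aeval_algHom_apply, aeval_inl_add_eps] at key
    have h2 := congrArg TrivSqZeroExt.snd key
    have haD : ∀ a : A, algebraMap A (DualNumber (B n)) a = TrivSqZeroExt.inl (algebraMap A (B n) a) := fun _ => rfl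
    simp [haD, il] at h2
    have h3 : aeval (b n) (Polynomial.C x * P - derivative P) = 0 := by
      rw [map_sub, map_mul, aeval_C, sub_eq_zero]
      exact h2
    have hform : ∀ k, k ≤ n → P.coeff k = algebraMap ℚ A ((k.factorial : ℚ)⁻¹) * x ^ k := fun k => by
      induction k with
      | zero => simp [hP0]
      | succ k ih =>
        intro hk
        have h := hdeg h3 (show k < n by omega)
        rw [coeff_sub, coeff_C_mul, coeff_derivative, sub_eq_zero, ih (by omega)] at h
        have e : algebraMap ℚ A (((k + 1).factorial : ℚ)⁻¹) = algebraMap ℚ A ((k.factorial : ℚ)⁻¹) *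
            algebraMap ℚ A (((k + 1 : ℕ) : ℚ)⁻¹) := by
          rw [← map_mul, Nat.factorial_succ, Nat.cast_mul, mul_inv, mul_comm]
        have hinv : ((k + 1 : ℕ) : A) * algebraMap ℚ A (((k + 1 : ℕ) : ℚ)⁻¹) = 1 := by
          rw [← map_natCast (algebraMap ℚ A), ← map_mul, mul_inv_cancel₀ (by positivity), map_one]
        rw [e, pow_succ]
        push_cast at hinv ⊢
        linear_combination -(algebraMap ℚ A (((k : ℚ) + 1)⁻¹)) * h - P.coeff (k + 1) * hinv
    letI : Module ℚ (B (n + 1)) := Algebra.toModule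
    rw [← hP, eval_eN hbn, IsNilpotent.exp_eq_sum (show (b (n + 1) * algebraMap A (B (n + 1)) x) ^ (n + 1) = 0 by
      rw [mul_pow, hb, zero_mul])]
    have h4 : aeval (b (n + 1)) (P - ∑ k ∈ Finset.range (n + 1),
        Polynomial.C (algebraMap ℚ A ((k.factorial : ℚ)⁻¹) * x ^ k) * X ^ k) = 0 := by
      rw [AdjoinRoot.aeval_eq, AdjoinRoot.mk_eq_zero, X_pow_dvd_iff]
      intro k hk
      rw [coeff_sub, finsetSum_coeff, Finset.sum_eq_single_of_mem k (Finset.mem_range.2 hk)
        (fun j _ hj => by rw [coeff_C_mul, coeff_X_pow, if_neg (Ne.symm hj), mul_zero]), coeff_C_mul, coeff_X_pow,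
        if_pos rfl, mul_one, hform k (by omega), sub_self]
    rw [map_sub, sub_eq_zero] at h4
    rw [h4, map_sum]
    refine Finset.sum_congr rfl fun k _ => ?_
    rw [map_mul, aeval_X_pow, aeval_C, Algebra.smul_def, map_mul, map_pow, mul_pow,
      IsScalarTower.algebraMap_apply ℚ A (B (n + 1))]
    ring
  refine ⟨x, fun R _ _ f hf => ?_⟩
  letI : Algebra ℚ R := ((algebraMap A R).comp (algebraMap ℚ A)).toAlgebra
  obtain ⟨t, ⟨n, hn⟩, rfl⟩ := exists_eN hf
  have hn1 : t ^ (n + 1) = 0 := by rw [pow_succ, hn, zero_mul]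
  let τ : B (n + 1) →ₐ[A] R := AdjoinRoot.liftAlgHom _ (Algebra.ofId A R) t (by simpa using hn1)
  have hτ : τ (b (n + 1)) = t := AdjoinRoot.liftAlgHom_root ..
  have hbn : IsNilpotent (b (n + 1)) := ⟨_, hb _⟩
  have h := hv.nat (B (n + 1)) R τ _ (isChar_eN hbn)
  rw [map_eN _ hbn, show τ.toRingHom (b (n + 1)) = t from hτ, main] at h
  rw [h, eval_eN hbn, eval_eN ⟨n, hn⟩, IsNilpotent.map_exp
    ((Commute.all _ _).isNilpotent_mul_right hbn) τ, map_mul, hτ, AlgHom.commutes]

end Groth.Agent.GaExt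

open CategoryTheory CategoryTheory.Limits AlgebraicGeometry Opposite
open MonoidalCategory CartesianMonoidalCategory MonObj

namespace Groth.Agent.GaExt

variable {X : Scheme.{u}} {A : Type u} [CommRing A] {a : Spec (CommRingCat.of A) ⟶ X}

theorem bidual_injective_rat [Algebra ℚ A] (y : A)
    (h : HomSh.evalSect (QuotSh.J Scheme.fppfPrecoverage X) (M := CGrpSh2.Gm Scheme.fppfPrecoverage X)
      (gaS (BGaNotS.gaPt (W := Over.mk a) ((Scheme.ΓSpecIso (CommRingCat.of A)).inv y))) = 0) : y = 0 := by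
  have hε : (DualNumber.eps : DualNumber A) * DualNumber.eps = 0 := DualNumber.eps_mul_eps
  have hn : IsNilpotent (DualNumber.eps : DualNumber A) := ⟨2, by rw [sq, hε]⟩
  have hf : IsChar (eN (DualNumber.eps : DualNumber A)) := isChar_eN hn
  have e := eval_bidual (a := a) y hf
  rw [h] at e
  change (uu (0 : BigSite.sect Scheme.fppfPrecoverage (CGrpSh2.Gm Scheme.fppfPrecoverage X) (OC a (DualNumber A))) :
    Γ((OC a (DualNumber A)).left, ⊤)) = _ at e
  have e1 : (1 : DualNumber A) = (eN (DualNumber.eps : DualNumber A)).eval (algebraMap A (DualNumber A) y) :=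
    (fn_bijective (R := A)).1 ((map_one (fn A (DualNumber A))).trans
      ((uu_zero (X := X) (W := OC a (DualNumber A))).symm.trans e))
  rw [eval_eN hn, exp_sq_zero (by linear_combination (algebraMap A (DualNumber A) y) ^ 2 * hε)] at e1
  simpa [TrivSqZeroExt.algebraMap_eq_inl, DualNumber.snd_mul] using (congrArg TrivSqZeroExt.snd e1).symm

theorem bidual_bijective_rat (hQ : ∀ n : ℕ, 0 < n → IsUnit ((n : Γ(X, ⊤)))) :
    Function.Bijective ((CGrpSh2.toDoubleDual Scheme.fppfPrecoverage (CGrpSh2.Ga Scheme.fppfPrecoverage X)).hom.app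
      (op (Over.mk a))) := by
  let β := (CGrpSh2.toDoubleDual Scheme.fppfPrecoverage (CGrpSh2.Ga Scheme.fppfPrecoverage X)).hom.app (op (Over.mk a))
  have hu : ∀ n : ℕ, 0 < n → IsUnit (n : A) := fun n hn => by
    have h := (hQ n hn).map (a.appTop ≫ (Scheme.ΓSpecIso (CommRingCat.of A)).hom).hom
    rwa [map_natCast] at h
  haveI : Algebra ℚ A := ((EqualCharZero.nonempty_algebraRat_iff A).2 fun I hI => ⟨fun n m e => by
    haveI := Ideal.Quotient.nontrivial_iff.2 hI
    by_contra hne
    wlog hlt : n < m generalizing n m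
    · exact this m n e.symm (Ne.symm hne) (by omega)
    have h := (hu (m - n) (by omega)).map (Ideal.Quotient.mk I)
    rw [map_natCast, Nat.cast_sub hlt.le, ← e, sub_self] at h
    exact not_isUnit_zero h⟩).some
  have hsurjPt : ∀ s, ∃ y : A, gaS (BGaNotS.gaPt (W := Over.mk a) ((Scheme.ΓSpecIso (CommRingCat.of A)).inv y)) = s :=
    fun s => by
    obtain ⟨y, hy⟩ := (ConcreteCategory.bijective_of_isIso (Scheme.ΓSpecIso (CommRingCat.of A)).inv).2
      (Red.gaFn (Additive.toMul (ULift.down s)))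
    exact ⟨y, ULift.ext _ _ (congrArg Additive.ofMul (BGaNotS.gaPt_ext ((BGaNotS.gaFn_gaPt _).trans hy)))⟩
  refine ⟨(injective_iff_map_eq_zero β.hom).2 fun s hs => ?_, fun χ => ?_⟩
  · obtain ⟨y, rfl⟩ := hsurjPt s
    rw [bidual_injective_rat (a := a) y hs]
    exact ULift.ext _ _ (congrArg Additive.ofMul (BGaNotS.gaPt_ext (by
      rw [BGaNotS.gaFn_gaPt, map_zero]
      exact (BGaNotS.gaFn_one (S := X) (W := Over.mk a)).symm)))
  · obtain ⟨y, hy⟩ := exists_eval_rat (isNatural_chiVal χ)
    exact ⟨_, eq_evalSect hy⟩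

/-- Over the rationals the double dual map of the additive group is an isomorphism. -/
theorem isIso_toDoubleDual_Ga_rat (hQ : ∀ n : ℕ, 0 < n → IsUnit ((n : Γ(X, ⊤)))) :
    IsIso (CGrpSh2.toDoubleDual Scheme.fppfPrecoverage (CGrpSh2.Ga Scheme.fppfPrecoverage X)) :=
  isIso_of_affine _ fun b => bidual_bijective_rat (a := b) hQ

end Groth.Agent.GaExt
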