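import Groth.Agent.GaExt.Split
import Groth.Prelude.Def_HRes

/-!
`H¹(X, 𝓗om(G, G_m)) = 0` when torsors over `G` are trivial and units on the square of `G` are constant.
-/

set_option autoImplicit false
set_option backward.isDefEq.respectTransparency false
set_option backward.isDefEq.respectTransparency.types false
set_option linter.style.haveILetI false

universe u

open CategoryTheory CategoryTheory.Limits CategoryTheory.Abelian AlgebraicGeometry Opposite
open MonoidalCategory CartesianMonoidalCategory MonObj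

noncomputable section

namespace Groth.Agent.GaExt

variable {X : Scheme.{u}}


/-- Restriction of sheaves to the site over an object. -/
abbrev P (H : Over X) : BigSite.Ab Scheme.fppfPrecoverage X ⥤ BigSite.Ab Scheme.fppfPrecoverage H.left :=
  BigSite.pullBig Scheme.fppfPrecoverage H.hom AddCommGrpCat.{u + 1}

variable {H : Over X}

/-- An object with a map to `H` as an object over `H`. -/
abbrev toW {Y : Over X} (a : Y ⟶ H) : Over X := (Over.map H.hom).obj (Over.mk a.left)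

def κ {Y : Over X} (a : Y ⟶ H) : Y ⟶ toW a := Over.homMk (𝟙 _) (by simp)

def κ' {Y : Over X} (a : Y ⟶ H) : toW a ⟶ Y := Over.homMk (𝟙 _) (by simp)

theorem κ_κ' {Y : Over X} (a : Y ⟶ H) : κ a ≫ κ' a = 𝟙 Y := Over.OverMorphism.ext (by simp [κ, κ'])

/-- The map on sections at `(Y, a : Y ⟶ H)` of a morphism of restricted sheaves. -/
def fam {E F : BigSite.Ab Scheme.fppfPrecoverage X} (r : (P H).obj E ⟶ (P H).obj F) {Y : Over X} (a : Y ⟶ H) :
    BigSite.sect Scheme.fppfPrecoverage E Y →+ BigSite.sect Scheme.fppfPrecoverage F Y :=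
  ((F.obj.map (κ a).op).hom).comp (((r.hom.app (op (Over.mk a.left))).hom).comp ((E.obj.map (κ' a).op).hom))

theorem fam_apply {E F : BigSite.Ab Scheme.fppfPrecoverage X} (r : (P H).obj E ⟶ (P H).obj F) {Y : Over X}
    (a : Y ⟶ H) (e : BigSite.sect Scheme.fppfPrecoverage E Y) :
    fam r a e = res F (κ a) ((r.hom.app (op (Over.mk a.left))).hom (res E (κ' a) e)) := rfl

theorem fam_res {E F : BigSite.Ab Scheme.fppfPrecoverage X} (r : (P H).obj E ⟶ (P H).obj F) {Y Z : Over X}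
    (k : Z ⟶ Y) (a : Y ⟶ H) (e : BigSite.sect Scheme.fppfPrecoverage E Y) :
    fam r (k ≫ a) (res E k e) = res F k (fam r a e) := by
  let k₀ : Over.mk (k ≫ a).left ⟶ Over.mk a.left := Over.homMk k.left (by simp)
  let k₁ : toW (k ≫ a) ⟶ toW a := (Over.map H.hom).map k₀
  have e1 : κ' (k ≫ a) ≫ k = k₁ ≫ κ' a := Over.OverMorphism.ext (by simp [κ', k₁, k₀])
  have e2 : κ (k ≫ a) ≫ k₁ = k ≫ κ a := Over.OverMorphism.ext (by simp [κ, k₁, k₀])
  have hn : (r.hom.app (op (Over.mk (k ≫ a).left))).hom (res E k₁ (res E (κ' a) e)) =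
      res F k₁ ((r.hom.app (op (Over.mk a.left))).hom (res E (κ' a) e)) :=
    ConcreteCategory.congr_hom (r.hom.naturality k₀.op) (res E (κ' a) e)
  rw [fam_apply, fam_apply, res_res, e1, ← res_res, hn, res_res, e2, res_res]

theorem fam_map_comp {D E F : BigSite.Ab Scheme.fppfPrecoverage X} (f : D ⟶ E) (r : (P H).obj E ⟶ (P H).obj F)
    (q : (P H).obj D ⟶ (P H).obj F) (hq : (P H).map f ≫ r = q) {Y : Over X} (a : Y ⟶ H)
    (d : BigSite.sect Scheme.fppfPrecoverage D Y) : fam r a (app f d) = fam q a d := by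
  rw [fam_apply, fam_apply, ← app_res, ← hq]
  rfl

/-- A morphism of restricted sheaves from a natural family. -/
def ofFam {E F : BigSite.Ab Scheme.fppfPrecoverage X}
    (R : ∀ {Y : Over X}, (Y ⟶ H) → (BigSite.sect Scheme.fppfPrecoverage E Y →+ BigSite.sect Scheme.fppfPrecoverage F Y))
    (hR : ∀ {Y Z : Over X} (k : Z ⟶ Y) (a : Y ⟶ H) (e : BigSite.sect Scheme.fppfPrecoverage E Y),
      R (k ≫ a) (res E k e) = res F k (R a e)) : (P H).obj E ⟶ (P H).obj F :=
  ⟨{ app := fun W => AddCommGrpCat.ofHom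
      (R (Y := (Over.map H.hom).obj W.unop) (Over.homMk W.unop.hom rfl : (Over.map H.hom).obj W.unop ⟶ H))
     naturality := fun W W' k => AddCommGrpCat.ext fun e => by
      have h := hR ((Over.map H.hom).map k.unop) (Over.homMk W.unop.hom rfl : (Over.map H.hom).obj W.unop ⟶ H) e
      rw [show (Over.map H.hom).map k.unop ≫ (Over.homMk W.unop.hom rfl : (Over.map H.hom).obj W.unop ⟶ H) =
        (Over.homMk W'.unop.hom rfl : (Over.map H.hom).obj W'.unop ⟶ H) from
          Over.OverMorphism.ext (Over.w k.unop)] at h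
      exact h }⟩

theorem fam_ofFam {E F : BigSite.Ab Scheme.fppfPrecoverage X}
    (R : ∀ {Y : Over X}, (Y ⟶ H) → (BigSite.sect Scheme.fppfPrecoverage E Y →+ BigSite.sect Scheme.fppfPrecoverage F Y))
    (hR : ∀ {Y Z : Over X} (k : Z ⟶ Y) (a : Y ⟶ H) (e : BigSite.sect Scheme.fppfPrecoverage E Y),
      R (k ≫ a) (res E k e) = res F k (R a e)) {Y : Over X} (a : Y ⟶ H)
    (e : BigSite.sect Scheme.fppfPrecoverage E Y) : fam (ofFam R hR) a e = R a e := by
  rw [fam_apply]
  let p : toW a ⟶ H := Over.homMk a.left rfl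
  show res F (κ a) (R p (res E (κ' a) e)) = R a e
  rw [← hR, res_res, κ_κ', res_id, show κ a ≫ p = a from Over.OverMorphism.ext (by simp [κ, p])]

/-- A sheaf is separated. -/
theorem sect_ext (F : BigSite.Ab Scheme.fppfPrecoverage X) {Y : Over X} (R : Sieve Y)
    (hR : R ∈ QuotSh.J Scheme.fppfPrecoverage X Y) (s t : BigSite.sect Scheme.fppfPrecoverage F Y)
    (h : ∀ {Z : Over X} (k : Z ⟶ Y), R k → res F k s = res F k t) : s = t :=
  ((((isSheaf_iff_isSheaf_of_type _ _).1
    ((sheafCompose (QuotSh.J Scheme.fppfPrecoverage X) (forget AddCommGrpCat.{u + 1})).obj F).property) R hR).isSeparatedFor).ext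
    fun _ k hk => h k hk

/-- The constant sheaf `ℤ`. -/
abbrev cZ (X : Scheme.{u}) : BigSite.Ab Scheme.fppfPrecoverage X :=
  (constantSheaf (QuotSh.J Scheme.fppfPrecoverage X) AddCommGrpCat.{u + 1}).obj (AddCommGrpCat.of (ULift.{u + 1} ℤ))

/-- The constant presheaf `ℤ`. -/
abbrev cP (X : Scheme.{u}) : (Over X)ᵒᵖ ⥤ AddCommGrpCat.{u + 1} :=
  (Functor.const _).obj (AddCommGrpCat.of (ULift.{u + 1} ℤ))

/-- The section `1` of the constant sheaf. -/
def one (Y : Over X) : BigSite.sect Scheme.fppfPrecoverage (cZ X) Y :=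
  ((toSheafify (QuotSh.J Scheme.fppfPrecoverage X) (cP X)).app (op Y)).hom ⟨1⟩

theorem res_one {Y Z : Over X} (k : Z ⟶ Y) : res (cZ X) k (one Y) = one Z :=
  (ConcreteCategory.congr_hom ((toSheafify (QuotSh.J Scheme.fppfPrecoverage X) (cP X)).naturality k.op) ⟨1⟩).symm

theorem exists_local_int {Y : Over X} (s : BigSite.sect Scheme.fppfPrecoverage (cZ X) Y) :
    ∃ R ∈ QuotSh.J Scheme.fppfPrecoverage X Y, ∀ {Z : Over X} (k : Z ⟶ Y), R k →
      ∃ n : ℤ, res (cZ X) k s = n • one Z := by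
  refine ⟨_, Presheaf.imageSieve_mem (QuotSh.J Scheme.fppfPrecoverage X)
    (toSheafify (QuotSh.J Scheme.fppfPrecoverage X) (cP X)) (U := op Y) s, fun {Z} k hk => ?_⟩
  obtain ⟨n, hn⟩ := hk
  refine ⟨n.down, hn.symm.trans ?_⟩
  refine (congrArg ((toSheafify (QuotSh.J Scheme.fppfPrecoverage X) (cP X)).app (op Z)).hom
    (show n = n.down • (⟨1⟩ : ULift.{u + 1} ℤ) from ULift.ext _ _ (show n.down = n.down • (1 : ℤ) by simp))).trans ?_
  exact map_zsmul ((toSheafify (QuotSh.J Scheme.fppfPrecoverage X) (cP X)).app (op Z)).hom n.down ⟨1⟩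

theorem exists_hom_one (F : BigSite.Ab Scheme.fppfPrecoverage X)
    (c : BigSite.sect Scheme.fppfPrecoverage F (Over.mk (𝟙 X))) :
    ∃ φ : cZ X ⟶ F, app φ (one (Over.mk (𝟙 X))) = c := by
  let hT : IsTerminal (Over.mk (𝟙 X)) := Over.mkIdTerminal
  let c' : ULift.{u + 1} ℤ →+ F.obj.obj (op (Over.mk (𝟙 X))) :=
    (zmultiplesHom _ c).comp (AddEquiv.ulift (α := ℤ)).toAddMonoidHom
  refine ⟨((constantSheafAdj (QuotSh.J Scheme.fppfPrecoverage X) AddCommGrpCat.{u + 1} hT).homEquiv _ F).symm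
    (AddCommGrpCat.ofHom c'), ?_⟩
  have h := ((constantSheafAdj (QuotSh.J Scheme.fppfPrecoverage X) AddCommGrpCat.{u + 1} hT).homEquiv _ F).apply_symm_apply
    (AddCommGrpCat.ofHom c')
  rw [Adjunction.homEquiv_unit] at h
  refine Eq.trans ?_ ((ConcreteCategory.congr_hom h (ULift.up 1)).trans (one_zsmul c))
  rfl

variable (G : Over X) [GrpObj G] [IsCommMonObj G]

local notation "DG" => CGrpSh2.dualSh Scheme.fppfPrecoverage (CGrpSh.pts Scheme.fppfPrecoverage G)
local notation "MX" => CGrpSh2.Gm Scheme.fppfPrecoverage X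

/-- Evaluation of a character at a point. -/
def evAt {Y : Over X} (d : BigSite.sect Scheme.fppfPrecoverage DG Y) (a : Y ⟶ G) :
    BigSite.sect Scheme.fppfPrecoverage MX Y :=
  ((HomSh.sectEquiv _ _ _ Y d).hom.app (op (Over.mk (𝟙 Y)))).hom (ULift.up (Additive.ofMul a))

theorem evAt_res {Y Z : Over X} (k : Z ⟶ Y) (d : BigSite.sect Scheme.fppfPrecoverage DG Y) (a : Y ⟶ G) :
    evAt G (res DG k d) (k ≫ a) = res MX k (evAt G d a) := by
  let ψ : (Over.map k).obj (Over.mk (𝟙 Z)) ⟶ Over.mk (𝟙 Y) := Over.homMk k (by simp)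
  exact ConcreteCategory.congr_hom ((HomSh.sectEquiv _ _ _ Y d).hom.naturality ψ.op) (ULift.up (Additive.ofMul a))

theorem evAt_add {Y : Over X} (d : BigSite.sect Scheme.fppfPrecoverage DG Y) (a b : Y ⟶ G) :
    evAt G d (a * b) = evAt G d a + evAt G d b :=
  map_add ((HomSh.sectEquiv _ _ _ Y d).hom.app (op (Over.mk (𝟙 Y)))).hom _ _

/-- The evaluation morphism at the universal point. -/
def evG : (P G).obj DG ⟶ (P G).obj MX :=
  ofFam (fun {Y} a => AddMonoidHom.mk' (fun d => evAt G d a) (fun _ _ => rfl)) (fun k a d => evAt_res G k d a)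

theorem exists_extend {E : BigSite.Ab Scheme.fppfPrecoverage X} (fE : DG ⟶ E) (π : E ⟶ cZ X) (z : fE ≫ π = 0)
    (hT : (ShortComplex.mk fE π z).ShortExact)
    (hPic : ∀ L : G.left.Modules, PicF.IsInvertible L → Nonempty (L ≅ Coh.structureModule G.left)) :
    ∃ r : (P G).obj E ⟶ (P G).obj MX, ∀ {Y : Over X} (a : Y ⟶ G) (d : BigSite.sect Scheme.fppfPrecoverage DG Y),
      fam r a (app fE d) = evAt G d a := by
  haveI : (P G).IsRightAdjoint := (BigSite.shriekAbAdj Scheme.fppfPrecoverage G.hom).isRightAdjoint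
  haveI : PreservesFiniteLimits (P G) := inferInstance
  have hsub : Subsingleton (Ext ((P G).obj (cZ X)) ((P G).obj MX) 1) := by
    have hsub' : Subsingleton (BigSite.H Scheme.fppfPrecoverage G.left ((P G).obj MX) 1) :=
      ext_subsingleton_of_iso ((P G).mapIso (GmPts.gmFIso X) ≪≫ pullUnitsIso G.hom) (subsingleton_H1_units G.left hPic)
    refine subsingleton_of_forall_eq 0 fun y => ?_
    let q := HRes.pullConst Scheme.fppfPrecoverage G.hom (AddCommGrpCat.of (ULift.{u + 1} ℤ))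
    have h := congrArg (fun w => (Ext.mk₀ q.hom).comp w (zero_add 1))
      (Subsingleton.elim (α := BigSite.H Scheme.fppfPrecoverage G.left ((P G).obj MX) 1)
        ((Ext.mk₀ q.inv).comp y (zero_add 1)) 0)
    rwa [Ext.comp_zero, Ext.mk₀_comp_mk₀_assoc, q.hom_inv_id, Ext.mk₀_id_comp] at h
  obtain ⟨r, hr⟩ := Ext.contravariant_sequence_exact₁ (hT.map_of_exact (P G)) _ (Ext.mk₀ (evG G)) (rfl : 1 + 0 = 1)
    (Subsingleton.elim (α := Ext ((P G).obj (cZ X)) ((P G).obj MX) 1) _ _)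
  obtain ⟨r, rfl⟩ := (Ext.mk₀_bijective _ _).2 r
  rw [Ext.mk₀_comp_mk₀] at hr
  have hr' : (P G).map fE ≫ r = evG G := (Ext.mk₀_bijective _ _).1 hr
  refine ⟨r, fun {Y} a d => ?_⟩
  rw [fam_map_comp fE r _ hr', evG, fam_ofFam]
  rfl

/-- The deviation of a family from additivity. -/
theorem exists_correction {E : BigSite.Ab Scheme.fppfPrecoverage X} (fE : DG ⟶ E) (π : E ⟶ cZ X) (z : fE ≫ π = 0)
    (hT : (ShortComplex.mk fE π z).ShortExact) (r : (P G).obj E ⟶ (P G).obj MX)
    (hR : ∀ {Y : Over X} (a : Y ⟶ G) (d : BigSite.sect Scheme.fppfPrecoverage DG Y),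
      fam r a (app fE d) = evAt G d a)
    (hunit : ∀ w : (Γ((G ⊗ G).left, ⊤))ˣ, ∃ v : (Γ((𝟙_ (Over X)).left, ⊤))ˣ,
      Units.map ((toUnit (G ⊗ G)).left.appTop.hom.toMonoidHom) v = w) :
    ∃ h₀ : cZ X ⟶ MX, ∀ {Y : Over X} (a b : Y ⟶ G) (e : BigSite.sect Scheme.fppfPrecoverage E Y),
      fam r (a * b) e + app h₀ (app π e) = fam r a e + app h₀ (app π e) + (fam r b e + app h₀ (app π e)) := by
  let G2 : Over X := G ⊗ G
  haveI : (P G2).IsRightAdjoint := (BigSite.shriekAbAdj Scheme.fppfPrecoverage G2.hom).isRightAdjoint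
  haveI : PreservesFiniteLimits (P G2) := inferInstance
  let Δ : ∀ {Y : Over X}, (Y ⟶ G2) → (BigSite.sect Scheme.fppfPrecoverage E Y →+ BigSite.sect Scheme.fppfPrecoverage MX Y) :=
    fun p => fam r (p ≫ (fst G G * snd G G)) - fam r (p ≫ fst G G) - fam r (p ≫ snd G G)
  have hΔ : ∀ {Y Z : Over X} (k : Z ⟶ Y) (p : Y ⟶ G2) (e : BigSite.sect Scheme.fppfPrecoverage E Y),
      Δ (k ≫ p) (res E k e) = res MX k (Δ p e) := by
    intro Y Z k p e
    show fam r ((k ≫ p) ≫ _) _ - fam r ((k ≫ p) ≫ _) _ - fam r ((k ≫ p) ≫ _) _ =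
      ((CGrpSh2.Gm Scheme.fppfPrecoverage X).obj.map k.op).hom (_ - _ - _)
    rw [map_sub, map_sub, Category.assoc, Category.assoc, Category.assoc, fam_res, fam_res, fam_res]
  have hΔ0 : (P G2).map fE ≫ ofFam Δ hΔ = 0 := by
    apply Sheaf.hom_ext
    ext W d
    show Δ (Over.homMk W.unop.hom rfl : (Over.map G2.hom).obj W.unop ⟶ G2) (app fE d) = 0
    show fam r (_ ≫ _) _ - fam r (_ ≫ _) _ - fam r (_ ≫ _) _ = _
    rw [hR, hR, hR, MonObj.comp_mul, evAt_add, add_sub_cancel_left, sub_self]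
  have hT2 := hT.map_of_exact (P G2)
  haveI := hT2.epi_g
  obtain ⟨h, hh⟩ : ∃ h : (P G2).obj (cZ X) ⟶ (P G2).obj MX, (P G2).map π ≫ h = ofFam Δ hΔ :=
    ⟨hT2.exact.desc (ofFam Δ hΔ) hΔ0, hT2.exact.g_desc _ hΔ0⟩
  have hH : ∀ {Y : Over X} (p : Y ⟶ G2) (e : BigSite.sect Scheme.fppfPrecoverage E Y),
      fam h p (app π e) = Δ p e := by
    intro Y p e
    rw [fam_map_comp π h _ hh, fam_ofFam]
  let uG := fam h (𝟙 G2) (one G2)
  obtain ⟨v, hv⟩ := hunit (GmPts.unitOfPt uG.down.toMul)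
  let c : BigSite.sect Scheme.fppfPrecoverage MX (𝟙_ (Over X)) := ULift.up (Additive.ofMul (GmPts.ptOfUnit v))
  have huc : uG = res MX (toUnit G2) c :=
    ULift.ext _ _ (congrArg Additive.ofMul (pt_eq_toUnit_comp uG.down.toMul v hv))
  obtain ⟨h₀, hh₀⟩ := exists_hom_one MX c
  have hHc : ∀ {Y : Over X} (p : Y ⟶ G2) (s : BigSite.sect Scheme.fppfPrecoverage (cZ X) Y),
      fam h p s = app h₀ s := by
    intro Y p s
    obtain ⟨R, hR', hl⟩ := exists_local_int s
    refine sect_ext MX R hR' _ _ fun {Z} k hk => ?_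
    obtain ⟨n, hn⟩ := hl k hk
    rw [← fam_res, ← app_res, hn, map_zsmul, app, map_zsmul]
    congr 1
    have h1 : fam h (k ≫ p) (one Z) = res MX (toUnit Z) c := by
      have := fam_res h (k ≫ p) (𝟙 G2) (one G2)
      rw [Category.comp_id, res_one] at this
      rw [this]
      show res MX _ uG = _
      rw [huc, res_res, toUnit_unique ((k ≫ p) ≫ toUnit G2) (toUnit Z)]
    rw [h1, ← hh₀]
    refine (app_res h₀ (toUnit Z) (one (Over.mk (𝟙 X)))).symm.trans ?_
    exact congrArg (app h₀) (res_one _)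
  refine ⟨h₀, ?_⟩
  intro Y a b e
  have h1 := hH (lift a b) e
  rw [hHc] at h1
  have h2 : Δ (lift a b) e = fam r (a * b) e - fam r a e - fam r b e := by
    show fam r (_ ≫ _) e - fam r (_ ≫ _) e - fam r (_ ≫ _) e = _
    rw [MonObj.comp_mul, lift_fst, lift_snd]
  rw [h2, sub_sub, eq_sub_iff_add_eq] at h1
  show fam r (a * b) e + app h₀ (app π e) = fam r a e + app h₀ (app π e) + (fam r b e + app h₀ (app π e))
  rw [← h1]
  abel

/-- One component of `toDual`. -/
def dualComp {E : BigSite.Ab Scheme.fppfPrecoverage X}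
    (R : ∀ {Y : Over X}, (Y ⟶ G) → (BigSite.sect Scheme.fppfPrecoverage E Y →+ BigSite.sect Scheme.fppfPrecoverage MX Y))
    (hadd : ∀ {Y : Over X} (a b : Y ⟶ G) (e : BigSite.sect Scheme.fppfPrecoverage E Y), R (a * b) e = R a e + R b e)
    {Z : Over X} (e : BigSite.sect Scheme.fppfPrecoverage E Z) :
    ULift.{u + 1} (Additive (Z ⟶ G)) →+ BigSite.sect Scheme.fppfPrecoverage MX Z :=
  AddMonoidHom.mk' (fun a => R a.down.toMul e) (fun a b => hadd a.down.toMul b.down.toMul e)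

/-- The morphism over `Y` of `toDual`. -/
def dualApp {E : BigSite.Ab Scheme.fppfPrecoverage X}
    (R : ∀ {Y : Over X}, (Y ⟶ G) → (BigSite.sect Scheme.fppfPrecoverage E Y →+ BigSite.sect Scheme.fppfPrecoverage MX Y))
    (hadd : ∀ {Y : Over X} (a b : Y ⟶ G) (e : BigSite.sect Scheme.fppfPrecoverage E Y), R (a * b) e = R a e + R b e)
    (hres : ∀ {Y Z : Over X} (k : Z ⟶ Y) (a : Y ⟶ G) (e : BigSite.sect Scheme.fppfPrecoverage E Y),
      R (k ≫ a) (res E k e) = res MX k (R a e)) {Y : Over X} (e : BigSite.sect Scheme.fppfPrecoverage E Y) :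
    Sheaf.over (CGrpSh.pts Scheme.fppfPrecoverage G) Y ⟶ Sheaf.over (CGrpSh2.Gm Scheme.fppfPrecoverage X) Y where
  hom :=
    { app := fun U => AddCommGrpCat.ofHom (X := ULift.{u + 1} (Additive (U.unop.left ⟶ G)))
        (Y := BigSite.sect Scheme.fppfPrecoverage MX U.unop.left) (dualComp G R hadd (res E U.unop.hom e))
      naturality := fun U U' k => AddCommGrpCat.ext fun a => by
        show R (k.unop.left ≫ a.down.toMul) (res E U'.unop.hom e) =
          res MX k.unop.left (R a.down.toMul (res E U.unop.hom e))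
        exact ((congrArg (fun z => R (k.unop.left ≫ a.down.toMul) z) ((res_res E U.unop.hom k.unop.left e).trans
          (congrArg (fun h => res E h e) (Over.w k.unop)))).symm).trans
            (hres k.unop.left a.down.toMul (res E U.unop.hom e)) }

/-- A family of homomorphisms as a morphism to the dual. -/
def toDual {E : BigSite.Ab Scheme.fppfPrecoverage X}
    (R : ∀ {Y : Over X}, (Y ⟶ G) → (BigSite.sect Scheme.fppfPrecoverage E Y →+ BigSite.sect Scheme.fppfPrecoverage MX Y))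
    (hadd : ∀ {Y : Over X} (a b : Y ⟶ G) (e : BigSite.sect Scheme.fppfPrecoverage E Y), R (a * b) e = R a e + R b e)
    (hres : ∀ {Y Z : Over X} (k : Z ⟶ Y) (a : Y ⟶ G) (e : BigSite.sect Scheme.fppfPrecoverage E Y),
      R (k ≫ a) (res E k e) = res MX k (R a e)) : E ⟶ DG :=
  ⟨{ app := fun T => AddCommGrpCat.ofHom (X := BigSite.sect Scheme.fppfPrecoverage E T.unop)
      (Y := BigSite.sect Scheme.fppfPrecoverage DG T.unop) (AddMonoidHom.mk'
      (fun e => dualApp G R hadd hres e)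
      (fun e e' => by
        apply Sheaf.hom_ext
        ext U a
        show R a.down.toMul ((E.obj.map U.unop.hom.op).hom (e + e')) =
          R a.down.toMul (res E U.unop.hom e) + R a.down.toMul (res E U.unop.hom e')
        rw [map_add, map_add]
        rfl))
     naturality := fun T T' k => AddCommGrpCat.ext fun e => by
      apply Sheaf.hom_ext
      ext U a
      show R a.down.toMul (res E U.unop.hom (res E k.unop e)) = R a.down.toMul (res E (U.unop.hom ≫ k.unop) e)
      rw [res_res] }⟩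

theorem subsingleton_H_one_dual
    (hPic : ∀ L : G.left.Modules, PicF.IsInvertible L → Nonempty (L ≅ Coh.structureModule G.left))
    (hunit : ∀ w : (Γ((G ⊗ G).left, ⊤))ˣ, ∃ v : (Γ((𝟙_ (Over X)).left, ⊤))ˣ,
      Units.map ((toUnit (G ⊗ G)).left.appTop.hom.toMonoidHom) v = w) :
    Subsingleton (BigSite.H Scheme.fppfPrecoverage X DG 1) := by
  refine subsingleton_of_forall_eq 0 fun x => ?_
  let i := Injective.ι DG
  let S₀ := ShortComplex.mk i (cokernel.π i) (cokernel.condition i)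
  have hS₀ : S₀.ShortExact := { exact := ShortComplex.exact_cokernel i }
  obtain ⟨c₀, hc⟩ := Ext.covariant_sequence_exact₁ _ hS₀ x
    (haveI : Injective S₀.X₂ := inferInstanceAs (Injective (Injective.under DG)); Ext.eq_zero_of_injective _) (zero_add 1)
  obtain ⟨c₀, rfl⟩ := (Ext.mk₀_bijective _ _).2 c₀
  obtain ⟨E, fE, π, pr, z, hT, -, -, hcl⟩ := GalNorm.exists_pullback_ext hS₀ c₀
  rw [← hc, ← hcl]
  clear hc hcl
  obtain ⟨r, hR⟩ := exists_extend G fE π z hT hPic
  obtain ⟨h₀, hadd⟩ := exists_correction G fE π z hT r hR hunit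
  let R' : ∀ {Y : Over X}, (Y ⟶ G) → (BigSite.sect Scheme.fppfPrecoverage E Y →+ BigSite.sect Scheme.fppfPrecoverage MX Y) :=
    fun a => fam r a + ((h₀.hom.app _).hom).comp ((π.hom.app _).hom)
  have hR'res : ∀ {Y Z : Over X} (k : Z ⟶ Y) (a : Y ⟶ G) (e : BigSite.sect Scheme.fppfPrecoverage E Y),
      R' (k ≫ a) (res E k e) = res MX k (R' a e) := by
    intro Y Z k a e
    show fam r _ _ + app h₀ (app π (res E k e)) = ((CGrpSh2.Gm Scheme.fppfPrecoverage X).obj.map k.op).hom (_ + _)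
    rw [map_add, fam_res, app_res, app_res]
    rfl
  let Φ : E ⟶ DG := toDual G (E := E) R' (fun a b e => hadd a b e) hR'res
  have hΦ : fE ≫ Φ = 𝟙 DG := by
    apply Sheaf.hom_ext
    ext T d
    apply Sheaf.hom_ext
    ext U a
    show R' a.down.toMul (res E U.unop.hom (app fE d)) = _
    rw [← app_res]
    show fam r _ _ + app h₀ (app π (app fE _)) = _
    have hz : app π (app fE (res DG U.unop.hom d)) = 0 :=
      ConcreteCategory.congr_hom (congrArg (fun q => q.hom.app (op U.unop.left)) z) _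
    refine (congrArg₂ (fun p q : BigSite.sect Scheme.fppfPrecoverage MX U.unop.left => p + q) (hR _ _)
      ((congrArg (app h₀) hz).trans (map_zero _))).trans ((add_zero _).trans ?_)
    refine (res_id MX _).symm.trans ((ConcreteCategory.congr_hom ((HomSh.sectEquiv _ _ _ T.unop d).hom.naturality
      (Over.homMk (𝟙 U.unop.left) (by simp) : U.unop ⟶ (Over.map U.unop.hom).obj (Over.mk (𝟙 U.unop.left))).op) a).symm.trans ?_)
    exact congrArg ((HomSh.sectEquiv _ _ _ T.unop d).hom.app U).hom (res_id (CGrpSh.pts Scheme.fppfPrecoverage G) a)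
  have h0 := congrArg (fun q => hT.extClass.comp (Ext.mk₀ q) (add_zero 1)) hΦ
  rw [← Ext.mk₀_comp_mk₀, ← Ext.comp_assoc_of_third_deg_zero] at h0
  erw [hT.extClass_comp] at h0
  rw [Ext.zero_comp] at h0
  exact (h0.trans (Ext.comp_mk₀_id _)).symm

end Groth.Agent.GaExt
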