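import Groth.Agent.GaExt.Lift
import Groth.Agent.BGaNotS.GaPts
import Groth.Agent.AffineSpaceUnits
import Groth.Agent.GalNorm.Abst

/-!
Extensions of a group scheme by `G_m` split when torsors over it are trivial and units on its square are constant.
-/

set_option autoImplicit false
set_option backward.isDefEq.respectTransparency false
set_option backward.isDefEq.respectTransparency.types false
set_option linter.style.haveILetI false

universe u

open CategoryTheory CategoryTheory.Limits CategoryTheory.Abelian AlgebraicGeometry Opposite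
open MonoidalCategory CartesianMonoidalCategory MonObj

noncomputable section

namespace Groth.Agent.GaExt

variable {X : Scheme.{u}}

/-- Restriction of sections. -/
abbrev res (E : BigSite.Ab Scheme.fppfPrecoverage X) {Y Z : Over X} (k : Z ⟶ Y)
    (s : BigSite.sect Scheme.fppfPrecoverage E Y) : BigSite.sect Scheme.fppfPrecoverage E Z :=
  (E.obj.map k.op).hom s

/-- Application of a morphism to a section. -/
abbrev app {E E' : BigSite.Ab Scheme.fppfPrecoverage X} (φ : E ⟶ E') {Y : Over X}
    (s : BigSite.sect Scheme.fppfPrecoverage E Y) : BigSite.sect Scheme.fppfPrecoverage E' Y :=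
  (φ.hom.app (op Y)).hom s

theorem app_res {E E' : BigSite.Ab Scheme.fppfPrecoverage X} (φ : E ⟶ E') {Y Z : Over X} (k : Z ⟶ Y)
    (s : BigSite.sect Scheme.fppfPrecoverage E Y) : app φ (res E k s) = res E' k (app φ s) :=
  ConcreteCategory.congr_hom (φ.hom.naturality k.op) s

theorem res_res (E : BigSite.Ab Scheme.fppfPrecoverage X) {Y Z W : Over X} (k : Z ⟶ Y) (l : W ⟶ Z)
    (s : BigSite.sect Scheme.fppfPrecoverage E Y) : res E l (res E k s) = res E (l ≫ k) s := by
  rw [res, res, res, op_comp, E.obj.map_comp]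
  rfl

theorem res_id (E : BigSite.Ab Scheme.fppfPrecoverage X) {Y : Over X}
    (s : BigSite.sect Scheme.fppfPrecoverage E Y) : res E (𝟙 Y) s = s := by
  rw [res, op_id, E.obj.map_id]
  rfl

theorem exact_sect {S : ShortComplex (BigSite.Ab Scheme.fppfPrecoverage X)} (hS : S.ShortExact) (Y : Over X)
    (s : BigSite.sect Scheme.fppfPrecoverage S.X₂ Y) (hs : app S.g s = 0) :
    ∃ t : BigSite.sect Scheme.fppfPrecoverage S.X₁ Y, app S.f t = s := by
  let Φ : BigSite.Ab Scheme.fppfPrecoverage X ⥤ AddCommGrpCat.{u + 1} :=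
    sheafToPresheaf (QuotSh.J Scheme.fppfPrecoverage X) AddCommGrpCat.{u + 1} ⋙ (evaluation _ _).obj (op Y)
  haveI : Φ.PreservesZeroMorphisms := { map_zero := fun _ _ => rfl }
  haveI : PreservesFiniteLimits Φ := inferInstance
  haveI := hS.mono_f
  have h : (S.map Φ).Exact := hS.exact.map_of_mono_of_preservesKernel Φ ‹_› inferInstance
  exact (ShortComplex.ab_exact_iff _).1 h s hs

/-- Units of a point of `G_m` detect it. -/
theorem pt_eq_toUnit_comp {Y : Over X} (t : Y ⟶ Red.Gm X) (v : (Γ((𝟙_ (Over X)).left, ⊤))ˣ)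
    (h : Units.map ((toUnit Y).left.appTop.hom.toMonoidHom) v = GmPts.unitOfPt t) :
    t = toUnit Y ≫ GmPts.ptOfUnit v := by
  rw [← GmPts.ptOfUnit_unitOfPt t, ← GmPts.ptOfUnit_unitOfPt (toUnit Y ≫ GmPts.ptOfUnit v), GmPts.unitOfPt_comp,
    GmPts.unitOfPt_ptOfUnit, h]

variable (G : Over X) [GrpObj G] [IsCommMonObj G]

/-- An extension of `G` by `G_m` splits under the two hypotheses. -/
theorem subsingleton_ext_one
    (hPic : ∀ L : G.left.Modules, PicF.IsInvertible L → Nonempty (L ≅ Coh.structureModule G.left))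
    (hunit : ∀ w : (Γ((G ⊗ G).left, ⊤))ˣ, ∃ v : (Γ((𝟙_ (Over X)).left, ⊤))ˣ,
      Units.map ((toUnit (G ⊗ G)).left.appTop.hom.toMonoidHom) v = w) :
    Subsingleton (CGrpSh.ExtS Scheme.fppfPrecoverage G (Red.Gm X) 1) := by
  refine subsingleton_of_forall_eq 0 fun x => ?_
  let M := CGrpSh.pts Scheme.fppfPrecoverage (Red.Gm X)
  let i := Injective.ι M
  let S₀ := ShortComplex.mk i (cokernel.π i) (cokernel.condition i)
  have hS₀ : S₀.ShortExact := { exact := ShortComplex.exact_cokernel i }
  obtain ⟨c, hc⟩ := Ext.covariant_sequence_exact₁ _ hS₀ x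
    (haveI : Injective S₀.X₂ := inferInstanceAs (Injective (Injective.under M)); Ext.eq_zero_of_injective _) (zero_add 1)
  obtain ⟨c, rfl⟩ := (Ext.mk₀_bijective _ _).2 c
  obtain ⟨E, fE, π, pr, z, hT, -, -, hcl⟩ := GalNorm.exists_pullback_ext hS₀ c
  rw [← hc, ← hcl]
  clear hc hcl
  obtain ⟨s, hs⟩ := exists_lift hT (Iso.refl _) G hPic (ULift.up (Additive.ofMul (𝟙 G)))
  let G2 : Over X := G ⊗ G
  let δ : BigSite.sect Scheme.fppfPrecoverage E G2 :=
    res E (fst G G * snd G G) s - res E (fst G G) s - res E (snd G G) s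
  have hres : ∀ {Y : Over X} (a : Y ⟶ G),
      app π (res E a s) = (ULift.up (Additive.ofMul a) : ULift.{u + 1} (Additive (Y ⟶ G))) := by
    intro Y a
    rw [app_res]
    refine (congrArg (res _ a) hs).trans ?_
    exact congrArg (fun b => (ULift.up (Additive.ofMul b) : ULift.{u + 1} (Additive (Y ⟶ G)))) (Category.comp_id a)
  have hδ : app π δ = 0 := by
    have e : app π δ = app π (res E (fst G G * snd G G) s) - app π (res E (fst G G) s) - app π (res E (snd G G) s) := by
      rw [app, map_sub, map_sub]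
    rw [e, hres, hres, hres]
    apply ULift.ext
    show Additive.ofMul (fst G G * snd G G) - Additive.ofMul (fst G G) - Additive.ofMul (snd G G) = 0
    rw [ofMul_mul, add_sub_cancel_left, sub_self]
  obtain ⟨t, ht⟩ := exact_sect hT G2 δ hδ
  obtain ⟨v, hv⟩ := hunit (GmPts.unitOfPt t.down.toMul)
  have htc : t = res M (toUnit G2) (ULift.up (Additive.ofMul (GmPts.ptOfUnit v))) :=
    ULift.ext _ _ (congrArg Additive.ofMul (pt_eq_toUnit_comp t.down.toMul v hv))
  let cE : BigSite.sect Scheme.fppfPrecoverage E (𝟙_ (Over X)) := app fE (ULift.up (Additive.ofMul (GmPts.ptOfUnit v)))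
  have hδc : δ = res E (toUnit G2) cE := by
    rw [← ht, htc]
    exact app_res fE _ _
  let s' : BigSite.sect Scheme.fppfPrecoverage E G := s + res E (toUnit G) cE
  have hadd : ∀ {Y : Over X} (a b : Y ⟶ G), res E (a * b) s' = res E a s' + res E b s' := by
    intro Y a b
    have h1 := congrArg (res E (lift a b)) hδc
    rw [res_res, toUnit_unique (lift a b ≫ toUnit G2) (toUnit Y)] at h1
    have h2 : res E (lift a b) δ = res E (a * b) s - res E a s - res E b s := by
      show (E.obj.map _).hom (_ - _ - _) = _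
      rw [map_sub, map_sub]
      show res E (lift a b) (res E _ s) - res E (lift a b) (res E _ s) - res E (lift a b) (res E _ s) = _
      rw [res_res, res_res, res_res, MonObj.comp_mul, lift_fst, lift_snd]
    rw [h2, sub_sub, sub_eq_iff_eq_add] at h1
    have h3 : ∀ d : Y ⟶ G, res E d s' = res E d s + res E (toUnit Y) cE := by
      intro d
      show (E.obj.map _).hom (_ + _) = _
      rw [map_add]
      show res E d s + res E d (res E _ cE) = _
      rw [res_res, toUnit_unique (d ≫ toUnit G) (toUnit Y)]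
    rw [h3, h3, h3, h1]
    abel
  let φ : CGrpSh.pts Scheme.fppfPrecoverage G ⟶ E :=
    ⟨{ app := fun T => AddCommGrpCat.ofHom (AddMonoidHom.mk'
          (fun a : ULift.{u + 1} (Additive (unop T ⟶ G)) => res E a.down.toMul s')
          (fun a b => hadd a.down.toMul b.down.toMul))
       naturality := fun T T' k => AddCommGrpCat.ext fun a => (res_res E a.down.toMul k.unop s').symm }⟩
  have hφ : φ ≫ π = 𝟙 _ := by
    apply Sheaf.hom_ext
    ext T a
    show app π (res E a.down.toMul s') = a
    have e : app π s' = (ULift.up (Additive.ofMul (𝟙 G)) : ULift.{u + 1} (Additive (G ⟶ G))) := by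
      show (π.hom.app _).hom (_ + _) = _
      rw [map_add]
      have e2 : app π (res E (toUnit G) cE) = 0 := by
        rw [app_res]
        refine (congrArg (res _ (toUnit G)) ?_).trans (map_zero _)
        exact ConcreteCategory.congr_hom (congrArg (fun q => q.hom.app (op (𝟙_ (Over X)))) z) _
      rw [show (π.hom.app (op G)).hom (res E (toUnit G) cE) = 0 from e2, add_zero]
      exact hs
    rw [app_res, e]
    exact congrArg (fun b => (ULift.up (Additive.ofMul b) : ULift.{u + 1} (Additive (unop T ⟶ G)))) (Category.comp_id _)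
  have h0 := congrArg (fun q => (Ext.mk₀ q).comp hT.extClass (zero_add 1)) hφ
  rw [← Ext.mk₀_comp_mk₀, Ext.comp_assoc_of_second_deg_zero] at h0
  erw [hT.comp_extClass] at h0
  rw [Ext.comp_zero] at h0
  exact (h0.trans (Ext.mk₀_id_comp _)).symm

/-- Units on the square of the additive group over a reduced base are constant. -/
theorem units_GaGa [IsReduced X] (w : (Γ((Red.Ga X ⊗ Red.Ga X).left, ⊤))ˣ) :
    ∃ v : (Γ((𝟙_ (Over X)).left, ⊤))ˣ,
      Units.map ((toUnit (Red.Ga X ⊗ Red.Ga X)).left.appTop.hom.toMonoidHom) v = w := by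
  let n : Type u := ULift.{u} (Fin 2)
  let P : Over X := Over.mk (𝔸(n; X) ↘ X)
  let θ : P ⟶ Red.Ga X ⊗ Red.Ga X := lift (BGaNotS.gaPt (W := P) (AffineSpace.coord X ⟨0⟩))
    (BGaNotS.gaPt (W := P) (AffineSpace.coord X ⟨1⟩))
  let ρ : Red.Ga X ⊗ Red.Ga X ⟶ P := Over.homMk
    (AffineSpace.homOfVector (Red.Ga X ⊗ Red.Ga X).hom
      (fun i : n => if i.down = 0 then Red.gaFn (fst (Red.Ga X) (Red.Ga X)) else Red.gaFn (snd (Red.Ga X) (Red.Ga X))))
    (AffineSpace.homOfVector_over _ _)
  have hρ : ρ ≫ θ = 𝟙 _ := by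
    apply CartesianMonoidalCategory.hom_ext
    · rw [Category.assoc, lift_fst, Category.id_comp]
      apply BGaNotS.gaPt_ext
      rw [BGaNotS.gaFn_comp, BGaNotS.gaFn_gaPt]
      exact (AffineSpace.homOfVector_appTop_coord _ _ _).trans (if_pos rfl)
    · rw [Category.assoc, lift_snd, Category.id_comp]
      apply BGaNotS.gaPt_ext
      rw [BGaNotS.gaFn_comp, BGaNotS.gaFn_gaPt]
      exact (AffineSpace.homOfVector_appTop_coord _ _ _).trans (if_neg (show (1 : Fin 2) ≠ 0 from by decide))
  obtain ⟨v, hv, hv'⟩ := AffineSpaceUnits.exists_unit X (θ.left.appTop w) (w.isUnit.map θ.left.appTop.hom)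
  refine ⟨hv.unit, Units.ext ?_⟩
  show (toUnit (Red.Ga X ⊗ Red.Ga X)).left.appTop v = _
  have h1 : (toUnit (Red.Ga X ⊗ Red.Ga X)).left = ρ.left ≫ 𝔸(n; X) ↘ X :=
    Over.toUnit_left.trans (Over.w ρ).symm
  rw [h1, Scheme.Hom.comp_appTop, CommRingCat.comp_apply]
  refine (congrArg ρ.left.appTop hv').trans ?_
  rw [← CommRingCat.comp_apply, ← Scheme.Hom.comp_appTop, ← Over.comp_left, hρ]
  rfl

end Groth.Agent.GaExt
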