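import Groth.Agent.GaExt.H1Ext
import Groth.Agent.GaExt.GaMain
import Groth.Agent.DivDescMod.AffineOpen
import Groth.Prelude.Def_CGrpSh2

/-!
Groups filtered by copies of the additive group.
-/

set_option autoImplicit false
set_option backward.isDefEq.respectTransparency false
set_option backward.isDefEq.respectTransparency.types false
set_option linter.style.haveILetI false

universe u

open CategoryTheory CategoryTheory.Limits CategoryTheory.Abelian AlgebraicGeometry Opposite
open MonoidalCategory CartesianMonoidalCategory MonObj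

noncomputable section

namespace Groth.Agent.GaExt

theorem ext_subsingleton_of_isZero {C : Type*} [Category C] [Abelian C] [HasExt C] {A B : C} (hA : IsZero A) (n : ℕ) :
    Subsingleton (Ext A B n) := by
  refine subsingleton_of_forall_eq 0 fun x => ?_
  rw [← Ext.mk₀_id_comp x, hA.eq_zero_of_src (𝟙 A), Ext.mk₀_zero, Ext.zero_comp]

theorem ext_subsingleton_middle {C : Type*} [Category C] [Abelian C] [HasExt C] {S : ShortComplex C}
    (hS : S.ShortExact) {B : C} {n : ℕ} (h₁ : Subsingleton (Ext S.X₁ B n)) (h₃ : Subsingleton (Ext S.X₃ B n)) :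
    Subsingleton (Ext S.X₂ B n) := by
  refine subsingleton_of_forall_eq 0 fun x => ?_
  obtain ⟨y, rfl⟩ := Ext.contravariant_sequence_exact₂ hS B x (Subsingleton.elim _ _)
  rw [Subsingleton.elim y 0, Ext.comp_zero]

theorem ext_subsingleton_tower {X : Scheme.{u}} (H : BigSite.Ab Scheme.fppfPrecoverage X)
    (n : ℕ) (U : Fin (n + 1) → Over X) [∀ j, GrpObj (U j)] [∀ j, IsCommMonObj (U j)]
    (incl : ∀ j : Fin n, U j.castSucc ⟶ U j.succ) (proj : ∀ j : Fin n, U j.succ ⟶ Red.Ga X)
    [∀ j, IsMonHom (incl j)] [∀ j, IsMonHom (proj j)] (w : ∀ j, incl j ≫ proj j = 1)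
    (hex : ∀ j, (CGrpSh.seq Scheme.fppfPrecoverage (incl j) (proj j) (w j)).ShortExact)
    (h0 : IsZero (CGrpSh.pts Scheme.fppfPrecoverage (U 0)))
    (m : ℕ) (hGa : Subsingleton (Ext (CGrpSh.pts Scheme.fppfPrecoverage (Red.Ga X)) H m)) :
    ∀ j : Fin (n + 1), Subsingleton (Ext (CGrpSh.pts Scheme.fppfPrecoverage (U j)) H m) :=
  Fin.induction (ext_subsingleton_of_isZero h0 m) fun j ih => ext_subsingleton_middle (hex j) ih hGa

/-- The affine line over an affine base. -/
def gaLineIso (R : Type u) [CommRing R] : Red.Ga (Spec (CommRingCat.of R)) ≅ O R (Polynomial R) where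
  hom := toLine (𝟙 _)
  inv := pt R (Polynomial R) Polynomial.X
  hom_inv_id := BGaNotS.gaPt_ext (by
    rw [BGaNotS.gaFn_comp, pt, BGaNotS.gaFn_gaPt, toLine_fn, Polynomial.eval₂_X])
  inv_hom_id := by
    rw [toLine_comp, Category.comp_id]
    refine line_hom_ext ?_
    rw [toLine_fn, Polynomial.eval₂_X, pt, BGaNotS.gaFn_gaPt]
    simp

theorem pic_Ga_field (k : Type u) [Field k] {L : (Red.Ga (Spec (CommRingCat.of k))).left.Modules}
    (hL : PicF.IsInvertible L) : Nonempty (L ≅ Coh.structureModule (Red.Ga (Spec (CommRingCat.of k))).left) :=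
  DivDescMod.nonempty_trivial_of_openImmersion ((Over.forget _).mapIso (gaLineIso k)).hom hL

end Groth.Agent.GaExt
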